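import Cfsg.Agent.Lib.QuadPair.RootSet

/-! A square zero element annihilated by all minimal sandwiches commutes with all minimal elements. -/

namespace Cfsg.Agent.Lib.QuadPair

universe u

variable {k : Type u} [Field k] {M : Type u} [AddCommGroup M] [Module k M] [FiniteDimensional k M]
  {G : Subgroup (LinearMap.GeneralLinearGroup k M)}

local notation "E" => (M →ₗ[k] M)

/-- All sandwiches by minimal elements vanish. -/
def Kill (G : Subgroup (LinearMap.GeneralLinearGroup k M)) (N : E) : Prop :=
  ∀ Q : E, IsMin G Q → Q * N * Q = 0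

theorem exists_two_scalars (h2 : (2 : k) ≠ 0) (hk3 : Nat.card k ≠ 3) :
    ∃ c : k, c ≠ 0 ∧ c ^ 2 - 1 ≠ 0 := by
  classical
  have h4 := three_lt_card h2 hk3
  by_contra hall
  push Not at hall
  have hsub : ∀ c : k, c ∈ ({0, 1, -1} : Finset k) := fun c => by
    by_cases hc : c = 0
    · simp [hc]
    · have := mul_eq_zero.mp (show (c - 1) * (c + 1) = 0 by linear_combination hall c hc)
      rcases this with e | e
      · simp [sub_eq_zero.mp e]
      · simp [eq_neg_of_add_eq_zero_left e]
  let fk : Fintype k := ⟨{0, 1, -1}, hsub⟩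
  rw [ENat.card_eq_coe_fintype_card] at h4
  have hle : Fintype.card k ≤ 3 := Finset.card_le_three
  have : (3 : ℕ) < Fintype.card k := by exact_mod_cast h4
  omega

theorem kill_comm (h2 : (2 : k) ≠ 0) (hk3 : Nat.card k ≠ 3) {N P : E} (hN : Kill G N)
    (hP : Good G P) : Kill G (N * P - P * N) := by
  intro Q hQ
  obtain ⟨t, ht0, ht1⟩ := exists_two_scalars h2 hk3
  set R := P * Q - Q * P with hR
  set S := P * Q * P with hS
  have hQN : Q * N * Q = 0 := hN Q hQ
  set A1 := R * N * Q + Q * N * R with hA1
  set A2 := R * N * R - S * N * Q - Q * N * S with hA2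
  set A3 := -(S * N * R) - R * N * S with hA3
  set A4 := S * N * S with hA4
  have hsum : ∀ c : k, c • A1 + (c * c) • A2 + (c * c * c) • A3 + (c * c * c * c) • A4 = 0 := by
    intro c
    have h := hN _ (hQ.conj (hP.smul c))
    have e : (1 + c • P) * Q * (1 - c • P) = Q + c • R - (c * c) • S := by
      rw [hR, hS]
      simp only [add_mul, mul_sub, mul_one, one_mul, smul_mul_assoc, mul_smul_comm, smul_smul,
        smul_sub, smul_add]
      module
    rw [e] at h
    rw [← h]
    have expand : (Q + c • R - (c * c) • S) * N * (Q + c • R - (c * c) • S) = Q * N * Q +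
        (c • A1 + (c * c) • A2 + (c * c * c) • A3 + (c * c * c * c) • A4) := by
      rw [hA1, hA2, hA3, hA4]
      simp only [sub_mul, add_mul, mul_sub, mul_add, smul_mul_assoc, mul_smul_comm, smul_smul,
        smul_sub, smul_add, smul_neg]
      module
    rw [expand, hQN, zero_add]
  have hodd : ∀ c : k, c ≠ 0 → A1 + (c * c) • A3 = 0 := by
    intro c hc
    have h1 := hsum c
    have h3 := hsum (-c)
    have : (2 * c) • (A1 + (c * c) • A3) = 0 := by
      rw [show (2 * c) • (A1 + (c * c) • A3) =
        (c • A1 + (c * c) • A2 + (c * c * c) • A3 + (c * c * c * c) • A4) -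
          ((-c) • A1 + (-c * -c) • A2 + (-c * -c * -c) • A3 + (-c * -c * -c * -c) • A4) by module,
        h1, h3, sub_zero]
    exact (smul_eq_zero.mp this).resolve_left (mul_ne_zero h2 hc)
  have e1 := hodd 1 one_ne_zero
  have et := hodd t ht0
  rw [one_mul, one_smul] at e1
  have e3 : A3 = 0 := by
    have : (t ^ 2 - 1) • A3 = 0 := by
      rw [show (t ^ 2 - 1) • A3 = (A1 + (t * t) • A3) - (A1 + A3) by module, et, e1, sub_zero]
    exact (smul_eq_zero.mp this).resolve_left ht1
  rw [e3, add_zero, hA1, hR] at e1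
  have hw : ∀ w : E, Q * (N * (Q * w)) = 0 := fun w => by
    rw [← mul_assoc, ← mul_assoc, hQN, zero_mul]
  have hq' : Q * (N * Q) = 0 := by rw [← mul_assoc, hQN]
  simp only [sub_mul, mul_sub, mul_assoc, hw, hq', mul_zero, sub_zero, zero_sub] at e1 ⊢
  first
    | exact e1
    | (rw [← e1]; abel)

/-- Killed good elements commute with the minimal ones. -/
theorem commute_of_kill (h2 : (2 : k) ≠ 0) (hk3 : Nat.card k ≠ 3) (hG : IsQuadraticPair G)
    {N : E} (hN : Good G N) (hK : Kill G N) {P : E} (hP : IsMin G P) : N * P = P * N := by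
  have hK1 := kill_comm h2 hk3 hK hP.good
  have hK2 := kill_comm h2 hk3 hK1 hN
  have e2 : (N * P - P * N) * N - N * (N * P - P * N) = (2 : k) • (N * P * N) := by
    have hw : ∀ w : E, N * (N * w) = 0 := fun w => by rw [← mul_assoc, hN.sq, zero_mul]
    simp only [sub_mul, mul_sub, mul_assoc, hN.sq, hw, mul_zero, sub_zero, zero_sub]
    module
  rw [e2] at hK2
  have hg := good_comm h2 hP.good hN (hK P hP)
  have hzero : N * P * N = 0 := by
    by_contra h0
    have hX : IsMin G (N * P * N) :=
      hP.of_rk_le hg.2 h0 ((rk_mul_le_left _ _).trans (rk_mul_le_right _ _))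
    obtain ⟨g, -, h⟩ := exists_partner h2 hk3 hG hX
    have := hK2 _ h.min_right
    rw [mul_smul_comm, smul_mul_assoc] at this
    exact h.symm.ne_zero ((smul_eq_zero.mp this).resolve_left h2)
  rw [← sub_eq_zero]
  by_contra h0
  have hX : IsMin G (N * P - P * N) := by
    refine hP.of_rk_le ?_ h0 ?_
    · have := hg.1.neg
      rwa [neg_sub] at this
    refine le_trans ?_ (rk_mul_add_le hzero)
    refine le_trans (Submodule.finrank_mono ?_)
      (Submodule.finrank_add_le_finrank_add_finrank _ _)
    rintro _ ⟨m, rfl⟩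
    rw [LinearMap.sub_apply]
    exact sub_mem (Submodule.mem_sup_left ⟨m, rfl⟩) (Submodule.mem_sup_right ⟨m, rfl⟩)
  obtain ⟨g, -, h⟩ := exists_partner h2 hk3 hG hX
  exact h.symm.ne_zero (hK1 _ h.min_right)

end Cfsg.Agent.Lib.QuadPair
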