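import Cfsg.Agent.Lib.QuadPair.RootSet

/-! A square zero element meeting a minimal one splits off a minimal summand. -/

namespace Cfsg.Agent.Lib.QuadPair

open Polynomial
open scoped MatrixGroups

universe u

variable {k : Type u} [Field k] {M : Type u} [AddCommGroup M] [Module k M] [FiniteDimensional k M]
  {G : Subgroup (LinearMap.GeneralLinearGroup k M)}

local notation "E" => (M →ₗ[k] M)

theorem range_sandwich (h2 : (2 : k) ≠ 0) (hk3 : Nat.card k ≠ 3) {N P : E} (hN : Good G N)
    (hP : IsMin G P) (h : P * N * P ≠ 0) :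
    LinearMap.range (P * N * P) = LinearMap.range P := by
  have hNw : ∀ w : E, N * (N * w) = 0 := fun w => by rw [← mul_assoc, hN.sq, zero_mul]
  have hPw : ∀ w : E, P * (P * w) = 0 := fun w => by rw [← mul_assoc, hP.good.sq, zero_mul]
  have hrP : LinearMap.range (P * N * P : E) ≤ LinearMap.range P := by
    rw [mul_assoc]; exact LinearMap.range_comp_le_range _ P
  have hprod : ∀ N' : E, P * ((1 + N') * P * (1 - N')) * P = (P * N' * P) * (-(N' * P)) := fun N' => by
    simp only [add_mul, mul_sub, mul_add, mul_one, one_mul, mul_neg, mul_assoc, hP.good.sq, hPw,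
      sub_mul, mul_zero, zero_mul, add_zero, zero_add, zero_sub]
  by_cases h5 : P * N * P * (N * P) = 0
  swap
  · have hz : P * ((1 + N) * P * (1 - N)) * P ≠ 0 := by
      rw [hprod, mul_neg]; exact neg_ne_zero.mpr h5
    rcases type_cases h2 hk3 hP (hP.conj hN) with ⟨a, -⟩ | ⟨a, -⟩
    · exact absurd a hz
    · refine le_antisymm hrP ?_
      rw [← a, hprod]
      exact LinearMap.range_comp_le_range _ _
  exfalso
  have h5' : P * (N * (P * (N * P))) = 0 := by rw [← h5]; simp only [mul_assoc]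
  have h5w : ∀ w : E, P * (N * (P * (N * (P * w)))) = 0 := fun w => by
    have := congrArg (· * w) h5'
    simpa [mul_assoc] using this
  have z1 : P * ((1 + N) * P * (1 - N)) * P = 0 := by rw [hprod, mul_neg, h5, neg_zero]
  have z2 : P * ((1 + -N) * P * (1 - -N)) * P = 0 := by
    rw [hprod]
    simp [mul_assoc, h5']
  have g1 := (good_comm h2 hP.good (hP.good.conj hN) z1).1
  have g2 := (good_comm h2 hP.good (hP.good.conj hN.neg) z2).1.neg
  set W := P * N * P * N - N * P * N * P with hW
  have e1 : P * ((1 + N) * P * (1 - N)) - (1 + N) * P * (1 - N) * P =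
      (2 : k) • (P * N * P) - W := by
    rw [hW]
    simp only [add_mul, mul_sub, mul_add, mul_one, one_mul, mul_assoc, hP.good.sq, hPw, sub_mul,
      mul_zero, add_zero, zero_sub, sub_zero]
    module
  have e2 : -(P * ((1 + -N) * P * (1 - -N)) - (1 + -N) * P * (1 - -N) * P) =
      (2 : k) • (P * N * P) + W := by
    rw [hW]
    simp only [add_mul, mul_sub, mul_add, mul_one, one_mul, mul_assoc, hP.good.sq, hPw, sub_mul,
      mul_zero, add_zero, zero_sub, sub_zero, mul_neg, neg_mul, neg_neg, sub_neg_eq_add]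
    module
  rw [e1] at g1
  rw [e2] at g2
  have t1 : (P * N * P) * (P * N * P) = 0 := by simp only [mul_assoc, hPw, mul_zero]
  have t2 : (P * N * P) * W = 0 := by
    simp only [hW, mul_sub, mul_assoc, hPw, h5w, mul_zero, sub_zero]
  have t3 : W * (P * N * P) = 0 := by
    simp only [hW, sub_mul, mul_assoc, hPw, h5', mul_zero, sub_zero]
  have t4 : W * W = 0 := by
    simp only [hW, sub_mul, mul_sub, mul_assoc, hNw, hPw, h5', h5w, mul_zero, sub_zero]
  have hg : Good G (P * N * P) := by
    have := (g1.add g2 (by simp [mul_add, sub_mul, smul_mul_assoc, mul_smul_comm, t1, t2, t3, t4])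
      (by simp [add_mul, mul_sub, smul_mul_assoc, mul_smul_comm, t1, t2, t3, t4])).smul
      ((2 : k)⁻¹ * (2 : k)⁻¹)
    convert this using 1
    match_scalars <;> field_simp <;> ring
  have hle : rk (P * N * P) ≤ rk P := rk_mul_le_right _ _
  have heq : LinearMap.range (P * N * P : E) = LinearMap.range P :=
    Submodule.eq_of_le_of_finrank_le hrP (hP.le_rk _ hg h)
  apply h
  refine LinearMap.ext fun m => ?_
  obtain ⟨y, hy⟩ : P m ∈ LinearMap.range (P * N * P : E) := by rw [heq]; exact ⟨m, rfl⟩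
  rw [LinearMap.zero_apply, show (P * N * P : E) m = (P * N) (P m) from rfl, ← hy,
    ← Module.End.mul_apply, show P * N * (P * N * P) = 0 by rw [← h5']; simp only [mul_assoc],
    LinearMap.zero_apply]

section Plane

variable {N P : M →ₗ[k] M} {A : Type u} [CommRing A] [Algebra k A]

/-- The coordinates on the plane spanned by the images of `N P` and `P`. -/
structure Coords (N P : M →ₗ[k] M) (u : A) (ev : A →ₐ[k] Module.End k (LinearMap.range P))
    (pA pB : M →ₗ[k] LinearMap.range P) : Prop where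
  inj : Function.Injective ev
  gen : ∀ a : A, ∃ q : k[X], a = aeval u q
  surj : Function.Surjective (ev u)
  apply_right : ∀ m, P m = (ev u (pA m)).1
  pA_range : ∀ v : LinearMap.range P, pA v.1 = 0
  pA_shift : ∀ v : LinearMap.range P, pA (N v.1) = v
  pB_eq : ∀ m, pB m = pA (N m)

/-- Matrices over `A` as maps on the plane. -/
def PlaneRel (ev : A →ₐ[k] Module.End k (LinearMap.range P))
    (pA pB : M →ₗ[k] LinearMap.range P) (N : M →ₗ[k] M) (g : SL(2, A)) (h : M →ₗ[k] M) : Prop :=
  (∀ v : LinearMap.range P, h (N v.1) = N (ev (g 0 0) v).1 + (ev (g 1 0) v).1) ∧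
  (∀ v : LinearMap.range P, h v.1 = N (ev (g 0 1) v).1 + (ev (g 1 1) v).1) ∧
  (∀ m : M, pA (h m) = ev (g 0 0) (pA m) + ev (g 0 1) (pB m)) ∧
  (∀ m : M, pB (h m) = ev (g 1 0) (pA m) + ev (g 1 1) (pB m))

variable {ev : A →ₐ[k] Module.End k (LinearMap.range P)} {pA pB : M →ₗ[k] LinearMap.range P}
  {u : A}

omit [FiniteDimensional k M] in
theorem PlaneRel.mul {g g' : SL(2, A)} {h h' : M →ₗ[k] M}
    (H : PlaneRel ev pA pB N g h) (H' : PlaneRel ev pA pB N g' h') :
    PlaneRel ev pA pB N (g * g') (h * h') := by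
  obtain ⟨a1, a2, a3, a4⟩ := H
  obtain ⟨b1, b2, b3, b4⟩ := H'
  refine ⟨fun v => ?_, fun v => ?_, fun m => ?_, fun m => ?_⟩ <;>
    simp only [Module.End.mul_apply, Matrix.SpecialLinearGroup.coe_mul, Matrix.mul_apply,
      Fin.sum_univ_two, map_add, map_mul, b1, b2, a1, a2, a3, a4, b3, b4, LinearMap.add_apply,
      Submodule.coe_add] <;> abel

omit [FiniteDimensional k M] in
theorem planeRel_one : PlaneRel ev pA pB N (1 : SL(2, A)) (1 : M →ₗ[k] M) := by
  refine ⟨fun v => ?_, fun v => ?_, fun m => ?_, fun m => ?_⟩ <;> simp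

omit [FiniteDimensional k M] in
theorem Coords.pB_range (C : Coords N P u ev pA pB) (v : LinearMap.range P) : pB v.1 = v := by
  rw [C.pB_eq]; exact C.pA_shift v

omit [FiniteDimensional k M] in
theorem Coords.pB_shift (C : Coords N P u ev pA pB) (hN : Good G N) (m : M) : pB (N m) = 0 := by
  rw [C.pB_eq, ← Module.End.mul_apply, hN.sq, LinearMap.zero_apply, map_zero]

omit [FiniteDimensional k M] in
theorem Coords.rel_up (C : Coords N P u ev pA pB) (hN : Good G N) (c : k) :
    PlaneRel ev pA pB N (up (algebraMap k A c)) (1 + c • N) := by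
  have hNN : ∀ m, N (N m) = 0 := fun m => congrArg (fun e : M →ₗ[k] M => e m) hN.sq
  refine ⟨fun v => ?_, fun v => ?_, fun m => ?_, fun m => ?_⟩ <;>
    simp [up, AlgHom.commutes, Module.algebraMap_end_apply, hNN, C.pB_eq, add_comm]

omit [FiniteDimensional k M] in
theorem Coords.rel_low (C : Coords N P u ev pA pB) (c : k) (hP : P * P = 0) :
    PlaneRel ev pA pB N (low (algebraMap k A c * u)) (1 + c • P) := by
  have hPP : ∀ v : LinearMap.range P, P v.1 = 0 := by
    rintro ⟨_, m, rfl⟩
    exact congrArg (fun e : M →ₗ[k] M => e m) hP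
  refine ⟨fun v => ?_, fun v => ?_, fun m => ?_, fun m => ?_⟩
  · simp [low, AlgHom.commutes, Module.algebraMap_end_apply, C.apply_right (N v.1), C.pA_shift]
  · simp [low, hPP]
  · simp [low, C.apply_right m, C.pA_range]
  · simp [low, AlgHom.commutes, Module.algebraMap_end_apply, C.apply_right m, C.pB_range, add_comm]

theorem Coords.exists_lift (C : Coords N P u ev pA pB) (hN : Good G N) (hP : Good G P)
    {g : SL(2, A)} (hg : g ∈ gamma k u) : ∃ x ∈ G, PlaneRel ev pA pB N g (x : M →ₗ[k] M) ∧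
      PlaneRel ev pA pB N g⁻¹ ((x⁻¹ : LinearMap.GeneralLinearGroup k M) : M →ₗ[k] M) := by
  induction hg using Subgroup.closure_induction with
  | mem g hg =>
    have hgen' : ∀ (X : M →ₗ[k] M) (_ : Good G X) (f : k → SL(2, A)),
        (∀ c, PlaneRel ev pA pB N (f c) (1 + c • X)) → (∀ c, (f c)⁻¹ = f (-c)) → ∀ c,
        ∃ x ∈ G, PlaneRel ev pA pB N (f c) (x : M →ₗ[k] M) ∧
          PlaneRel ev pA pB N (f c)⁻¹
            ((x⁻¹ : LinearMap.GeneralLinearGroup k M) : M →ₗ[k] M) := by
      intro X hX f hf hi c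
      obtain ⟨x, hx, he⟩ := mem_vals.mp (hX.mem c)
      refine ⟨x, hx, he ▸ hf c, ?_⟩
      have hinv : ((x⁻¹ : LinearMap.GeneralLinearGroup k M) : M →ₗ[k] M) = 1 + (-c) • X := by
        rw [val_inv_of_sq (by rw [he, add_sub_cancel_left]; exact (hX.smul c).sq), he]
        module
      rw [hi, hinv]
      exact hf _
    rcases hg with ⟨c, rfl⟩ | ⟨c, rfl⟩
    · exact hgen' N hN _ (C.rel_up hN) (fun c => by rw [up_inv, map_neg]) c
    · exact hgen' P hP _ (fun c => C.rel_low c hP.sq)
        (fun c => by rw [low_inv, map_neg, neg_mul]) c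
  | one =>
    refine ⟨1, one_mem _, ?_, ?_⟩ <;> simpa using planeRel_one
  | mul g g' _ _ ih ih' =>
    obtain ⟨x, hx, a, a'⟩ := ih
    obtain ⟨y, hy, b, b'⟩ := ih'
    exact ⟨x * y, mul_mem hx hy, by rw [Units.val_mul]; exact a.mul b,
      by rw [mul_inv_rev, mul_inv_rev, Units.val_mul]; exact b'.mul a'⟩
  | inv g _ ih =>
    obtain ⟨x, hx, a, a'⟩ := ih
    exact ⟨x⁻¹, inv_mem hx, a', by rw [inv_inv, inv_inv]; exact a⟩

/-- The conjugates of `P` read in the plane. -/
theorem Coords.exists_conj (C : Coords N P u ev pA pB) (hN : Good G N) (hP : IsMin G P)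
    {g : SL(2, A)} (hg : g ∈ gamma k u) : ∃ Q : M →ₗ[k] M, IsMin G Q ∧ ∀ m, Q m =
      N (ev (g 0 1 * u * g 1 1) (pA m) - ev (g 0 1 * u * g 0 1) (pB m)).1 +
        (ev (g 1 1 * u * g 1 1) (pA m) - ev (g 1 1 * u * g 0 1) (pB m)).1 := by
  obtain ⟨x, hx, ⟨-, a2, -, -⟩, ⟨-, -, b3, -⟩⟩ := C.exists_lift hN hP.good hg
  refine ⟨cj x P, hP.cj hx, fun m => ?_⟩
  show (x : M →ₗ[k] M) (P (((x⁻¹ : LinearMap.GeneralLinearGroup k M) : M →ₗ[k] M) m)) = _
  rw [C.apply_right, a2, b3]
  simp [Matrix.SpecialLinearGroup.coe_inv, Matrix.adjugate_fin_two, map_mul, map_add, map_neg,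
    sub_eq_add_neg]

theorem Coords.isUnit_of_surjective (C : Coords N P u ev pA pB) {a : A}
    (ha : Function.Surjective (ev a)) : IsUnit a := by
  have : Module.Finite k A := Module.Finite.of_injective ev.toLinearMap C.inj
  refine isUnit_of_cancel (k := k) fun b hb => C.inj (LinearMap.ext fun v =>
    LinearMap.injective_iff_surjective.mpr ha ?_)
  rw [map_zero, LinearMap.zero_apply, map_zero, ← Module.End.mul_apply, ← map_mul, hb, map_zero,
    LinearMap.zero_apply]

theorem Coords.isUnit_of_lam (C : Coords N P u ev pA pB) (h2 : (2 : k) ≠ 0) (hk3 : Nat.card k ≠ 3)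
    (hN : Good G N) (hP : IsMin G P) {f : A} (hf : f ∈ lam k u) (hf0 : f ≠ 0) : IsUnit f := by
  have hu : IsUnit u := C.isUnit_of_surjective C.surj
  obtain ⟨Q, hQ, hQe'⟩ := C.exists_conj hN hP hf
  have hQe : ∀ m, Q m = N (ev (f * u) (pA m) - ev (f * u * f) (pB m)).1 +
      (ev u (pA m) - ev (u * f) (pB m)).1 := fun m => by rw [hQe']; simp [up]
  have hPQP : ∀ m, (P * Q * P) m = (ev u (-ev (f * u * f) (ev u (pA m)))).1 := fun m => by
    rw [Module.End.mul_apply, Module.End.mul_apply, C.apply_right m, C.apply_right (Q _), hQe,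
      C.pA_range, C.pB_range]
    simp [C.pA_shift, C.pA_range]
  have hpAs : ∀ v : LinearMap.range P, ∃ m, pA m = v := fun v => ⟨N v.1, C.pA_shift v⟩
  rcases type_cases h2 hk3 hP hQ with ⟨a, -⟩ | ⟨a, -⟩
  · exfalso
    have hff : f * f = 0 := by
      have hz : u * (f * u * f) * u = 0 := C.inj (by
        refine LinearMap.ext fun v => ?_
        obtain ⟨m, rfl⟩ := hpAs v
        have := hPQP m
        rw [a, LinearMap.zero_apply] at this
        have h' : ev u (-ev (f * u * f) (ev u (pA m))) = 0 := Subtype.ext this.symm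
        simpa [map_mul, Module.End.mul_apply] using h')
      apply (hu.mul (hu.mul hu)).mul_right_eq_zero.mp
      rw [← hz]; ring
    have hns : ¬ Function.Surjective (ev f) := fun hs =>
      hf0 ((C.isUnit_of_surjective hs).mul_right_eq_zero.mp hff)
    have e3 : f * u * f = 0 := by rw [mul_right_comm, hff, zero_mul]
    have hXe : ∀ m, (P * Q - Q * P) m = (ev (2 * u * u) (ev f (pA m))).1 := fun m => by
      have c1 : ∀ v, ev f (ev u v) = ev u (ev f v) := fun v => by
        rw [← Module.End.mul_apply, ← map_mul, mul_comm, map_mul, Module.End.mul_apply]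
      rw [LinearMap.sub_apply, Module.End.mul_apply, Module.End.mul_apply, C.apply_right m,
        C.apply_right (Q _), hQe, hQe, C.pA_range, C.pB_range, e3]
      simp [C.pA_shift, C.pA_range, c1, map_mul, map_ofNat, Module.End.mul_apply, two_smul,
        Module.End.ofNat_apply]
    have hg := (good_comm h2 hP.good hQ.good a).1
    have hrk : rk (P * Q - Q * P) < rk P := by
      refine lt_of_le_of_lt (Submodule.finrank_mono (show _ ≤
        ((LinearMap.range (ev f)).map (ev (2 * u * u))).map (LinearMap.range P).subtype from ?_)) ?_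
      · rintro _ ⟨m, rfl⟩
        rw [hXe]
        exact ⟨_, ⟨_, ⟨_, rfl⟩, rfl⟩, rfl⟩
      · exact lt_of_le_of_lt ((Submodule.finrank_map_le _ _).trans (Submodule.finrank_map_le _ _))
          (Submodule.finrank_lt (by rwa [Ne, LinearMap.range_eq_top]))
    have hX0 : P * Q - Q * P = 0 := by
      by_contra h0
      exact absurd (hP.le_rk _ hg h0) (not_le.mpr hrk)
    apply hf0
    have hz : 2 * u * u * f = 0 := C.inj (by
      refine LinearMap.ext fun v => ?_
      obtain ⟨m, rfl⟩ := hpAs v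
      have := hXe m
      rw [hX0, LinearMap.zero_apply] at this
      rw [map_mul, Module.End.mul_apply, map_zero, LinearMap.zero_apply]
      exact Subtype.ext this.symm)
    have h2u : IsUnit (2 : A) := by simpa [map_ofNat] using (h2.isUnit).map (algebraMap k A)
    exact ((h2u.mul hu).mul hu).mul_right_eq_zero.mp hz
  · have hs : Function.Surjective (ev (u * (f * u * f) * u)) := by
      rintro ⟨y, hy⟩
      rw [← a] at hy
      obtain ⟨m, rfl⟩ := hy
      refine ⟨-pA m, Subtype.ext ?_⟩
      show _ = (P * Q * P) m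
      rw [hPQP]
      simp [map_mul, Module.End.mul_apply]
    exact isUnit_of_mul_isUnit_left (isUnit_of_mul_isUnit_left
      (isUnit_of_mul_isUnit_right (isUnit_of_mul_isUnit_left (C.isUnit_of_surjective hs))))

/-- The projection of `N` to the plane is good. -/
theorem Coords.good_summand (C : Coords N P u ev pA pB) (h2 : (2 : k) ≠ 0) (hk3 : Nat.card k ≠ 3)
    (hN : Good G N) (hP : IsMin G P) : Good G (N ∘ₗ (LinearMap.range P).subtype ∘ₗ pB) := by
  have : Module.Finite k A := Module.Finite.of_injective ev.toLinearMap C.inj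
  have hu : IsUnit u := C.isUnit_of_surjective C.surj
  have hunit := fun f hf hf0 => C.isUnit_of_lam h2 hk3 hN hP (f := f) hf hf0
  have helem := up_low_mem h2 hk3 C.gen hu hunit
  let L : A → (M →ₗ[k] M) := fun b => N ∘ₗ (LinearMap.range P).subtype ∘ₗ (ev b) ∘ₗ pB
  have hLval : ∀ b m, L b m = N (ev b (pB m)).1 := fun b m => rfl
  have hLadd : ∀ b b', L (b + b') = L b + L b' := fun b b' => LinearMap.ext fun m => by
    simp [hLval]
  have hLmul : ∀ b b', L b * L b' = 0 := fun b b' => LinearMap.ext fun m => by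
    rw [Module.End.mul_apply, hLval, hLval, C.pB_shift hN]
    simp
  have hsq : ∀ a : A, Good G (L (-(a * u * a))) := by
    intro a
    by_cases ha : a = 0
    · subst ha
      rw [show L (-(0 * u * 0)) = (0 : k) • N from LinearMap.ext fun m => by simp [hLval]]
      exact hN.smul 0
    obtain ⟨b, hb⟩ := (hunit a (helem a).1 ha).exists_right_inv
    obtain ⟨Q, hQ, hQe⟩ := C.exists_conj hN hP (g := up a * low (-b) * up a)
      (mul_mem (mul_mem (helem a).1 (helem (-b)).2) (helem a).1)
    have e11 : (up a * low (-b) * up a) 1 1 = 0 := by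
      simp only [Matrix.SpecialLinearGroup.coe_mul, Matrix.mul_apply, Fin.sum_univ_two]
      simp [up, low]
      linear_combination -hb
    have e01 : (up a * low (-b) * up a) 0 1 = a := by
      simp only [Matrix.SpecialLinearGroup.coe_mul, Matrix.mul_apply, Fin.sum_univ_two]
      simp [up, low]
      linear_combination (-a) * hb
    have : L (-(a * u * a)) = Q := LinearMap.ext fun m => by
      rw [hQe, e11, e01, hLval]
      simp
    exact this ▸ hQ.good
  obtain ⟨v, hv⟩ := hu.exists_right_inv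
  have h2u : IsUnit (2 : A) := by simpa [map_ofNat] using (h2.isUnit).map (algebraMap k A)
  obtain ⟨w, hw⟩ := h2u.exists_right_inv
  set c1 := (-v + 1) * w
  set c2 := (-v - 1) * w
  have hd : (1 : A) = -(c1 * u * c1) + -(-(c2 * u * c2)) := by
    simp only [c1, c2]
    linear_combination (-(4 * w * w)) * hv + (-(2 * w) - 1) * hw
  have hneg : L (-(-(c2 * u * c2))) = -L (-(c2 * u * c2)) :=
    LinearMap.ext fun m => by simp [hLval]
  have hX : Good G (L 1) := by
    rw [hd, hLadd, hneg]
    exact (hsq c1).add (hsq c2).neg (by rw [mul_neg, hLmul, neg_zero])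
      (by rw [neg_mul, hLmul, neg_zero])
  have e : L 1 = N ∘ₗ (LinearMap.range P).subtype ∘ₗ pB :=
    LinearMap.ext fun m => by simp [hLval]
  exact e ▸ hX

end Plane

/-- A minimal summand with the same action on the plane. -/
theorem exists_peel (h2 : (2 : k) ≠ 0) (hk3 : Nat.card k ≠ 3) {N P : M →ₗ[k] M} (hN : Good G N)
    (hP : IsMin G P) (h : P * N * P ≠ 0) :
    ∃ X : M →ₗ[k] M, IsMin G X ∧ X * N = 0 ∧ Good G (N - X) ∧ rk (N - X) < rk N := by
  have hr := range_sandwich h2 hk3 hN hP h
  let T : Module.End k (LinearMap.range P) :=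
    (P.rangeRestrict ∘ₗ N ∘ₗ (LinearMap.range P).subtype)
  have hTs : Function.Surjective T := by
    rintro ⟨y, hy⟩
    rw [← hr] at hy
    obtain ⟨m, hm⟩ := hy
    exact ⟨⟨P m, m, rfl⟩, Subtype.ext hm⟩
  let Te := LinearEquiv.ofBijective T ⟨LinearMap.injective_iff_surjective.mpr hTs, hTs⟩
  obtain ⟨pA, hTpA⟩ : ∃ pA : M →ₗ[k] LinearMap.range P, ∀ m, T (pA m) = P.rangeRestrict m :=
    ⟨Te.symm.toLinearMap ∘ₗ P.rangeRestrict, fun m => Te.apply_symm_apply _⟩
  let ev : (k[X] ⧸ RingHom.ker (aeval (R := k) T)) →ₐ[k] Module.End k (LinearMap.range P) :=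
    Ideal.Quotient.liftₐ (RingHom.ker (aeval (R := k) T)) (aeval T) fun q hq => hq
  have hevu : ev (Ideal.Quotient.mkₐ k _ X) = T := aeval_X T
  have hTi : Function.Injective T := LinearMap.injective_iff_surjective.mpr hTs
  have C : Coords N P (Ideal.Quotient.mkₐ k _ X) ev pA (pA ∘ₗ N) := by
    refine ⟨?_, ?_, ?_, ?_, ?_, ?_, fun m => rfl⟩
    · rw [injective_iff_map_eq_zero]
      intro a ha
      obtain ⟨q, rfl⟩ := Ideal.Quotient.mk_surjective a
      exact Ideal.Quotient.eq_zero_iff_mem.mpr ha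
    · intro a
      obtain ⟨q, rfl⟩ := Ideal.Quotient.mk_surjective a
      exact ⟨q, by rw [aeval_algHom_apply, aeval_X_left_apply]; rfl⟩
    · rw [hevu]; exact hTs
    · intro m; rw [hevu, hTpA]; rfl
    · intro v
      apply hTi
      rw [hTpA, map_zero]
      obtain ⟨_, m, rfl⟩ := v
      exact Subtype.ext (congrArg (fun e : M →ₗ[k] M => e m) hP.good.sq)
    · intro v
      apply hTi
      rw [hTpA]
      rfl
  have hX := C.good_summand h2 hk3 hN hP
  set X := N ∘ₗ (LinearMap.range P).subtype ∘ₗ (pA ∘ₗ N) with hXdef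
  have hXv : ∀ m, X m = N (pA (N m)).1 := fun m => rfl
  have hNN : ∀ m, N (N m) = 0 := fun m => congrArg (fun e : M →ₗ[k] M => e m) hN.sq
  have hXN : X * N = 0 := LinearMap.ext fun m => by
    rw [Module.End.mul_apply, hXv, hNN]; simp
  have hNX : N * X = 0 := LinearMap.ext fun m => by rw [Module.End.mul_apply, hXv, hNN]; rfl
  obtain ⟨v0, hv0⟩ : ∃ v : LinearMap.range P, v ≠ 0 := by
    obtain ⟨m, hm⟩ : ∃ m, P m ≠ 0 := by
      by_contra hall
      push Not at hall
      exact hP.ne_zero (LinearMap.ext hall)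
    exact ⟨⟨P m, m, rfl⟩, fun e => hm (congrArg Subtype.val e)⟩
  refine ⟨X, hP.of_rk_le hX ?_ ?_, hXN, ?_, ?_⟩
  · intro e
    apply hv0
    have := congrArg pA (congrArg (fun e : M →ₗ[k] M => e v0.1) e)
    rw [hXv, C.pA_shift, C.pA_shift] at this
    simpa using this
  · refine le_trans (Submodule.finrank_mono (show _ ≤ (LinearMap.range P).map N from ?_))
      (Submodule.finrank_map_le _ _)
    rintro _ ⟨m, rfl⟩
    exact ⟨_, (pA (N m)).2, (hXv m).symm⟩
  · have := hN.add hX.neg (by rw [mul_neg, hNX, neg_zero]) (by rw [neg_mul, hXN, neg_zero])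
    rwa [← sub_eq_add_neg] at this
  · refine Submodule.finrank_lt_finrank_of_lt (lt_of_le_of_ne ?_ fun e => ?_)
    · rintro _ ⟨m, rfl⟩
      exact ⟨m - (pA (N m)).1, by rw [map_sub, LinearMap.sub_apply, hXv]⟩
    · obtain ⟨y, hy⟩ : N v0.1 ∈ LinearMap.range (N - X) := by rw [e]; exact ⟨v0.1, rfl⟩
      have := congrArg pA hy
      rw [LinearMap.sub_apply, map_sub, hXv, C.pA_shift, C.pA_shift] at this
      exact hv0 (this.symm.trans (sub_self _))

end Cfsg.Agent.Lib.QuadPair
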