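import Cfsg.Agent.Lib.QuadPair.Order

/-! The correspondence between matrices over a quotient of `k[X]` and the order of two square zero
elements. -/

namespace Cfsg.Agent.Lib.QuadPair

open Polynomial
open scoped MatrixGroups

variable {k : Type*} [Field k] {R : Type*} [Ring R] [Algebra k R] {A : Type*} [CommRing A]
  [Algebra k A] (π : k[X] →ₐ[k] A) (N P : R)

/-- A polynomial acting trivially on `N` and `P`. -/
def Kills (q : k[X]) : Prop := aeval (cu N P) q * N = 0 ∧ aeval (cu N P) q * P = 0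

/-- Hypothesis making the correspondence well defined. -/
structure Compat : Prop where
  square_left : N * N = 0
  square_right : P * P = 0
  ker : ∀ q, π q = 0 → Kills N P q
  ker_X : ∀ q, π (X * q) = 0 → Kills N P q

/-- `g` corresponds to `h`. -/
def Rel (g : SL(2, A)) (h : R) : Prop :=
  ∃ α δ b c : k[X], g 0 0 = π (1 + X * α) ∧ g 0 1 = π b ∧ g 1 0 = π (X * c) ∧
    g 1 1 = π (1 + X * δ) ∧ h = F N P α δ b c

variable {π N P}

theorem rel_one : Rel π N P 1 1 := ⟨0, 0, 0, 0, by simp, by simp, by simp, by simp, F_zero.symm⟩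

theorem rel_up (c : k) : Rel π N P (up (algebraMap k A c)) (1 + c • N) :=
  ⟨0, 0, C c, 0, by simp, by simp [C_eq_algebraMap], by simp, by simp, by
    simp [F, Algebra.smul_def]⟩

theorem rel_low (c : k) : Rel π N P (low (algebraMap k A c * π X)) (1 + c • P) :=
  ⟨0, 0, 0, C c, by simp, by simp, by simp [C_eq_algebraMap, mul_comm], by simp, by
    simp [F, Algebra.smul_def]⟩

theorem Compat.rel_mul (hc : Compat π N P) {g g' : SL(2, A)} {h h' : R} (H : Rel π N P g h)
    (H' : Rel π N P g' h') : Rel π N P (g * g') (h * h') := by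
  obtain ⟨α, δ, b, c, e00, e01, e10, e11, rfl⟩ := H
  obtain ⟨α', δ', b', c', f00, f01, f10, f11, rfl⟩ := H'
  refine ⟨_, _, _, _, ?_, ?_, ?_, ?_, F_mul hc.square_left hc.square_right α δ b c α' δ' b' c'⟩
  all_goals
    simp [Matrix.mul_apply, Fin.sum_univ_two, e00, e01, e10, e11, f00, f01, f10, f11]
    ring

theorem Compat.rel_unique (hc : Compat π N P) {g : SL(2, A)} {h h' : R} (H : Rel π N P g h)
    (H' : Rel π N P g h') : h = h' := by
  obtain ⟨α, δ, b, c, e00, e01, e10, e11, rfl⟩ := H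
  obtain ⟨α', δ', b', c', f00, f01, f10, f11, rfl⟩ := H'
  have h0 : π (X * (α - α')) = 0 := by
    rw [mul_sub, map_sub, sub_eq_zero]
    have := e00.symm.trans f00
    simpa using this
  have h1 : π (b - b') = 0 := by rw [map_sub, ← e01, f01, sub_self]
  have h2 : π (X * (c - c')) = 0 := by rw [mul_sub, map_sub, ← e10, f10, sub_self]
  have h3 : π (X * (δ - δ')) = 0 := by
    rw [mul_sub, map_sub, sub_eq_zero]
    have := e11.symm.trans f11
    simpa using this
  have q0 := (hc.ker_X _ h0).1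
  have q1 := (hc.ker _ h1).1
  have q2 := (hc.ker_X _ h2).2
  have q3 := (hc.ker_X _ h3).2
  rw [map_sub, sub_mul, sub_eq_zero] at q0 q1 q2 q3
  simp only [F, ← mul_assoc, q0, q1, q2, q3]

theorem Compat.exists_rel (hc : Compat π N P) {S : Submonoid R} (hN : ∀ c : k, 1 + c • N ∈ S)
    (hP : ∀ c : k, 1 + c • P ∈ S) {g : SL(2, A)} (hg : g ∈ gamma k (π X)) :
    ∃ h ∈ S, Rel π N P g h := by
  induction hg using Subgroup.closure_induction_left with
  | one => exact ⟨1, one_mem _, rel_one⟩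
  | mul_left x hx y _ ih =>
    obtain ⟨h, hh, hr⟩ := ih
    rcases hx with ⟨a, rfl⟩ | ⟨a, rfl⟩
    · exact ⟨_, mul_mem (hN a) hh, hc.rel_mul (rel_up a) hr⟩
    · exact ⟨_, mul_mem (hP a) hh, hc.rel_mul (rel_low a) hr⟩
  | inv_mul_cancel x hx y _ ih =>
    obtain ⟨h, hh, hr⟩ := ih
    rcases hx with ⟨a, rfl⟩ | ⟨a, rfl⟩
    · refine ⟨_, mul_mem (hN (-a)) hh, ?_⟩
      have := hc.rel_mul (rel_up (-a)) hr
      rwa [map_neg, ← up_inv] at this
    · refine ⟨_, mul_mem (hP (-a)) hh, ?_⟩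
      have := hc.rel_mul (rel_low (-a)) hr
      rwa [map_neg, neg_mul, ← low_inv] at this

/-- Translations give quadratic elements. -/
theorem Compat.exists_of_mem_lam (hc : Compat π N P) {S : Submonoid R}
    (hN : ∀ c : k, 1 + c • N ∈ S) (hP : ∀ c : k, 1 + c • P ∈ S) {q : k[X]}
    (hq : π q ∈ lam k (π X)) : 1 + aeval (cu N P) q * N ∈ S := by
  obtain ⟨h, hh, hr⟩ := hc.exists_rel hN hP hq
  have : Rel π N P (up (π q)) (1 + aeval (cu N P) q * N) :=
    ⟨0, 0, q, 0, by simp, by simp, by simp, by simp, by simp [F]⟩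
  rwa [← hc.rel_unique hr this]

end Cfsg.Agent.Lib.QuadPair
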