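import Cfsg.Agent.Lib.QuadPair.Nilp
import Cfsg.Agent.Lib.QuadPair.Rel

/-! If `NP` is not nilpotent on the image of `N` then it is bijective there. -/

namespace Cfsg.Agent.Lib.QuadPair

open Polynomial

variable {k : Type*} [Field k] {M : Type*} [AddCommGroup M] [Module k M]
  {G : Subgroup (LinearMap.GeneralLinearGroup k M)}

local notation "E" => (M →ₗ[k] M)

theorem mul_cu_pow {R : Type*} [Ring R] {N P : R} (hN : N * N = 0) (m : ℕ) :
    N * cu N P ^ m = N * (P * N) ^ m := by
  induction m with
  | zero => simp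
  | succ m ih =>
    have h1 : N * cu N P = N * (P * N) := by
      rw [cu, mul_add, ← mul_assoc N N, hN, zero_mul, zero_add]
    have hc : (P * N) ^ m * (N * P) = 0 ∨ m = 0 := by
      rcases m with _ | j
      · exact Or.inr rfl
      · left
        rw [pow_succ, mul_assoc, mul_assoc P N, ← mul_assoc N N, hN, zero_mul, mul_zero, mul_zero]
    rw [pow_succ, ← mul_assoc, ih, mul_assoc]
    rcases hc with hc | rfl
    · rw [cu, mul_add, hc, zero_add, ← pow_succ]
    · simpa using h1

theorem good_of_lam {N P : E} {A : Type*} [CommRing A] [Algebra k A] {π : k[X] →ₐ[k] A}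
    (hc : Compat π N P) (hN : Good G N) (hP : Good G P) {q : k[X]} (hq : π q ∈ lam k (π X)) :
    Good G (aeval (cu N P) q * N) := by
  refine ⟨?_, fun c => ?_⟩
  · rw [mul_assoc, ← mul_assoc N, ← aeval_comm_left hN.sq, mul_assoc, hN.sq, mul_zero, mul_zero]
  · have := hc.exists_of_mem_lam hN.mem hP.mem (q := C c * q) (by
      rw [map_mul, C_eq_algebraMap, AlgHom.commutes, ← Algebra.smul_def]
      exact smul_mem_lam hq c)
    rw [map_mul, aeval_C, mul_assoc, ← Algebra.smul_def] at this
    exact this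

variable [FiniteDimensional k M]

/-- Not nilpotent implies bijective. -/
theorem range_eq_of_not_nilpotent (h2 : (2 : k) ≠ 0) (hk3 : Nat.card k ≠ 3) {N P : E}
    (hN : IsMin G N) (hP : Good G P) (hne : ∀ m : ℕ, N * (P * N) ^ m ≠ 0) :
    LinearMap.range (N * P * N) = LinearMap.range N := by
  by_contra hr
  have hrk : rk (N * P * N) < rk N := by
    refine lt_of_le_of_ne (Submodule.finrank_mono ?_) fun h => hr ?_
    · rw [mul_assoc]; exact LinearMap.range_comp_le_range _ N
    · exact Submodule.eq_of_le_of_finrank_le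
        (by rw [mul_assoc]; exact LinearMap.range_comp_le_range _ N) h.ge
  set μ := minpoly k (cu N P) with hμ
  have hμm : μ.Monic := minpoly.monic (IsIntegral.of_finite k _)
  have hfm : (X * μ).Monic := monic_X.mul hμm
  have : Module.Finite k (AdjoinRoot (X * μ)) := (AdjoinRoot.powerBasis' hfm).finite
  let π : k[X] →ₐ[k] AdjoinRoot (X * μ) := aeval (AdjoinRoot.root (X * μ))
  have hπ : ∀ q, π q = AdjoinRoot.mk (X * μ) q := fun q => AdjoinRoot.aeval_eq q
  have hkill : ∀ q, μ ∣ q → Kills N P q := by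
    rintro _ ⟨r, rfl⟩
    simp [Kills, hμ, minpoly.aeval]
  have hc : Compat π N P :=
    { square_left := hN.good.sq
      square_right := hP.sq
      ker := fun q hq => hkill q <| by
        rw [hπ, AdjoinRoot.mk_eq_zero] at hq
        exact (dvd_mul_left μ X).trans hq
      ker_X := fun q hq => hkill q <| by
        rw [hπ, AdjoinRoot.mk_eq_zero] at hq
        exact (mul_dvd_mul_iff_left X_ne_zero).mp hq }
  have hgen : ∀ a, ∃ q : k[X], a = aeval (π X) q := fun a => by
    obtain ⟨q, rfl⟩ := AdjoinRoot.mk_surjective a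
    exact ⟨q, by rw [show π X = AdjoinRoot.root _ from aeval_X _, AdjoinRoot.aeval_eq]⟩
  have hnil : ¬ IsNilpotent (π X) := by
    rintro ⟨m, hm⟩
    apply hne m
    rw [← mul_cu_pow hN.good.sq]
    rw [← map_pow, hπ, AdjoinRoot.mk_eq_zero] at hm
    obtain ⟨r, hr⟩ := hm
    have := congrArg (aeval (cu N P)) hr
    rw [map_pow, aeval_X, map_mul, map_mul, hμ, minpoly.aeval, mul_zero, zero_mul] at this
    rw [this, mul_zero]
  set n := Module.finrank k M + 1 with hn
  obtain ⟨f, hf, hf0, g, rfl⟩ := exists_deep h2 hk3 hgen hnil n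
  obtain ⟨q, rfl⟩ := AdjoinRoot.mk_surjective g
  rw [← hπ, ← map_pow, ← map_mul] at hf hf0
  have hgood := good_of_lam hc hN.good hP hf
  have hzero : aeval (cu N P) (X ^ n * q) * N = 0 := by
    by_contra h0
    refine absurd (hN.le_rk _ hgood h0) (not_le.mpr (lt_of_le_of_lt ?_ hrk))
    have e : aeval (cu N P) (X ^ n * q) * N =
        aeval (cu N P) (q * X ^ (n - 1)) * (N * P * N) := by
      rw [mul_assoc N P N, NP_N hN.good.sq hP.sq, ← mul_assoc,
        show X ^ n * q = q * X ^ (n - 1) * X by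
          rw [mul_assoc, ← pow_succ, show n - 1 + 1 = n by omega, mul_comm], map_mul, aeval_X]
    rw [e]
    exact rk_mul_le_right _ _
  apply hf0
  have hu : aeval (cu N P) (X ^ n * q) * cu N P = 0 := by
    rw [cu, mul_add, ← mul_assoc, hzero, zero_mul, zero_add, ← mul_assoc,
      aeval_comm_right hP.sq, mul_assoc, hzero, mul_zero]
  have hst : LinearMap.ker (cu N P ^ (n + 1)) = LinearMap.ker (cu N P ^ (n - 1)) := by
    rw [Module.End.ker_pow_eq_ker_pow_finrank_of_le (by omega),
      show n - 1 = Module.finrank k M by omega]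
  have hX : aeval (cu N P) (X ^ (n - 1) * q) = 0 := by
    refine LinearMap.ext fun m => ?_
    have h1 : aeval (cu N P) q m ∈ LinearMap.ker (cu N P ^ (n + 1)) := by
      have : aeval (cu N P) (X ^ (n + 1) * q) = 0 := by
        rw [← hu, show X ^ (n + 1) * q = X ^ n * q * X by ring, map_mul _ (X ^ n * q), aeval_X]
      rw [LinearMap.mem_ker, ← Module.End.mul_apply]
      simpa using congrArg (fun e : E => e m) this
    rw [hst, LinearMap.mem_ker] at h1
    simpa using h1
  have hdvd := minpoly.dvd k _ hX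
  rw [hπ, AdjoinRoot.mk_eq_zero]
  obtain ⟨r, hr⟩ := hdvd
  exact ⟨r, by rw [show X ^ n * q = X * (X ^ (n - 1) * q) by
    rw [← mul_assoc, ← pow_succ', show n - 1 + 1 = n by omega], hr, mul_assoc]⟩

/-- The two types of minimal pairs. -/
theorem type_cases (h2 : (2 : k) ≠ 0) (hk3 : Nat.card k ≠ 3) {N P : E} (hN : IsMin G N)
    (hP : IsMin G P) : (N * P * N = 0 ∧ P * N * P = 0) ∨
      (LinearMap.range (N * P * N) = LinearMap.range N ∧
        LinearMap.range (P * N * P) = LinearMap.range P) := by
  by_cases h : N * P * N = 0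
  · exact Or.inl ⟨h, mul_mul_zero_symm h2 hN hP h⟩
  have h' : ¬ P * N * P = 0 := fun e => h (mul_mul_zero_symm h2 hP hN e)
  exact Or.inr ⟨range_eq_of_not_nilpotent h2 hk3 hN hP.good
      fun m hm => h (mul_mul_zero_of_nilpotent h2 hN m P hP hm),
    range_eq_of_not_nilpotent h2 hk3 hP hN.good
      fun m hm => h' (mul_mul_zero_of_nilpotent h2 hP m N hN hm)⟩

end Cfsg.Agent.Lib.QuadPair
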