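import Cfsg.Agent.Lib.QuadPair.TypeOne

/-! The classes of minimal elements with the same image and kernel. -/

namespace Cfsg.Agent.Lib.QuadPair

open Polynomial
open scoped MatrixGroups

variable {k : Type*} [Field k] {M : Type*} [AddCommGroup M] [Module k M]
  {G : Subgroup (LinearMap.GeneralLinearGroup k M)}

local notation "E" => (M →ₗ[k] M)

/-- Conjugation of endomorphisms by a unit. -/
def cj (g : LinearMap.GeneralLinearGroup k M) (X : E) : E :=
  (g : E) * X * ((g⁻¹ : LinearMap.GeneralLinearGroup k M) : E)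

theorem cj_mul (g : LinearMap.GeneralLinearGroup k M) (X Y : E) :
    cj g X * cj g Y = cj g (X * Y) := by
  simp only [cj, mul_assoc, Units.inv_mul_cancel_left]

theorem cj_inv_cj (g : LinearMap.GeneralLinearGroup k M) (X : E) : cj g⁻¹ (cj g X) = X := by
  simp [cj, mul_assoc]

theorem cj_add (g : LinearMap.GeneralLinearGroup k M) (X Y : E) :
    cj g (X + Y) = cj g X + cj g Y := by
  simp [cj, mul_add, add_mul]

theorem cj_smul (g : LinearMap.GeneralLinearGroup k M) (c : k) (X : E) :
    cj g (c • X) = c • cj g X := by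
  simp [cj, mul_smul_comm, smul_mul_assoc]

theorem cj_one (g : LinearMap.GeneralLinearGroup k M) : cj g 1 = 1 := by simp [cj]

theorem Good.cj {X : E} (hX : Good G X) {g : LinearMap.GeneralLinearGroup k M} (hg : g ∈ G) :
    Good G (QuadPair.cj g X) := by
  refine ⟨by rw [cj_mul, hX.sq]; simp [QuadPair.cj], fun c => ?_⟩
  obtain ⟨x, hx, he⟩ := mem_vals.mp (hX.mem c)
  refine mem_vals.mpr ⟨g * x * g⁻¹, mul_mem (mul_mem hg hx) (inv_mem hg), ?_⟩
  rw [← cj_smul, ← cj_one g, ← cj_add, ← he]
  simp [QuadPair.cj]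

theorem range_cj (g : LinearMap.GeneralLinearGroup k M) (X : E) :
    LinearMap.range (cj g X) = (LinearMap.range X).map (g : E) := by
  have hs : LinearMap.range ((g⁻¹ : LinearMap.GeneralLinearGroup k M) : E) = ⊤ :=
    LinearMap.range_eq_top.mpr fun m => ⟨(g : E) m, by
      rw [← Module.End.mul_apply, Units.inv_mul, Module.End.one_apply]⟩
  rw [cj, mul_assoc, Module.End.mul_eq_comp, LinearMap.range_comp, Module.End.mul_eq_comp,
    LinearMap.range_comp, hs, Submodule.map_top]

theorem IsMin.cj [FiniteDimensional k M] {X : E} (hX : IsMin G X)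
    {g : LinearMap.GeneralLinearGroup k M} (hg : g ∈ G) : IsMin G (QuadPair.cj g X) := by
  refine hX.of_rk_le (hX.good.cj hg) (fun h => hX.ne_zero ?_) ?_
  · rw [← cj_inv_cj g X, h]; simp [QuadPair.cj]
  · unfold rk
    rw [range_cj]
    exact Submodule.finrank_map_le _ _

/-- `X` has the same image and kernel as `N`. -/
def SameAct (X N : E) : Prop :=
  LinearMap.range X = LinearMap.range N ∧ LinearMap.ker X = LinearMap.ker N

/-- The zero map and the good maps with the image and kernel of `N`. -/
structure InCls (G : Subgroup (LinearMap.GeneralLinearGroup k M)) (N X : E) : Prop where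
  good : Good G X
  range_le : LinearMap.range X ≤ LinearMap.range N
  ker_le : LinearMap.ker N ≤ LinearMap.ker X

theorem inCls_self {N : E} (h : Good G N) : InCls G N N := ⟨h, le_rfl, le_rfl⟩

theorem inCls_zero (N : E) : InCls G N (0 : E) :=
  ⟨⟨mul_zero _, fun c => by simp [one_mem]⟩, by simp, by simp⟩

theorem InCls.smul {N X : E} (h : InCls G N X) (c : k) : InCls G N (c • X) :=
  ⟨h.good.smul c, by
    rintro _ ⟨m, rfl⟩
    exact Submodule.smul_mem _ c (h.range_le ⟨m, rfl⟩), fun m hm => by
      rw [LinearMap.mem_ker, LinearMap.smul_apply, LinearMap.mem_ker.mp (h.ker_le hm), smul_zero]⟩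

theorem InCls.mul_eq_zero {N X Y : E} (hN : N * N = 0) (hX : InCls G N X) (hY : InCls G N Y) :
    X * Y = 0 := LinearMap.ext fun m => LinearMap.mem_ker.mp <| hX.ker_le <| by
  obtain ⟨x, hx⟩ := hY.range_le ⟨m, rfl⟩
  rw [LinearMap.mem_ker, ← hx, ← Module.End.mul_apply, hN]
  rfl

theorem InCls.add {N X Y : E} (hN : N * N = 0) (hX : InCls G N X) (hY : InCls G N Y) :
    InCls G N (X + Y) :=
  ⟨hX.good.add hY.good (hX.mul_eq_zero hN hY) (hY.mul_eq_zero hN hX), by
    rintro _ ⟨m, rfl⟩
    exact add_mem (hX.range_le ⟨m, rfl⟩) (hY.range_le ⟨m, rfl⟩), fun m hm => by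
      rw [LinearMap.mem_ker, LinearMap.add_apply, LinearMap.mem_ker.mp (hX.ker_le hm),
        LinearMap.mem_ker.mp (hY.ker_le hm), add_zero]⟩

theorem InCls.cj {N X : E} (h : InCls G N X) {g : LinearMap.GeneralLinearGroup k M} (hg : g ∈ G) :
    InCls G (QuadPair.cj g N) (QuadPair.cj g X) := by
  refine ⟨h.good.cj hg, ?_, ?_⟩
  · rw [range_cj, range_cj]; exact Submodule.map_mono h.range_le
  · intro m hm
    simp only [LinearMap.mem_ker, QuadPair.cj, Module.End.mul_apply] at hm ⊢
    have h1 := congrArg (fun x => ((g⁻¹ : LinearMap.GeneralLinearGroup k M) : E) x) hm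
    simp only [map_zero, ← Module.End.mul_apply, ← mul_assoc, Units.inv_mul, one_mul] at h1
    simp only [Module.End.mul_apply] at h1
    rw [LinearMap.mem_ker.mp (h.ker_le h1), map_zero]

variable [FiniteDimensional k M]

theorem SameAct.rk_eq {X N : E} (h : SameAct X N) : rk X = rk N := by rw [rk, rk, h.1]

theorem InCls.sameAct {N X : E} (hN : IsMin G N) (h : InCls G N X) (h0 : X ≠ 0) : SameAct X N := by
  have hr := Submodule.eq_of_le_of_finrank_le h.range_le (hN.le_rk X h.good h0)
  refine ⟨hr, (Submodule.eq_of_le_of_finrank_le h.ker_le ?_).symm⟩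
  have h1 := LinearMap.finrank_range_add_finrank_ker X
  have h2 := LinearMap.finrank_range_add_finrank_ker N
  rw [hr] at h1
  omega

theorem InCls.isMin {N X : E} (hN : IsMin G N) (h : InCls G N X) (h0 : X ≠ 0) : IsMin G X :=
  hN.of_rk_le h.good h0 (h.sameAct hN h0).rk_eq.le

theorem InCls.trans_sameAct {N N' X : E} (h : InCls G N' X) (hs : SameAct N' N) : InCls G N X :=
  ⟨h.good, hs.1 ▸ h.range_le, hs.2 ▸ h.ker_le⟩

theorem InCls.symm {N X : E} (hN : IsMin G N) (h : InCls G N X) (h0 : X ≠ 0) : InCls G X N :=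
  let hs := h.sameAct hN h0
  ⟨hN.good, hs.1.ge, hs.2.le⟩

theorem IsMin.finrank_inf_ker (f : E) (W : Submodule k M) :
    Module.finrank k (W.map f) + Module.finrank k (W ⊓ LinearMap.ker f : Submodule k M) =
      Module.finrank k W := by
  have h1 := LinearMap.finrank_range_add_finrank_ker (f ∘ₗ W.subtype)
  rw [LinearMap.range_comp, Submodule.range_subtype, LinearMap.ker_comp] at h1
  rwa [← Submodule.map_comap_subtype, ← LinearEquiv.finrank_eq
    (Submodule.equivMapOfInjective W.subtype W.injective_subtype _)]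

theorem range_mul (X Y : E) : LinearMap.range (X * Y) = (LinearMap.range Y).map X :=
  LinearMap.range_comp _ _

/-- The type depends only on images and kernels. -/
theorem typeTwo_iff {N P : E} (hN : IsMin G N) (hP : IsMin G P) :
    TypeTwo G N P ↔ LinearMap.range N ⊓ LinearMap.ker P = ⊥ ∧
      LinearMap.range P ⊓ LinearMap.ker N = ⊥ := by
  constructor
  · intro h
    have aux : ∀ {N P : E}, IsMin G N → LinearMap.range (N * P * N) = LinearMap.range N →
        LinearMap.range N ⊓ LinearMap.ker P = ⊥ := by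
      intro N P _ hr
      have h1 := IsMin.finrank_inf_ker P (LinearMap.range N)
      have h2 : Module.finrank k (LinearMap.range N) ≤ rk (P * N) := by
        rw [← hr, mul_assoc]; exact rk_mul_le_right _ _
      rw [rk, range_mul] at h2
      rw [← Submodule.finrank_eq_zero]
      omega
    exact ⟨aux hN h.range_left, aux hP h.range_right⟩
  · rintro ⟨h1, h2⟩
    have aux : ∀ {N P : E}, rk N = rk P → LinearMap.range N ⊓ LinearMap.ker P = ⊥ →
        LinearMap.range P ⊓ LinearMap.ker N = ⊥ → LinearMap.range (N * P * N) = LinearMap.range N := by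
      intro N P hd h1 h2
      have f1 := IsMin.finrank_inf_ker P (LinearMap.range N)
      have f2 := IsMin.finrank_inf_ker N (LinearMap.range P)
      rw [h1, finrank_bot] at f1
      rw [h2, finrank_bot] at f2
      have e1 : (LinearMap.range N).map P = LinearMap.range P :=
        Submodule.eq_of_le_of_finrank_le LinearMap.map_le_range (by unfold rk at hd; omega)
      rw [mul_assoc, range_mul, range_mul, e1]
      exact Submodule.eq_of_le_of_finrank_le LinearMap.map_le_range (by unfold rk at hd; omega)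
    exact ⟨hN, hP, aux (hN.rk_eq hP) h1 h2, aux (hP.rk_eq hN) h2 h1⟩

theorem TypeTwo.congr {N P N' P' : E} (h : TypeTwo G N P) (hN : InCls G N N') (hN0 : N' ≠ 0)
    (hP : InCls G P P') (hP0 : P' ≠ 0) : TypeTwo G N' P' := by
  obtain ⟨h1, h2⟩ := (typeTwo_iff h.min_left h.min_right).mp h
  rw [typeTwo_iff (hN.isMin h.min_left hN0) (hP.isMin h.min_right hP0),
    (hN.sameAct h.min_left hN0).1, (hN.sameAct h.min_left hN0).2,
    (hP.sameAct h.min_right hP0).1, (hP.sameAct h.min_right hP0).2]
  exact ⟨h1, h2⟩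

theorem typeTwo_of_ne (h2 : (2 : k) ≠ 0) (hk3 : Nat.card k ≠ 3) {N P : E} (hN : IsMin G N)
    (hP : IsMin G P) (h : N * P * N ≠ 0) : TypeTwo G N P := by
  rcases type_cases h2 hk3 hN hP with ⟨a, -⟩ | ⟨a, b⟩
  · exact absurd a h
  · exact ⟨hN, hP, a, b⟩

theorem TypeTwo.ne_zero {N P : E} (h : TypeTwo G N P) : N * P * N ≠ 0 := fun e => by
  have := h.range_left
  rw [e, LinearMap.range_zero, eq_comm, LinearMap.range_eq_bot] at this
  exact h.min_left.ne_zero this

/-- If a pair annihilates then so does every pair from its classes. -/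
theorem annihilate_congr (h2 : (2 : k) ≠ 0) (hk3 : Nat.card k ≠ 3) {N P N' P' : E}
    (hN : IsMin G N) (hP : IsMin G P) (h : N * P * N = 0) (hN' : InCls G N N')
    (hP' : InCls G P P') : N' * P' * N' = 0 ∧ P' * N' * P' = 0 := by
  by_cases hN0 : N' = 0
  · simp [hN0]
  by_cases hP0 : P' = 0
  · simp [hP0]
  have key : ¬ TypeTwo G N' P' := fun hII =>
    (hII.congr (hN'.symm hN hN0) hN.ne_zero (hP'.symm hP hP0) hP.ne_zero).ne_zero h
  have hm := hN'.isMin hN hN0
  have hm' := hP'.isMin hP hP0
  exact ⟨by_contra fun e => key (typeTwo_of_ne h2 hk3 hm hm' e),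
    by_contra fun e => key (typeTwo_of_ne h2 hk3 hm' hm e).symm⟩

/-- Membership in the group attached to a class. -/
theorem mem_sameAction_iff {σ x : LinearMap.GeneralLinearGroup k M}
    (hσ : σ ∈ minimalQuadraticElements G) :
    x ∈ sameActionSubgroup G σ ↔ InCls G ((σ : E) - 1) ((x : E) - 1) := by
  have hN := mem_minimal_iff.mp hσ
  constructor
  · intro hx
    induction hx using Subgroup.closure_induction with
    | mem y hy => exact ⟨(mem_minimal_iff.mp hy.1).good, hy.2.2.le, hy.2.1.ge⟩
    | one => simpa using inCls_zero (G := G) ((σ : E) - 1)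
    | mul a b _ _ ha hb =>
      rw [show ((a * b : LinearMap.GeneralLinearGroup k M) : E) - 1 =
        ((a : E) - 1) + ((b : E) - 1) + ((a : E) - 1) * ((b : E) - 1) by
          rw [Units.val_mul]; noncomm_ring, ha.mul_eq_zero hN.good.sq hb, add_zero]
      exact ha.add hN.good.sq hb
    | inv a _ ha =>
      rw [scalar_unit_inv ha.good.sq (c := 1) (by rw [one_smul, add_sub_cancel]),
        add_sub_cancel_left]
      exact ha.smul _
  · intro hx
    by_cases h0 : (x : E) - 1 = 0
    · rw [show x = 1 from Units.ext (sub_eq_zero.mp h0)]; exact one_mem _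
    · exact Subgroup.subset_closure ⟨mem_minimal_iff.mpr (hx.isMin hN h0),
        (hx.sameAct hN h0).2, (hx.sameAct hN h0).1⟩

/-- A pair of the second type is conjugate. -/
theorem TypeTwo.exists_conj (h2 : (2 : k) ≠ 0) (hk3 : Nat.card k ≠ 3) {N P : E}
    (h : TypeTwo G N P) : ∃ g ∈ G, InCls G P (QuadPair.cj g N) := by
  obtain ⟨b, hb⟩ := h.isUnit_X.exists_right_inv
  obtain ⟨q, rfl⟩ := proj_surjective b
  let W : SL(2, Bring N P) := up 1 * low (-1) * up 1
  have hW : W * up 1 = low (proj N P (X * -q)) * W := by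
    have hneg : proj N P (X * -q) = -1 :=
      ((map_mul _ _ _).trans (congrArg _ (map_neg _ q))).trans ((mul_neg _ _).trans (congrArg Neg.neg hb))
    rw [hneg]
    apply ext2 <;> simp [W, Matrix.mul_apply, Fin.sum_univ_two]
  have he := congrArg (fun g : SL(2, Bring N P) =>
    ((h.hom h2 hk3 g : LinearMap.GeneralLinearGroup k M) : E)) hW
  simp only [map_mul (h.hom h2 hk3), Units.val_mul, h.hom_low] at he
  rw [← map_one (proj N P), h.hom_up, map_one, one_mul, mul_add, add_mul, one_mul, mul_one,
    add_left_cancel_iff] at he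
  refine ⟨h.hom h2 hk3 W, h.hom_mem W, ?_⟩
  have hX : QuadPair.cj (h.hom h2 hk3 W) N = aeval (cu N P) (-q) * P := by
    rw [QuadPair.cj, he, mul_assoc, Units.mul_inv, mul_one]
  refine ⟨h.min_left.good.cj (h.hom_mem W), ?_, ?_⟩
  · rw [hX, aeval_comm_right h.min_right.good.sq]; exact LinearMap.range_comp_le_range _ P
  · rw [hX]; exact fun m hm => by
      rw [LinearMap.mem_ker, Module.End.mul_apply, LinearMap.mem_ker.mp hm, map_zero]

/-- The subspace of a class. -/
def cls {N : E} (hN : Good G N) : Submodule k E where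
  carrier := {X | InCls G N X}
  zero_mem' := inCls_zero N
  add_mem' ha hb := InCls.add hN.sq ha hb
  smul_mem' c _ hx := InCls.smul hx c

theorem finrank_cls_le_of_conj {N P : E} (hN : IsMin G N) (hP : IsMin G P)
    {g : LinearMap.GeneralLinearGroup k M} (hg : g ∈ G) (hc : InCls G P (QuadPair.cj g N)) :
    Module.finrank k (cls hN.good) ≤ Module.finrank k (cls hP.good) := by
  have hne := (hN.cj hg).ne_zero
  let f : cls hN.good →ₗ[k] cls hP.good :=
    { toFun := fun X => ⟨QuadPair.cj g X.1,
        (InCls.cj X.2 hg).trans_sameAct (hc.sameAct hP hne)⟩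
      map_add' := fun X Y => Subtype.ext (cj_add _ _ _)
      map_smul' := fun c X => Subtype.ext (cj_smul _ _ _) }
  refine LinearMap.finrank_le_finrank_of_injective (f := f) fun X Y he => Subtype.ext ?_
  have := congrArg (fun Z : cls hP.good => QuadPair.cj g⁻¹ Z.1) he
  simpa [f, cj_inv_cj] using this

theorem TypeTwo.finrank_cls_eq (h2 : (2 : k) ≠ 0) (hk3 : Nat.card k ≠ 3) {N P : E}
    (h : TypeTwo G N P) :
    Module.finrank k (cls h.min_left.good) = Module.finrank k (cls h.min_right.good) := by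
  obtain ⟨g, hg, hc⟩ := h.exists_conj h2 hk3
  obtain ⟨g', hg', hc'⟩ := h.symm.exists_conj h2 hk3
  exact le_antisymm (finrank_cls_le_of_conj h.min_left h.min_right hg hc)
    (finrank_cls_le_of_conj h.min_right h.min_left hg' hc')

end Cfsg.Agent.Lib.QuadPair
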