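import Cfsg.Agent.Lib.QuadPair.Classes

/-! Annihilating pairs: commuting is a property of the classes, and commutators form one class. -/

namespace Cfsg.Agent.Lib.QuadPair

open Cfsg.Agent.Lib.RootSubgroups

variable {k : Type*} [Field k] {M : Type*} [AddCommGroup M] [Module k M] [FiniteDimensional k M]
  {G : Subgroup (LinearMap.GeneralLinearGroup k M)}

local notation "E" => (M →ₗ[k] M)

theorem commute_mul_mul {R : Type*} [Ring R] {N P : R} (hN : N * N = 0) (hP : P * P = 0)
    (h : N * P = P * N) : N * P * N = 0 ∧ P * N * P = 0 :=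
  ⟨by rw [h, mul_assoc, hN, mul_zero], by rw [mul_assoc, h, ← mul_assoc, hP, zero_mul]⟩

theorem commute_cls_left (h2 : (2 : k) ≠ 0) (hk3 : Nat.card k ≠ 3) {N P N' : E} (hN : IsMin G N)
    (hP : IsMin G P) (h : N * P = P * N) (hN' : InCls G N N') : N' * P = P * N' := by
  obtain ⟨a, -⟩ := commute_mul_mul hN.good.sq hP.good.sq h
  obtain ⟨ha, hb⟩ := annihilate_congr h2 hk3 hN hP a hN' (inCls_self hP.good)
  by_contra hne
  set C := N' * P - P * N' with hC
  have hC0 : C ≠ 0 := sub_ne_zero.mpr hne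
  have hCin : InCls G N C := by
    refine ⟨(good_comm h2 hN'.good hP.good ha).1, ?_, ?_⟩
    · rintro _ ⟨m, rfl⟩
      refine sub_mem (hN'.range_le ⟨P m, rfl⟩) ?_
      obtain ⟨y, hy⟩ := hN'.range_le ⟨m, rfl⟩
      show P (N' m) ∈ _
      rw [← hy, ← Module.End.mul_apply, ← h]
      exact ⟨P y, rfl⟩
    · intro m hm
      have h1 : P m ∈ LinearMap.ker N := by
        rw [LinearMap.mem_ker, ← Module.End.mul_apply, h, Module.End.mul_apply,
          LinearMap.mem_ker.mp hm, map_zero]
      rw [LinearMap.mem_ker, hC, LinearMap.sub_apply, Module.End.mul_apply, Module.End.mul_apply,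
        LinearMap.mem_ker.mp (hN'.ker_le h1), LinearMap.mem_ker.mp (hN'.ker_le hm), map_zero,
        sub_zero]
  have hCP : C * P = 0 := by rw [hC, sub_mul, mul_assoc N', hP.good.sq, mul_zero, hb, sub_zero]
  have hNP : N * P = 0 := LinearMap.ext fun m => by
    have := LinearMap.congr_fun hCP m
    rw [Module.End.mul_apply, LinearMap.zero_apply] at this
    have h1 : P m ∈ LinearMap.ker C := this
    rw [(hCin.sameAct hN hC0).2] at h1
    exact h1
  apply hC0
  refine LinearMap.ext fun m => ?_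
  obtain ⟨y, hy⟩ := hN'.range_le ⟨m, rfl⟩
  have h1 : N' (P m) = 0 := LinearMap.mem_ker.mp (hN'.ker_le (LinearMap.congr_fun hNP m))
  have h3 : P (N' m) = 0 := by
    rw [← hy, ← Module.End.mul_apply, ← h, hNP]; rfl
  simp [hC, h1, h3]

theorem commute_cls (h2 : (2 : k) ≠ 0) (hk3 : Nat.card k ≠ 3) {N P N' P' : E} (hN : IsMin G N)
    (hP : IsMin G P) (h : N * P = P * N) (hN' : InCls G N N') (hP' : InCls G P P') :
    N' * P' = P' * N' := by
  by_cases hN0 : N' = 0
  · simp [hN0]
  exact (commute_cls_left h2 hk3 hP (hN'.isMin hN hN0) (commute_cls_left h2 hk3 hN hP h hN').symm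
    hP').symm

/-- A non-commuting annihilating pair. -/
structure Skew (G : Subgroup (LinearMap.GeneralLinearGroup k M)) (N P : E) : Prop where
  min_left : IsMin G N
  min_right : IsMin G P
  left : N * P * N = 0
  right : P * N * P = 0
  ne : N * P ≠ P * N

theorem Skew.symm {N P : E} (h : Skew G N P) : Skew G P N :=
  ⟨h.min_right, h.min_left, h.right, h.left, h.ne.symm⟩

theorem Skew.congr (h2 : (2 : k) ≠ 0) (hk3 : Nat.card k ≠ 3) {N P N' P' : E} (h : Skew G N P)
    (hN : InCls G N N') (hN0 : N' ≠ 0) (hP : InCls G P P') (hP0 : P' ≠ 0) : Skew G N' P' := by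
  obtain ⟨a, b⟩ := annihilate_congr h2 hk3 h.min_left h.min_right h.left hN hP
  exact ⟨hN.isMin h.min_left hN0, hP.isMin h.min_right hP0, a, b, fun e => h.ne <|
    commute_cls h2 hk3 (hN.isMin h.min_left hN0) (hP.isMin h.min_right hP0) e
      (hN.symm h.min_left hN0) (hP.symm h.min_right hP0)⟩

theorem Skew.isMin_comm (h2 : (2 : k) ≠ 0) {N P : E} (h : Skew G N P) :
    IsMin G (N * P - P * N) :=
  comm_isMin h2 h.min_left h.min_right h.left (sub_ne_zero.mpr h.ne)

theorem Skew.range_ker_comm (h2 : (2 : k) ≠ 0) {N P : E} (h : Skew G N P) :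
    LinearMap.range (N * P - P * N) =
        (LinearMap.range N ⊓ LinearMap.ker P) ⊔ (LinearMap.range P ⊓ LinearMap.ker N) ∧
      LinearMap.ker (N * P - P * N) =
        (LinearMap.range N ⊔ LinearMap.ker P) ⊓ (LinearMap.range P ⊔ LinearMap.ker N) := by
  set C := N * P - P * N with hC
  have hd := h.min_left.rk_eq h.min_right
  have hCd := (h.isMin_comm h2).rk_eq h.min_left
  have f1 := IsMin.finrank_inf_ker P (LinearMap.range N)
  have f2 := IsMin.finrank_inf_ker N (LinearMap.range P)
  rw [← range_mul] at f1 f2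
  have e3 := rk_mul_add_le h.left
  have hCle : LinearMap.range C ≤ LinearMap.range (N * P : E) ⊔ LinearMap.range (P * N : E) := by
    rintro _ ⟨m, rfl⟩
    exact sub_mem (Submodule.mem_sup_left ⟨m, rfl⟩) (Submodule.mem_sup_right ⟨m, rfl⟩)
  have e4 := (Submodule.finrank_mono hCle).trans (Submodule.finrank_add_le_finrank_add_finrank _ _)
  have hNPle : LinearMap.range (N * P : E) ≤ LinearMap.range N ⊓ LinearMap.ker P := by
    rintro _ ⟨m, rfl⟩
    exact ⟨⟨P m, rfl⟩, by
      simpa [mul_assoc] using LinearMap.congr_fun h.right m⟩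
  have hPNle : LinearMap.range (P * N : E) ≤ LinearMap.range P ⊓ LinearMap.ker N := by
    rintro _ ⟨m, rfl⟩
    exact ⟨⟨N m, rfl⟩, by
      simpa [mul_assoc] using LinearMap.congr_fun h.left m⟩
  unfold rk at hd hCd e3
  rw [← hC] at hCd
  constructor
  · refine Submodule.eq_of_le_of_finrank_le (hCle.trans (sup_le_sup hNPle hPNle)) ?_
    refine (Submodule.finrank_add_le_finrank_add_finrank _ _).trans ?_
    omega
  · refine (Submodule.eq_of_le_of_finrank_le ?_ ?_).symm
    · rintro m ⟨h1, h3⟩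
      obtain ⟨_, ⟨r, rfl⟩, κ, hκ, rfl⟩ := Submodule.mem_sup.mp h1
      obtain ⟨_, ⟨s, rfl⟩, κ', hκ', e⟩ := Submodule.mem_sup.mp h3
      have z1 : N (P (N r + κ)) = 0 := by
        rw [map_add, LinearMap.mem_ker.mp hκ, add_zero]
        exact LinearMap.congr_fun (by rw [← mul_assoc]; exact h.left : N * (P * N) = 0) r
      have z2 : P (N (N r + κ)) = 0 := by
        rw [← e, map_add, LinearMap.mem_ker.mp hκ', add_zero]
        exact LinearMap.congr_fun (by rw [← mul_assoc]; exact h.right : P * (N * P) = 0) s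
      rw [LinearMap.mem_ker, hC, LinearMap.sub_apply, Module.End.mul_apply, Module.End.mul_apply,
        z1, z2, sub_zero]
    · have g1 := Submodule.finrank_sup_add_finrank_inf_eq (LinearMap.range N) (LinearMap.ker P)
      have g2 := Submodule.finrank_sup_add_finrank_inf_eq (LinearMap.range P) (LinearMap.ker N)
      have g3 := Submodule.finrank_sup_add_finrank_inf_eq (LinearMap.range N ⊔ LinearMap.ker P) (LinearMap.range P ⊔ LinearMap.ker N)
      have g4 : Module.finrank k ((LinearMap.range N ⊔ LinearMap.ker P) ⊔ (LinearMap.range P ⊔ LinearMap.ker N) : Submodule k M) ≤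
        Module.finrank k M := Submodule.finrank_le _
      have k1 := LinearMap.finrank_range_add_finrank_ker N
      have k2 := LinearMap.finrank_range_add_finrank_ker P
      have k3 := LinearMap.finrank_range_add_finrank_ker C
      omega

theorem Skew.comm_inCls (h2 : (2 : k) ≠ 0) (hk3 : Nat.card k ≠ 3) {N P N' P' : E}
    (h : Skew G N P) (hN : InCls G N N') (hP : InCls G P P') :
    InCls G (N * P - P * N) (N' * P' - P' * N') := by
  by_cases hN0 : N' = 0
  · simpa [hN0] using inCls_zero (G := G) (N * P - P * N)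
  by_cases hP0 : P' = 0
  · simpa [hP0] using inCls_zero (G := G) (N * P - P * N)
  have h' := h.congr h2 hk3 hN hN0 hP hP0
  obtain ⟨a, b⟩ := h.range_ker_comm h2
  obtain ⟨a', b'⟩ := h'.range_ker_comm h2
  have sN := hN.sameAct h.min_left hN0
  have sP := hP.sameAct h.min_right hP0
  exact ⟨(h'.isMin_comm h2).good, by rw [a, a', sN.1, sN.2, sP.1, sP.2],
    by rw [b, b', sN.1, sN.2, sP.1, sP.2]⟩

/-- The two square zero maps and the commutator class satisfy these identities. -/
theorem Skew.mul_comm_eq_zero {N P : E} (h : Skew G N P) :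
    (N * P - P * N) * N = 0 ∧ N * (N * P - P * N) = 0 := by
  constructor
  · rw [sub_mul, h.left, mul_assoc P, h.min_left.good.sq, mul_zero, sub_zero]
  · rw [mul_sub, ← mul_assoc, h.min_left.good.sq, zero_mul, ← mul_assoc, h.left, sub_zero]

/-- A minimal element has a conjugate forming a pair of the second type with it. -/
theorem exists_partner (h2 : (2 : k) ≠ 0) (hk3 : Nat.card k ≠ 3) (hG : IsQuadraticPair G) {C : E}
    (hC : IsMin G C) : ∃ g ∈ G, TypeTwo G C (QuadPair.cj g C) := by
  by_contra hno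
  push Not at hno
  let fam : E → Subgroup (LinearMap.GeneralLinearGroup k M) := fun X =>
    Subgroup.closure {τ : LinearMap.GeneralLinearGroup k M | ∃ c : k, (τ : E) = 1 + c • X}
  let W : Set (Subgroup (LinearMap.GeneralLinearGroup k M)) :=
    {A | ∃ g ∈ G, A = fam (QuadPair.cj g C)}
  have hWG : ∀ A ∈ W, A ≤ G := by
    rintro A ⟨g, hg, rfl⟩
    refine (Subgroup.closure_le _).mpr ?_
    rintro τ ⟨c, hc⟩
    obtain ⟨x, hx, he⟩ := mem_vals.mp ((hC.good.cj hg).mem c)
    rwa [show τ = x from Units.ext (hc.trans he.symm)]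
  have hWW : ∀ A ∈ W, ∀ B ∈ W, IsUnipotentOn (A ⊔ B) := by
    rintro A ⟨g, hg, rfl⟩ B ⟨g', hg', rfl⟩
    rw [← Subgroup.closure_union]
    rcases type_cases h2 hk3 (hC.cj hg) (hC.cj hg') with ⟨a, b⟩ | ⟨a, b⟩
    · exact isUnipotentOn_pair (hC.good.cj hg).sq (hC.good.cj hg').sq a b
    · exfalso
      refine hno (g⁻¹ * g') (mul_mem (inv_mem hg) hg') (typeTwo_of_ne h2 hk3 hC
        (hC.cj (mul_mem (inv_mem hg) hg')) fun e => ?_)
      have he : QuadPair.cj g (C * QuadPair.cj (g⁻¹ * g') C * C) =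
          QuadPair.cj g C * QuadPair.cj g' C * QuadPair.cj g C := by
        rw [← cj_mul, ← cj_mul]
        congr 2
        simp [QuadPair.cj, mul_assoc, mul_inv_rev]
      exact TypeTwo.ne_zero (G := G) ⟨hC.cj hg, hC.cj hg', a, b⟩
        (by rw [← he, e]; simp [QuadPair.cj])
  have hWc : ∀ A ∈ W, ∀ g ∈ G, conjBy A g ∈ W := by
    rintro A ⟨h, hh, rfl⟩ g hg
    refine ⟨g * h, mul_mem hg hh, ?_⟩
    simp only [conjBy, fam, MonoidHom.map_closure]
    congr 1
    have hcj : ∀ (a : LinearMap.GeneralLinearGroup k M) (X : E),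
        QuadPair.cj (g * a) X = QuadPair.cj g (QuadPair.cj a X) := fun a X => by
      simp [QuadPair.cj, mul_assoc, mul_inv_rev]
    ext τ
    constructor
    · rintro ⟨x, ⟨c, hc⟩, rfl⟩
      refine ⟨c, ?_⟩
      rw [hcj, ← cj_smul, ← cj_one g, ← cj_add, ← hc]
      simp [QuadPair.cj]
    · rintro ⟨c, hc⟩
      refine ⟨g⁻¹ * τ * g, ⟨c, ?_⟩, by simp [mul_assoc]⟩
      have hx : ((g⁻¹ * τ * g : LinearMap.GeneralLinearGroup k M) : E) = QuadPair.cj g⁻¹ (τ : E) := by
        simp [QuadPair.cj]
      rw [hx, hc, cj_add, cj_one, cj_smul, hcj, cj_inv_cj]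
  have hU := Unipotent.isUnipotentOn_iSup hWG hWW hWc
  set U := ⨆ A ∈ W, A with hUdef
  obtain ⟨n, hn⟩ := Unipotent.isUnipotentOn_iff.mp hU
  have hn' : ∃ n, Unipotent.aug U ^ n = ⊥ := ⟨n, hn⟩
  classical
  have hspec := Nat.find_spec hn'
  obtain ⟨m0, hm0⟩ := hG.1.1
  have hpos : Nat.find hn' ≠ 0 := fun h0 => by
    rw [h0, pow_zero, Submodule.one_eq_span, Submodule.span_singleton_eq_bot] at hspec
    exact hm0 (LinearMap.congr_fun hspec m0)
  obtain ⟨j, hj⟩ : ∃ j, Nat.find hn' = j + 1 := ⟨Nat.find hn' - 1, by omega⟩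
  obtain ⟨e, he, he0⟩ := (Submodule.ne_bot_iff _).mp (Nat.find_min hn' (m := j) (by omega))
  obtain ⟨m, hm⟩ : ∃ m, e m ≠ 0 := by
    by_contra hall
    push Not at hall
    exact he0 (LinearMap.ext hall)
  let F : Submodule k M :=
    { carrier := {v | ∀ x ∈ U, ((x : E) - 1) v = 0}
      zero_mem' := fun x _ => map_zero _
      add_mem' := fun ha hb x hx => by rw [map_add, ha x hx, hb x hx, add_zero]
      smul_mem' := fun c v hv x hx => by rw [map_smul, hv x hx, smul_zero] }
  have hFne : F ≠ ⊥ := by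
    refine (Submodule.ne_bot_iff _).mpr ⟨e m, fun x hx => ?_, hm⟩
    have : ((x : E) - 1) * e ∈ Unipotent.aug U ^ (j + 1) := by
      rw [pow_succ']; exact Submodule.mul_mem_mul (Unipotent.sub_one_mem hx) he
    rw [← hj, hspec, Submodule.mem_bot] at this
    rw [← Module.End.mul_apply]
    exact LinearMap.congr_fun this m
  have hUn : ∀ g ∈ G, ∀ x ∈ U, g * x * g⁻¹ ∈ U := by
    intro g hg x hx
    have hle : conjBy U g ≤ U := by
      simp only [hUdef, conjBy, Subgroup.map_iSup]
      exact iSup₂_le fun A hA => le_biSup (fun A => A) (hWc A hA g hg)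
    exact hle ⟨x, hx, rfl⟩
  have hFinv : ∀ g ∈ G, ∀ v ∈ F, (g : E) v ∈ F := by
    intro g hg v hv x hx
    have hx' := hUn g⁻¹ (inv_mem hg) x hx
    rw [inv_inv] at hx'
    have := congrArg (g : E) (hv _ hx')
    simpa [mul_assoc, ← Module.End.mul_apply, mul_sub, sub_mul] using this
  have htop := (hG.1.2 F hFinv).resolve_left hFne
  obtain ⟨σ, hσ, he'⟩ := hC.good.exists_unit
  have hσU : σ ∈ U := by
    refine Subgroup.mem_iSup_of_mem (fam (QuadPair.cj 1 C))
      (Subgroup.mem_iSup_of_mem ⟨1, one_mem _, rfl⟩ (Subgroup.subset_closure ⟨1, ?_⟩))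
    simp [QuadPair.cj, ← he']
  refine hC.ne_zero (LinearMap.ext fun v => ?_)
  have hv : v ∈ F := by rw [htop]; trivial
  rw [← he']
  exact hv σ hσU

/-- In a skew pair all three classes have the same dimension. -/
theorem Skew.finrank_cls (h2 : (2 : k) ≠ 0) (hk3 : Nat.card k ≠ 3) (hG : IsQuadraticPair G)
    {N P : E} (h : Skew G N P) :
    Module.finrank k (cls h.min_right.good) = Module.finrank k (cls (h.isMin_comm h2).good) := by
  set C := N * P - P * N with hC
  obtain ⟨g, hg, hW⟩ := exists_partner h2 hk3 hG (h.isMin_comm h2)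
  set W := QuadPair.cj g C with hWdef
  set P₁ := (1 + N) * P * (1 - N) with hP1
  have hP1e : P₁ = P + C := by
    have : N * P * N = 0 := h.left
    rw [hP1, hC, mul_sub, mul_one, add_mul, one_mul, add_mul, this, add_zero]
    abel
  have hP1m := h.min_right.conj h.min_left.good
  obtain ⟨g₁, hg₁, hg₁e⟩ := h.min_left.good.exists_unit
  have hg1' : QuadPair.cj g₁ P = P₁ := by
    have e1 : (g₁ : E) = 1 + N := by rw [← hg₁e, add_sub_cancel]
    rw [QuadPair.cj, scalar_unit_inv h.min_left.good.sq (c := 1) (by rw [one_smul, e1]), e1, hP1,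
      neg_smul, one_smul, sub_eq_add_neg]
  by_cases hP : W * P * W = 0
  · have hne : W * P₁ * W ≠ 0 := by
      rw [hP1e, mul_add, add_mul, hP, zero_add]
      exact hW.symm.ne_zero
    have hII := typeTwo_of_ne h2 hk3 hW.min_right hP1m hne
    have e1 := hII.finrank_cls_eq h2 hk3
    have e2 := hW.finrank_cls_eq h2 hk3
    have l1 := finrank_cls_le_of_conj h.min_right hP1m hg₁
      (by rw [hg1']; exact inCls_self hP1m.good)
    have l2 := finrank_cls_le_of_conj hP1m h.min_right (inv_mem hg₁)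
      (by rw [← hP1, ← hg1', cj_inv_cj]; exact inCls_self h.min_right.good)
    omega
  · have hII := typeTwo_of_ne h2 hk3 hW.min_right h.min_right hP
    have e1 := hII.finrank_cls_eq h2 hk3
    have e2 := hW.finrank_cls_eq h2 hk3
    omega

/-- `ad N` maps the class of `P` onto the class of the commutator. -/
theorem Skew.surjective_ad (h2 : (2 : k) ≠ 0) (hk3 : Nat.card k ≠ 3) (hG : IsQuadraticPair G)
    {N P : E} (h : Skew G N P) {X : E} (hX : InCls G (N * P - P * N) X) :
    ∃ P', InCls G P P' ∧ N * P' - P' * N = X := by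
  let f : cls h.min_right.good →ₗ[k] cls (h.isMin_comm h2).good :=
    { toFun := fun Y => ⟨N * Y.1 - Y.1 * N,
        h.comm_inCls h2 hk3 (inCls_self h.min_left.good) Y.2⟩
      map_add' := fun Y Z => Subtype.ext (by simp [mul_add, add_mul]; abel)
      map_smul' := fun c Y => Subtype.ext (by simp [smul_sub]) }
  have hinj : Function.Injective f := (injective_iff_map_eq_zero f).mpr fun Y hY => by
    by_contra hY0
    have hne := (h.congr h2 hk3 (inCls_self h.min_left.good) h.min_left.ne_zero Y.2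
      (fun e => hY0 (Subtype.ext e))).ne
    exact hne (sub_eq_zero.mp (congrArg Subtype.val hY))
  have hs := (LinearMap.injective_iff_surjective_of_finrank_eq_finrank
    (h.finrank_cls h2 hk3 hG)).mp hinj ⟨X, hX⟩
  obtain ⟨Y, hY⟩ := hs
  exact ⟨Y.1, Y.2, congrArg Subtype.val hY⟩

end Cfsg.Agent.Lib.QuadPair
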