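import Cfsg.Agent.Lib.QuadPair.Split1
import Cfsg.Agent.Lib.Components.Basic

/-! Central decomposition of a quadratic pair. -/

namespace Cfsg.Agent.Lib.QuadPair

open Cfsg.Agent.Lib.RootSubgroups

universe u

variable {k : Type u} [Field k]

/-- The decomposition to be proved. -/
def HasDecomp {M : Type u} [AddCommGroup M] [Module k M]
    (G : Subgroup (LinearMap.GeneralLinearGroup k M)) : Prop :=
  ∃ S : Set (Subgroup (LinearMap.GeneralLinearGroup k M)), S.Finite ∧
    (∀ H ∈ S, H ≤ G ∧ ∀ g ∈ G, conjBy H g = H) ∧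
    (∀ H ∈ S, ∀ H' ∈ S, H ≠ H' → ⁅H, H'⁆ = ⊥) ∧
    (∀ H ∈ S, IsQuasisimple ↥H ∧
      Subgroup.closure (quadraticElements G ∩ (H : Set (LinearMap.GeneralLinearGroup k M))) = H) ∧
    quadraticElements G ⊆ ⋃ H ∈ S, (H : Set (LinearMap.GeneralLinearGroup k M))

variable {M : Type u} [AddCommGroup M] [Module k M] [FiniteDimensional k M]
  {G : Subgroup (LinearMap.GeneralLinearGroup k M)}

local notation "E" => (M →ₗ[k] M)
local notation "GL" => LinearMap.GeneralLinearGroup k M

theorem conjBy_eq_of_le_normalizer {X : Type*} [Group X] {H K : Subgroup X}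
    (h : K ≤ Subgroup.normalizer (H : Set X)) {g : X} (hg : g ∈ K) : conjBy H g = H := by
  ext x
  constructor
  · rintro ⟨z, hz, rfl⟩
    exact (Subgroup.mem_normalizer_iff.mp (h hg) z).mp hz
  · intro hx
    refine ⟨g⁻¹ * x * g, (Subgroup.mem_normalizer_iff.mp (h hg) _).mpr ?_, by simp [mul_assoc]⟩
    simpa [mul_assoc] using hx

/-- The quadratic elements centralizing the root part. -/
abbrev outerSet (G : Subgroup GL) : Set GL :=
  quadraticElements G ∩ (Subgroup.centralizer (rootGroup G : Set GL) : Set GL)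

/-- The group they generate. -/
abbrev outerGroup (G : Subgroup GL) : Subgroup GL := Subgroup.closure (outerSet G)

omit [FiniteDimensional k M] in
theorem outerGroup_le_centralizer :
    outerGroup G ≤ Subgroup.centralizer (rootGroup G : Set GL) :=
  (Subgroup.closure_le _).mpr fun _ hx => hx.2

omit [FiniteDimensional k M] in
theorem outerGroup_le : outerGroup G ≤ G := (Subgroup.closure_le _).mpr fun _ hx => hx.1.1

theorem le_sup_outer (h2 : (2 : k) ≠ 0) (hk3 : Nat.card k ≠ 3) (hG : IsQuadraticPair G) :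
    G ≤ rootGroup G ⊔ outerGroup G := by
  refine (le_of_eq hG.2.symm).trans ((Subgroup.closure_le _).mpr fun q hq => ?_)
  rcases dichotomy h2 hk3 hG hq with ⟨A, -, hA⟩ | hC
  · exact Subgroup.mem_sup_left (partGroup_le_rootGroup A hA)
  · exact Subgroup.mem_sup_right (Subgroup.subset_closure ⟨hq, hC⟩)

/-- An invariant subspace for the outer group on which it acts faithfully and irreducibly. -/
theorem exists_module (h2 : (2 : k) ≠ 0) (hk3 : Nat.card k ≠ 3) (hG : IsQuadraticPair G)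
    {σ : GL} (hσ : σ ∈ minimalQuadraticElements G) :
    ∃ U : Submodule k M, Module.finrank k U < Module.finrank k M ∧
      (∀ g ∈ outerGroup G, ∀ u ∈ U, (g : E) u ∈ U) ∧ U ≠ ⊥ ∧
      (∀ V ≤ U, (∀ g ∈ outerGroup G, ∀ u ∈ V, (g : E) u ∈ V) → V = ⊥ ∨ V = U) ∧
      (∀ T : E, (∀ g ∈ rootGroup G, (g : E) * T = T * (g : E)) → (∀ u ∈ U, T u = 0) → T = 0) := by
  classical
  have hN := mem_minimal_iff.mp hσ
  set V0 := LinearMap.ker ((σ : E) - 1)
  have hσR : σ ∈ rootGroup G :=
    le_biSup (fun C : Subgroup GL => C)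
      (show sameActionSubgroup G σ ∈ quadraticRootSubgroups G from ⟨σ, hσ, rfl⟩) (self_mem hσ)
  have hV0inv : ∀ g ∈ outerGroup G, ∀ u ∈ V0, (g : E) u ∈ V0 := by
    intro g hg u hu
    have := (Subgroup.mem_centralizer_iff.mp (outerGroup_le_centralizer hg) σ hσR)
    have hv : ((σ : E) - 1) * (g : E) = (g : E) * ((σ : E) - 1) := by
      rw [sub_mul, mul_sub, one_mul, mul_one, ← Units.val_mul, ← Units.val_mul, this]
    rw [LinearMap.mem_ker, ← Module.End.mul_apply, hv, Module.End.mul_apply,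
      LinearMap.mem_ker.mp hu, map_zero]
  have hV0bot : V0 ≠ ⊥ := by
    intro e
    apply hN.ne_zero
    refine LinearMap.ext fun m => ?_
    have : ((σ : E) - 1) m ∈ V0 := congrArg (fun f : E => f m) hN.good.sq
    rw [e, Submodule.mem_bot] at this
    exact this
  have hV0lt : Module.finrank k V0 < Module.finrank k M :=
    Submodule.finrank_lt fun e => hN.ne_zero (LinearMap.ker_eq_top.mp e)
  have hex : ∃ n, ∃ U : Submodule k M, (∀ g ∈ outerGroup G, ∀ u ∈ U, (g : E) u ∈ U) ∧ U ≠ ⊥ ∧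
      Module.finrank k U = n := ⟨_, V0, hV0inv, hV0bot, rfl⟩
  obtain ⟨U, hUinv, hUbot, hUn⟩ := Nat.find_spec hex
  have hmin : Module.finrank k U ≤ Module.finrank k V0 := by
    rw [hUn]; exact Nat.find_min' hex ⟨V0, hV0inv, hV0bot, rfl⟩
  refine ⟨U, lt_of_le_of_lt hmin hV0lt, hUinv, hUbot, fun V hV hVi => ?_, ?_⟩
  · by_cases hb : V = ⊥
    · exact Or.inl hb
    · exact Or.inr (Submodule.eq_of_le_of_finrank_le hV
        (by rw [hUn]; exact Nat.find_min' hex ⟨V, hVi, hb, rfl⟩))
  intro T hT hTU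
  let W : Submodule k M :=
    { carrier := {v | ∀ T : E, (∀ g ∈ rootGroup G, (g : E) * T = T * (g : E)) →
        (∀ u ∈ U, T u = 0) → T v = 0}
      zero_mem' := fun T _ _ => map_zero T
      add_mem' := fun ha hb T h1 h2 => by rw [map_add, ha T h1 h2, hb T h1 h2, add_zero]
      smul_mem' := fun c v hv T h1 h2 => by rw [map_smul, hv T h1 h2, smul_zero] }
  let K : Subgroup GL :=
    { carrier := {g | ∀ v ∈ W, (g : E) v ∈ W ∧ ((g⁻¹ : GL) : E) v ∈ W}
      one_mem' := fun v hv => by simpa using hv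
      mul_mem' := fun {a b} ha hb v hv => by
        rw [mul_inv_rev, Units.val_mul, Units.val_mul, Module.End.mul_apply, Module.End.mul_apply]
        exact ⟨(ha _ (hb v hv).1).1, (hb _ (ha v hv).2).2⟩
      inv_mem' := fun {a} ha v hv => by rw [inv_inv]; exact ⟨(ha v hv).2, (ha v hv).1⟩ }
  have hroot : ∀ g ∈ rootGroup G, ∀ v ∈ W, (g : E) v ∈ W := by
    intro g hg v hv T h1 h2'
    rw [← Module.End.mul_apply, ← h1 g hg, Module.End.mul_apply, hv T h1 h2', map_zero]
  have hout : ∀ g ∈ outerGroup G, ∀ v ∈ W, (g : E) v ∈ W := by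
    intro g hg v hv T h1 h2'
    refine hv (T * (g : E)) (fun x hx => ?_) (fun u hu => h2' _ (hUinv g hg u hu))
    rw [← mul_assoc, h1 x hx, mul_assoc, mul_assoc, ← Units.val_mul, ← Units.val_mul,
      Subgroup.mem_centralizer_iff.mp (outerGroup_le_centralizer hg) x hx]
  have hGK : G ≤ K := (le_sup_outer h2 hk3 hG).trans (sup_le
    (fun g hg v hv => ⟨hroot g hg v hv, hroot g⁻¹ (inv_mem hg) v hv⟩)
    (fun g hg v hv => ⟨hout g hg v hv, hout g⁻¹ (inv_mem hg) v hv⟩))
  have hUW : U ≤ W := fun u hu T _ h => h u hu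
  rcases hG.1.2 W (fun g hg v hv => (hGK hg v hv).1) with hb | ht
  · exact absurd (le_bot_iff.mp (hb ▸ hUW)) hUbot
  · refine LinearMap.ext fun v => ?_
    have hv : v ∈ W := by rw [ht]; trivial
    exact hv T hT hTU

/-- The restriction of the outer group to an invariant subspace. -/
noncomputable def outerHom (U : Submodule k M) (hU : ∀ g ∈ outerGroup G, ∀ u ∈ U, (g : E) u ∈ U) :
    ↥(outerGroup G) →* LinearMap.GeneralLinearGroup k U :=
  MonoidHom.toHomUnits
    { toFun := fun g => (g.1 : E).restrict (hU g.1 g.2)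
      map_one' := LinearMap.ext fun u => Subtype.ext rfl
      map_mul' := fun _ _ => LinearMap.ext fun u => Subtype.ext rfl }

omit [FiniteDimensional k M] in
theorem outerHom_apply {U : Submodule k M} (hU : ∀ g ∈ outerGroup G, ∀ u ∈ U, (g : E) u ∈ U)
    (g : ↥(outerGroup G)) (v : U) :
    ((outerHom U hU g : U →ₗ[k] U) v).1 = (g.1 : E) v.1 := rfl

theorem decomp_step (h2 : (2 : k) ≠ 0) (hk3 : Nat.card k ≠ 3) (hG : IsQuadraticPair G)
    (ih : ∀ (U : Submodule k M) (G' : Subgroup (LinearMap.GeneralLinearGroup k U)),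
      Module.finrank k U < Module.finrank k M → IsQuadraticPair G' → HasDecomp G') :
    HasDecomp G := by
  classical
  set S0 := (fun A => partGroup G A) '' quadraticRootSubgroups G with hS0
  have hS0fin : S0.Finite := by
    refine ((finite_parts h2 hk3 hG).image fun C => ⨆ B ∈ C, B).subset ?_
    rintro _ ⟨A, hA, rfl⟩
    exact ⟨_, Set.mem_image_of_mem _ hA, rfl⟩
  have hS0n : ∀ H ∈ S0, H ≤ G ∧ ∀ g ∈ G, conjBy H g = H := by
    rintro _ ⟨A, hA, rfl⟩
    exact ⟨partGroup_le A, partGroup_normal h2 hk3 hG hA⟩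
  have hS0c : ∀ H ∈ S0, ∀ H' ∈ S0, H ≠ H' → ⁅H, H'⁆ = ⊥ := by
    rintro _ ⟨A, hA, rfl⟩ _ ⟨A', hA', rfl⟩ hne
    refine commute_parts h2 hk3 hG fun e => hne ?_
    show partGroup G A = partGroup G A'
    rw [partGroup, partGroup, e]
  have hS0q : ∀ H ∈ S0, IsQuasisimple ↥H ∧
      Subgroup.closure (quadraticElements G ∩ (H : Set GL)) = H := by
    rintro _ ⟨A, hA, rfl⟩
    refine ⟨part_isQuasisimple h2 hk3 hG hA, le_antisymm ((Subgroup.closure_le _).mpr fun _ h => h.2) ?_⟩
    refine iSup₂_le fun B hB => ?_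
    obtain ⟨σ, hσ, rfl⟩ := hB.1
    refine (Subgroup.closure_le _).mpr fun x hx => Subgroup.subset_closure ⟨hx.1.1, ?_⟩
    exact member_le_partGroup hB (Subgroup.subset_closure hx)
  by_cases hempty : outerSet G = ∅
  · refine ⟨S0, hS0fin, hS0n, hS0c, hS0q, fun q hq => ?_⟩
    rcases dichotomy h2 hk3 hG hq with ⟨A, hA, hqA⟩ | hC
    · exact Set.mem_biUnion ⟨A, hA, rfl⟩ hqA
    · exact absurd (show q ∈ outerSet G from ⟨hq, hC⟩) (by rw [hempty]; exact id)
  obtain ⟨q0, hq0⟩ := Set.nonempty_iff_ne_empty.mpr hempty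
  obtain ⟨σ, hσ⟩ : ∃ σ, σ ∈ minimalQuadraticElements G := by
    have hex : ∃ n, ∃ q ∈ quadraticElements G, commutatorRank q = n := ⟨_, q0, hq0.1, rfl⟩
    obtain ⟨q, hq, hqn⟩ := Nat.find_spec hex
    exact ⟨q, hq, fun τ hτ => hqn ▸ Nat.find_min' hex ⟨τ, hτ, rfl⟩⟩
  obtain ⟨U, hlt, hUinv, hUbot, hUmin, hext⟩ := exists_module h2 hk3 hG hσ
  set ρ := outerHom U hUinv with hρ
  have hcomm : ∀ g ∈ outerGroup G, ∀ x ∈ rootGroup G, (x : E) * (g : E) = (g : E) * (x : E) := by
    intro g hg x hx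
    rw [← Units.val_mul, ← Units.val_mul,
      Subgroup.mem_centralizer_iff.mp (outerGroup_le_centralizer hg) x hx]
  have hρi : Function.Injective ρ := by
    rw [injective_iff_map_eq_one]
    intro g hg
    have hT : (g.1 : E) - 1 = 0 := hext _ (fun x hx => by
      rw [mul_sub, sub_mul, mul_one, one_mul, hcomm g.1 g.2 x hx]) (fun u hu => by
        have := congrArg Subtype.val (congrArg (fun f : LinearMap.GeneralLinearGroup k U =>
          (f : U →ₗ[k] U) ⟨u, hu⟩) hg)
        rw [hρ, outerHom_apply] at this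
        rw [LinearMap.sub_apply, this]
        exact sub_self _)
    exact Subtype.ext (Units.ext (sub_eq_zero.mp hT))
  have hval : ∀ (g : ↥(outerGroup G)) (c : k) (v : U),
      (((1 : U →ₗ[k] U) + c • ((ρ g : U →ₗ[k] U) - 1)) v).1 =
        ((1 : E) + c • ((g.1 : E) - 1)) v.1 := fun g c v => rfl
  have hfwd : ∀ g : ↥(outerGroup G), g.1 ∈ quadraticElements G → ρ g ∈ quadraticElements ρ.range := by
    intro g hg
    obtain ⟨hgood, hne⟩ := mem_quadratic_iff.mp hg
    refine mem_quadratic_iff.mpr ⟨⟨LinearMap.ext fun v => Subtype.ext ?_, fun c => ?_⟩, fun e => ?_⟩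
    · exact congrArg (fun f : E => f v.1) hgood.sq
    · by_cases hc : c = 0
      · rw [hc, zero_smul, add_zero]
        exact one_mem _
      obtain ⟨y, hy, hyv⟩ := mem_vals.mp (hgood.mem c)
      have hyo : y ∈ outerGroup G := by
        refine Subgroup.subset_closure ⟨mem_quadratic_iff.mpr ?_, ?_⟩
        · rw [hyv, add_sub_cancel_left]
          exact ⟨hgood.smul c, smul_ne_zero hc hne⟩
        · refine Subgroup.mem_centralizer_iff.mpr fun x hx => Units.ext ?_
          rw [Units.val_mul, Units.val_mul, hyv]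
          simp only [mul_add, add_mul, mul_one, one_mul, mul_smul_comm, smul_mul_assoc, mul_sub,
            sub_mul, hcomm g.1 g.2 x hx]
      refine mem_vals.mpr ⟨ρ ⟨y, hyo⟩, ⟨_, rfl⟩, LinearMap.ext fun v => Subtype.ext ?_⟩
      rw [hval, ← hyv]
      rfl
    · have h1 : ρ g = 1 := Units.ext (sub_eq_zero.mp e)
      have h1' := hρi (h1.trans (map_one ρ).symm)
      exact hne (by rw [h1']; simp)
  have hbwd : ∀ g : ↥(outerGroup G), ρ g ∈ quadraticElements ρ.range → g.1 ∈ quadraticElements G := by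
    intro g hg
    obtain ⟨hgood, hne⟩ := mem_quadratic_iff.mp hg
    refine mem_quadratic_iff.mpr ⟨⟨?_, fun c => ?_⟩, fun e => hne ?_⟩
    · refine hext _ (fun x hx => ?_) (fun u hu => ?_)
      · simp only [mul_sub, sub_mul, mul_one, one_mul, ← mul_assoc, hcomm g.1 g.2 x hx]
        simp only [mul_assoc, hcomm g.1 g.2 x hx]
      · exact congrArg Subtype.val (congrArg (fun f : U →ₗ[k] U => f ⟨u, hu⟩) hgood.sq)
    · obtain ⟨y', ⟨y, rfl⟩, hy⟩ := mem_vals.mp (hgood.mem c)
      refine mem_vals.mpr ⟨y.1, outerGroup_le y.2, sub_eq_zero.mp (hext _ (fun x hx => ?_) (fun u hu => ?_))⟩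
      · simp only [mul_sub, sub_mul, mul_add, add_mul, mul_one, one_mul, mul_smul_comm,
          smul_mul_assoc, hcomm g.1 g.2 x hx, hcomm y.1 y.2 x hx]
      · have := congrArg Subtype.val (congrArg (fun f : U →ₗ[k] U => f ⟨u, hu⟩) hy)
        rw [hρ, outerHom_apply] at this
        rw [LinearMap.sub_apply, this, ← hρ, hval]
        exact sub_self _
    · refine LinearMap.ext fun v => Subtype.ext ?_
      exact congrArg (fun f : E => f v.1) e
  have hpair : IsQuadraticPair ρ.range := by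
    refine ⟨⟨?_, fun V hV => ?_⟩, le_antisymm ((Subgroup.closure_le _).mpr fun x hx => hx.1) ?_⟩
    · obtain ⟨m, hm, hm0⟩ := (Submodule.ne_bot_iff U).mp hUbot
      exact ⟨⟨m, hm⟩, fun e => hm0 (congrArg Subtype.val e)⟩
    · rcases hUmin (V.map U.subtype) (by rintro _ ⟨v, -, rfl⟩; exact v.2) (by
          rintro g hg _ ⟨v, hv, rfl⟩
          exact ⟨_, hV _ ⟨⟨g, hg⟩, rfl⟩ v hv, rfl⟩) with h | h
      · exact Or.inl (Submodule.map_injective_of_injective U.injective_subtype
          (h.trans (Submodule.map_bot _).symm))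
      · exact Or.inr (Submodule.map_injective_of_injective U.injective_subtype
          (h.trans (Submodule.map_subtype_top U).symm))
    · rintro _ ⟨g, rfl⟩
      have hg : g ∈ Subgroup.closure
          (((↑) : ↥(outerGroup G) → GL) ⁻¹' outerSet G) := by
        exact (Subgroup.closure_closure_coe_preimage (k := outerSet G)).symm ▸ Subgroup.mem_top g
      refine ((Subgroup.map_le_iff_le_comap.mp (le_of_eq (MonoidHom.map_closure ρ _))).trans
        (Subgroup.comap_mono (K' := Subgroup.closure (quadraticElements ρ.range))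
          ((Subgroup.closure_le _).mpr ?_))) hg
      rintro _ ⟨y, hy, rfl⟩
      exact Subgroup.subset_closure (hfwd y hy.1)
  obtain ⟨S', hfin', hn', hc', hq', hcov'⟩ := ih U ρ.range hlt hpair
  let pull : Subgroup (LinearMap.GeneralLinearGroup k U) → Subgroup GL :=
    fun H => (H.comap ρ).map (outerGroup G).subtype
  have hpull_le : ∀ H, pull H ≤ outerGroup G := fun H => by
    rintro _ ⟨y, -, rfl⟩; exact y.2
  have hcross : ∀ H ∈ S0, ∀ H', ⁅H, pull H'⁆ = ⊥ := by
    rintro _ ⟨A, -, rfl⟩ H'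
    rw [Subgroup.commutator_eq_bot_iff_le_centralizer, Subgroup.le_centralizer_iff]
    exact ((hpull_le H').trans outerGroup_le_centralizer).trans
      (Subgroup.centralizer_le (partGroup_le_rootGroup A))
  refine ⟨S0 ∪ pull '' S', hS0fin.union (hfin'.image _), ?_, ?_, ?_, ?_⟩
  · rintro H (hH | ⟨H', hH', rfl⟩)
    · exact hS0n H hH
    refine ⟨(hpull_le H').trans outerGroup_le, fun g hg => ?_⟩
    refine conjBy_eq_of_le_normalizer ((le_sup_outer h2 hk3 hG).trans (sup_le ?_ ?_)) hg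
    · intro x hx
      refine Subgroup.mem_normalizer_iff.mpr fun z => ?_
      have hc : ∀ w ∈ pull H', x * w * x⁻¹ = w := fun w hw => by
        rw [Subgroup.mem_centralizer_iff.mp (outerGroup_le_centralizer (hpull_le H' hw)) x hx,
          mul_inv_cancel_right]
      refine ⟨fun hz => by rw [hc z hz]; exact hz, fun hz => ?_⟩
      have := hc _ hz
      rw [← show x * z * x⁻¹ = z by simpa using this]
      exact hz
    · intro x hx
      have h1 : ∀ y ∈ outerGroup G, ∀ z ∈ pull H', y * z * y⁻¹ ∈ pull H' := by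
        rintro y hy _ ⟨z, hz, rfl⟩
        refine ⟨⟨y, hy⟩ * z * (⟨y, hy⟩ : ↥(outerGroup G))⁻¹, ?_, rfl⟩
        show ρ _ ∈ H'
        rw [map_mul, map_mul, map_inv]
        have := ((hn' H' hH').2 (ρ ⟨y, hy⟩) ⟨_, rfl⟩)
        rw [← this]
        exact ⟨ρ z, hz, rfl⟩
      refine Subgroup.mem_normalizer_iff.mpr fun z => ⟨h1 x hx z, fun hz => ?_⟩
      have := h1 x⁻¹ (inv_mem hx) _ hz
      simpa [mul_assoc] using this
  · rintro H (hH | ⟨H1, hH1, rfl⟩) H' (hH' | ⟨H2, hH2, rfl⟩) hne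
    · exact hS0c H hH H' hH' hne
    · exact hcross H hH H2
    · rw [Subgroup.commutator_comm]; exact hcross H' hH' H1
    · rw [Subgroup.commutator_eq_bot_iff_le_centralizer]
      rintro _ ⟨a, ha, rfl⟩
      refine Subgroup.mem_centralizer_iff.mpr ?_
      rintro _ ⟨b, hb, rfl⟩
      have := comm_of_commutator_eq_bot (hc' H1 hH1 H2 hH2 fun e => hne (by rw [e]))
        (show ρ a ∈ H1 from ha) (show ρ b ∈ H2 from hb)
      rw [← map_mul, ← map_mul] at this
      exact congrArg Subtype.val (hρi this).symm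
  · rintro H (hH | ⟨H', hH', rfl⟩)
    · exact hS0q H hH
    have hle : H' ≤ ρ.range := (hn' H' hH').1
    refine ⟨?_, le_antisymm ((Subgroup.closure_le _).mpr fun _ h => h.2) ?_⟩
    · refine Components.Quasisimple.of_mulEquiv (hq' H' hH').1 ?_
      exact ((MulEquiv.subgroupCongr (Subgroup.map_comap_eq_self hle).symm).trans
        (Subgroup.equivMapOfInjective _ ρ hρi).symm).trans
        (Subgroup.equivMapOfInjective _ _ (outerGroup G).subtype_injective)
    · rintro _ ⟨a, ha, rfl⟩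
      have hsub : H' ≤ ((Subgroup.closure (quadraticElements G ∩ (pull H' : Set GL))).subgroupOf
          (outerGroup G)).map ρ := by
        refine le_trans (hq' H' hH').2.ge ((Subgroup.closure_le _).mpr ?_)
        rintro q ⟨hq, hqH⟩
        obtain ⟨y, rfl⟩ := hle hqH
        exact ⟨y, Subgroup.subset_closure ⟨hbwd y hq, y, hqH, rfl⟩, rfl⟩
      obtain ⟨y, hy, he⟩ := hsub (show ρ a ∈ H' from ha)
      exact hρi he ▸ hy
  · intro q hq
    rcases dichotomy h2 hk3 hG hq with ⟨A, hA, hqA⟩ | hC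
    · exact Set.mem_biUnion (Or.inl ⟨A, hA, rfl⟩) hqA
    · have ho : q ∈ outerGroup G := Subgroup.subset_closure ⟨hq, hC⟩
      obtain ⟨H', hH', hm⟩ := Set.mem_iUnion₂.mp (hcov' (hfwd ⟨q, ho⟩ hq))
      exact Set.mem_biUnion (Or.inr ⟨H', hH', rfl⟩) ⟨⟨q, ho⟩, hm, rfl⟩


/-- The central decomposition. -/
theorem hasDecomp (h2 : (2 : k) ≠ 0) (hk3 : Nat.card k ≠ 3) (n : ℕ) :
    ∀ (M : Type u) [AddCommGroup M] [Module k M] [FiniteDimensional k M]
      (G : Subgroup (LinearMap.GeneralLinearGroup k M)),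
      Module.finrank k M = n → IsQuadraticPair G → HasDecomp G := by
  induction n using Nat.strong_induction_on with
  | _ n ih =>
    intro M _ _ _ G hn hG
    exact decomp_step h2 hk3 hG fun U G' hU hG' => ih _ (hn ▸ hU) U G' rfl hG'

end Cfsg.Agent.Lib.QuadPair
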