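import Cfsg.Agent.Lib.Dickson.Count

/-! The class equation of Dickson's lemma gives the index of the Borel subgroup once there are at
least five translations (the counting is that of `Cfsg.Agent.Lib.Dickson.hasSL2Copy_of_normalised`). -/

namespace Cfsg.Agent.Lib.QuadPair

open Matrix Cfsg.Agent.Lib.Linear Cfsg.Agent.Lib.Dickson
open Cfsg.Agent.Lib.PLocal.SLTwo (up lo up_add lo_add up_zero lo_zero val_mul)

variable {F : Type*} [Field F]

local notation "SL2" => Matrix.SpecialLinearGroup (Fin 2) F
local notation "M2" => Matrix (Fin 2) (Fin 2) F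

variable [Finite F] {p : ℕ} [Fact p.Prime] [CharP F p]
variable {H : Subgroup (Matrix.SpecialLinearGroup (Fin 2) F)}

theorem borel_index_eq (hS : Normalised p H) (hp : p ≠ 2) (hbig : 5 ≤ Nat.card (transl H)) :
    (borel H).index = Nat.card (transl H) + 1 := by
  have hpr : p.Prime := Fact.out
  have h2 := two_ne_zero_char (F := F) hp
  obtain ⟨k, hk, hqk⟩ := exists_card_transl hS
  set q := Nat.card (transl H) with hq
  set e := Nat.card (diagHom H).range with he
  set n := (borel H).index with hn
  have hp3 : 3 ≤ p := by have := hpr.two_le; omega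
  have hq3 : 3 ≤ q := by rw [hqk]; exact hp3.trans (Nat.le_self_pow (by omega) p)
  have hqn : q + 1 ≤ n := card_le_index hS
  have he2 : 2 ∣ e := even_card_range hS h2
  have he0 : 0 < e := Nat.card_pos
  have heq' : e + 2 ≤ 2 * q := card_range_le hS
  have hB : Nat.card (borel H) = q * e := card_borel
  have hG : Nat.card H = n * (q * e) := by rw [← hB, Subgroup.index_mul_card]
  have hcompl := ncard_compl_scalarSet h2 hS.neg_mem
  have hTP : (cls (upOne hS)).ncard = n * (2 * q - 2) := by
    have := ncard_cls_mul h2 hS.neg_mem (upOne_notMem hS)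
    rw [normalizer_cen_upOne hS, card_cen_upOne hS h2, hB, hG] at this
    have hpos : 0 < q * e := by positivity
    exact Nat.eq_of_mul_eq_mul_right hpos (by rw [this, ← hq]; ring)
  -- the bound for a semisimple class
  have hsemi : ∀ x : H, tr x ^ 2 ≠ 4 → n * (q * e) ≤ 4 * (cls x).ncard := by
    intro x hx
    have h1 := ncard_cls_mul h2 hS.neg_mem (notMem_of_tr hx)
    rw [hG] at h1
    obtain ⟨hc4, -, -⟩ := cen_facts hS hp hx
    have hc0 : 0 < Nat.card (cen x) := by omega
    have hle : (cls x).ncard * Nat.card (Subgroup.normalizer (cen x : Set H)) ≤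
        (cls x).ncard * (2 * Nat.card (cen x)) := by
      refine Nat.mul_le_mul_left _ ?_
      rcases card_normalizer_cases h2 hx with h | h <;> rw [h] <;> omega
    have hge : n * (q * e) * Nat.card (cen x) ≤ 2 * (n * (q * e) * (Nat.card (cen x) - 2)) := by
      rw [Nat.mul_left_comm 2 (n * (q * e))]
      exact Nat.mul_le_mul_left _ (by omega)
    refine Nat.le_of_mul_le_mul_right ?_ hc0
    rw [h1] at hle
    calc n * (q * e) * Nat.card (cen x) ≤ 2 * (n * (q * e) * (Nat.card (cen x) - 2)) := hge
      _ ≤ 2 * ((cls x).ncard * (2 * Nat.card (cen x))) := Nat.mul_le_mul_left _ hle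
      _ = 4 * (cls x).ncard * Nat.card (cen x) := by ring
  have hsub : ∀ x : H, cls x ⊆ (scalarSet H)ᶜ := fun x y hy => cls_notMem hy
  have hdisjU : ∀ x : H, tr x ^ 2 ≠ 4 → Disjoint (cls (upOne hS)) (cls x) := fun x hx =>
    (disjoint_cls (notMem_of_tr hx) (upOne_notMem hS) (upOne_notMem_cls hS hx)).symm
  have hsum1 : ∀ x : H, tr x ^ 2 ≠ 4 →
      (cls (upOne hS)).ncard + (cls x).ncard + 2 ≤ Nat.card H := by
    intro x hx
    rw [← hcompl, ← Set.ncard_union_eq (hdisjU x hx)]
    exact Nat.add_le_add_right
      (Set.ncard_le_ncard (Set.union_subset (hsub _) (hsub _)) (Set.toFinite _)) 2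
  by_cases hecase : e = 2
  · -- no torus
    rw [hecase] at hG hsemi
    have hex : ∃ x : H, tr x ^ 2 ≠ 4 := by
      by_contra hall
      have hle := Set.ncard_le_ncard (s := (scalarSet H)ᶜ) (t := cls (upOne hS))
        (fun g hg => mem_cls_upOne hS hp hg (by_contra fun h => hall ⟨g, h⟩)) (Set.toFinite _)
      rw [hTP] at hle
      have : n * (q * 2) = n * (2 * q - 2) + 2 * n := by
        rw [mul_comm 2 n, ← mul_add, Nat.sub_add_cancel (by omega), mul_comm q 2]
      omega
    have hid : n * (q * 2) = n * (2 * q - 2) + 2 * n := by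
      rw [mul_comm 2 n, ← mul_add, Nat.sub_add_cancel (by omega), mul_comm q 2]
    have hq' : q = 3 := by
      obtain ⟨x, hx⟩ := hex
      have h1 := hsemi x hx
      have h3 := hsum1 x hx
      rw [hTP, hG] at h3
      by_contra hne
      have : n * (4 * 2) ≤ n * (q * 2) := Nat.mul_le_mul_left _ (by omega)
      omega
    omega
  · have he4 : 4 ≤ e := by omega
    obtain ⟨d, hd⟩ : ∃ d, e = 2 * d := ⟨e / 2, by omega⟩
    obtain ⟨x1, hx1, hc1⟩ := exists_torus (H := H) h2 (by omega)
    have h1 := ncard_cls_mul h2 hS.neg_mem (notMem_of_tr hx1)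
    rw [hG] at h1
    have h3 := hsum1 x1 hx1
    rw [hTP, hG] at h3
    have hsum2 : ∀ x : H, tr x ^ 2 ≠ 4 → x ∉ cls x1 →
        (cls (upOne hS)).ncard + (cls x1).ncard + (cls x).ncard + 2 ≤ Nat.card H := by
      intro x hx hx'
      rw [← hcompl, ← Set.ncard_union_eq (hdisjU x1 hx1), ← Set.ncard_union_eq]
      · exact Nat.add_le_add_right (Set.ncard_le_ncard (Set.union_subset
          (Set.union_subset (hsub _) (hsub _)) (hsub _)) (Set.toFinite _)) 2
      · rw [Set.disjoint_union_left]
        exact ⟨hdisjU x hx, (disjoint_cls (notMem_of_tr hx) (notMem_of_tr hx1) hx').symm⟩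
    have hnone : (∀ x : H, tr x ^ 2 ≠ 4 → x ∈ cls x1) →
        Nat.card H ≤ (cls (upOne hS)).ncard + (cls x1).ncard + 2 := by
      intro hall
      rw [← hcompl, ← Set.ncard_union_eq (hdisjU x1 hx1)]
      refine Nat.add_le_add_right (Set.ncard_le_ncard ?_ (Set.toFinite _)) 2
      intro g hg
      by_cases h : tr g ^ 2 = 4
      · exact Or.inl (mem_cls_upOne hS hp hg h)
      · exact Or.inr (hall g h)
    rw [← he] at hc1
    rw [hc1] at h1
    rcases card_normalizer_cases h2 hx1 with hN | hN <;> rw [hN, hc1] at h1
    · -- self-normalising torus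
      exfalso
      have hT1 : (cls x1).ncard = n * q * (e - 2) :=
        Nat.eq_of_mul_eq_mul_right he0 (by rw [h1]; ring)
      have hids : n * (q * e) = n * (2 * q - 2) + n * q * (e - 2) + 2 * n := by
        obtain ⟨e', he'⟩ : ∃ e', e = e' + 2 := ⟨e - 2, by omega⟩
        rw [he', Nat.add_sub_cancel]
        obtain ⟨q', hq'⟩ : ∃ q', q = q' + 1 := ⟨q - 1, by omega⟩
        rw [hq', show 2 * (q' + 1) - 2 = 2 * q' by omega]
        ring
      by_cases hall : ∀ x : H, tr x ^ 2 ≠ 4 → x ∈ cls x1
      · have := hnone hall
        rw [hTP, hG, hT1] at this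
        omega
      · push Not at hall
        obtain ⟨x, hx, hx'⟩ := hall
        have h5 := hsum2 x hx hx'
        rw [hTP, hG, hT1] at h5
        have h6 := hsemi x hx
        have : n * (3 * 4) ≤ n * (q * e) := Nat.mul_le_mul_left _ (Nat.mul_le_mul hq3 he4)
        omega
    · -- dihedral torus
      obtain ⟨d', hd'⟩ : ∃ d', d = d' + 1 := ⟨d - 1, by omega⟩
      have hT1 : (cls x1).ncard = n * q * d' := by
        have : (cls x1).ncard * (2 * e) = n * q * d' * (2 * e) := by
          rw [h1, hd, show 2 * d - 2 = 2 * d' by omega]; ring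
        exact Nat.eq_of_mul_eq_mul_right (by omega) this
      have hd1 : 1 ≤ d' := by omega
      have hn2 : 2 ≤ n := by omega
      obtain ⟨q', hq'⟩ : ∃ q', q = q' + 1 := ⟨q - 1, by omega⟩
      by_cases hall : ∀ x : H, tr x ^ 2 ≠ 4 → x ∈ cls x1
      · exfalso
        have := hnone hall
        rw [hTP, hG, hT1, hd, hd', hq', show 2 * (q' + 1) - 2 = 2 * q' by omega] at this
        have h7 : 3 * n ≤ n * (2 * (q' + 1) * (d' + 1) - 2 * q' - (q' + 1) * d') := by
          rw [mul_comm 3 n]
          refine Nat.mul_le_mul_left _ ?_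
          have : (q' + 1) * 1 ≤ (q' + 1) * d' := Nat.mul_le_mul_left _ hd1
          have h8 : 2 * (q' + 1) * (d' + 1) = 2 * ((q' + 1) * d') + 2 * q' + 2 := by ring
          omega
        rw [Nat.mul_sub, Nat.mul_sub] at h7
        have h9 : n * ((q' + 1) * (2 * (d' + 1))) = n * (2 * (q' + 1) * (d' + 1)) := by ring
        have h10 : n * (q' + 1) * d' = n * ((q' + 1) * d') := mul_assoc _ _ _
        omega
      · push Not at hall
        obtain ⟨x2, hx2, hx2'⟩ := hall
        have h5 := hsum2 x2 hx2 hx2'
        obtain ⟨hc4, hcev, hcp⟩ := cen_facts hS hp hx2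
        obtain ⟨z, hz⟩ := hcev
        have hz2 : 2 ≤ z := by omega
        obtain ⟨z', hz'⟩ : ∃ z', z = z' + 1 := ⟨z - 1, by omega⟩
        have hquarter := hsemi x2 hx2
        rw [hTP, hG, hT1] at h5
        have h6 := ncard_cls_mul h2 hS.neg_mem (notMem_of_tr hx2)
        rw [hG, hz, show 2 * z - 2 = 2 * z' by omega] at h6
        have hids : n * (q * e) = 2 * (n * q * d') + 2 * (n * q) := by rw [hd, hd']; ring
        have hTPid : n * (2 * q - 2) + 2 * n = 2 * (n * q) := by
          rw [mul_comm 2 n, ← mul_add, Nat.sub_add_cancel (by omega)]; ring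
        have hnq : 3 * n ≤ n * q := by rw [mul_comm 3 n]; exact Nat.mul_le_mul_left _ hq3
        have hN2 : Nat.card (Subgroup.normalizer (cen x2 : Set H)) = 2 * (2 * z) := by
          rcases card_normalizer_cases h2 hx2 with h | h
          · exfalso
            rw [h, hz] at h6
            have h7 : (cls x2).ncard * z = n * (q * e) * z' :=
              Nat.eq_of_mul_eq_mul_right (m := 2) (by omega) (by linarith [h6])
            have h8 : n * (q * e) * z ≤ 2 * (n * (q * e) * z') := by
              rw [Nat.mul_left_comm 2 (n * (q * e))]; exact Nat.mul_le_mul_left _ (by omega)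
            have h9 : n * (q * e) ≤ 2 * (cls x2).ncard := by
              refine Nat.le_of_mul_le_mul_right ?_ (show 0 < z by omega)
              rw [mul_assoc 2, h7]
              exact h8
            omega
          · rw [h, hz]
        rw [hN2] at h6
        have hall2 : ∀ x : H, tr x ^ 2 ≠ 4 → x ∈ cls x1 ∨ x ∈ cls x2 := by
          intro x hx
          by_contra hcon
          push Not at hcon
          have h7 : (cls (upOne hS)).ncard + (cls x1).ncard + (cls x2).ncard + (cls x).ncard + 2 ≤
              Nat.card H := by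
            rw [← hcompl, ← Set.ncard_union_eq (hdisjU x1 hx1), ← Set.ncard_union_eq,
              ← Set.ncard_union_eq]
            · exact Nat.add_le_add_right (Set.ncard_le_ncard (Set.union_subset (Set.union_subset
                (Set.union_subset (hsub _) (hsub _)) (hsub _)) (hsub _)) (Set.toFinite _)) 2
            · rw [Set.disjoint_union_left, Set.disjoint_union_left]
              exact ⟨⟨hdisjU x hx,
                (disjoint_cls (notMem_of_tr hx) (notMem_of_tr hx1) hcon.1).symm⟩,
                (disjoint_cls (notMem_of_tr hx) (notMem_of_tr hx2) hcon.2).symm⟩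
            · rw [Set.disjoint_union_left]
              exact ⟨hdisjU x2 hx2,
                (disjoint_cls (notMem_of_tr hx2) (notMem_of_tr hx1) hx2').symm⟩
          rw [hTP, hT1, hG] at h7
          have := hsemi x hx
          omega
        have hexact : (cls (upOne hS)).ncard + (cls x1).ncard + (cls x2).ncard + 2 =
            Nat.card H := by
          refine le_antisymm (hsum2 x2 hx2 hx2') ?_
          rw [← hcompl]
          refine Nat.add_le_add_right ((Set.ncard_le_ncard (t := cls (upOne hS) ∪ cls x1 ∪ cls x2)
            ?_ (Set.toFinite _)).trans ((Set.ncard_union_le _ _).trans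
              (Nat.add_le_add_right (Set.ncard_union_le _ _) _))) 2
          intro g hg
          by_cases h : tr g ^ 2 = 4
          · exact Or.inl (Or.inl (mem_cls_upOne hS hp hg h))
          · rcases hall2 g h with h' | h'
            · exact Or.inl (Or.inr h')
            · exact Or.inr h'
        rw [hTP, hT1, hG] at hexact
        have hEq : (n : ℤ) * (q * d - q * z + 2 * z) = 2 * z := by
          have a1 : ((cls x2).ncard : ℤ) * z = n * q * d * z' := by
            have h : (cls x2).ncard * z * 4 = n * q * d * z' * 4 := by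
              calc (cls x2).ncard * z * 4 = (cls x2).ncard * (2 * (2 * z)) := by ring
                _ = n * (q * e) * (2 * z') := h6
                _ = n * q * d * z' * 4 := by rw [hd]; ring
            exact_mod_cast Nat.eq_of_mul_eq_mul_right (by omega : 0 < 4) h
          have a2 : ((cls x2).ncard : ℤ) + 2 = n * q * d' + 2 * n := by
            have : (cls x2).ncard + 2 = n * q * d' + 2 * n := by omega
            exact_mod_cast this
          have hdz : (d : ℤ) = d' + 1 := by exact_mod_cast hd'
          have hzz : (z : ℤ) = z' + 1 := by exact_mod_cast hz'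
          rw [hdz, hzz] at a1 ⊢
          linear_combination a1 - ((z' : ℤ) + 1) * a2
        rcases numeric_solutions hpr hp hk hqk (by omega) (by omega) hqn
            (fun h => hcp (hz ▸ h.mul_left 2)) hEq with hn' | ⟨hq3', hd2, hz5⟩
        · exact hn'
        · omega

end Cfsg.Agent.Lib.QuadPair
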