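import Cfsg.Agent.Lib.QuadPair.SL2Alg
import Cfsg.Agent.Lib.Dickson.SL2

/-! Elements of `p`-power order in the group generated by `x(k)` and `y(k u)`, finite case. -/

namespace Cfsg.Agent.Lib.QuadPair

open Matrix Cfsg.Agent.Lib.Linear
open scoped MatrixGroups

variable {k : Type*} [Field k] {A : Type*} [CommRing A] [Algebra k A]

/-- Reduction along a ring homomorphism. -/
abbrev red {B : Type*} [CommRing B] (ρ : A →+* B) : SL(2, A) →* SL(2, B) :=
  Matrix.SpecialLinearGroup.map ρ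

@[simp] theorem red_apply {B : Type*} [CommRing B] (ρ : A →+* B) (g : SL(2, A)) (i j : Fin 2) :
    red ρ g i j = ρ (g i j) := rfl

@[simp] theorem red_up {B : Type*} [CommRing B] (ρ : A →+* B) (a : A) :
    red ρ (up a) = up (ρ a) := by
  apply ext2 <;> simp

@[simp] theorem red_low {B : Type*} [CommRing B] (ρ : A →+* B) (a : A) :
    red ρ (low a) = low (ρ a) := by
  apply ext2 <;> simp

theorem up_pow (a : A) (n : ℕ) : up a ^ n = up ((n : A) * a) := by
  induction n with
  | zero => simp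
  | succ n ih => rw [pow_succ, ih, ← up_add]; congr 1; push_cast; ring

theorem low_pow (a : A) (n : ℕ) : low a ^ n = low ((n : A) * a) := by
  induction n with
  | zero => simp
  | succ n ih => rw [pow_succ, ih, ← low_add]; congr 1; push_cast; ring

theorem up_pow_char {p : ℕ} (hp0 : (p : A) = 0) (a : A) : up a ^ p = 1 := by
  rw [up_pow, hp0, zero_mul, up_zero]

/-- Entries congruent to those of `1` modulo nilpotents give `p`-power order. -/
theorem exists_pow_eq_one {p : ℕ} (hpr : p.Prime) (hp0 : (p : A) = 0) (g : SL(2, A))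
    (h00 : IsNilpotent (g 0 0 - 1)) (h01 : IsNilpotent (g 0 1)) (h10 : IsNilpotent (g 1 0))
    (h11 : IsNilpotent (g 1 1 - 1)) : ∃ m : ℕ, g ^ p ^ m = 1 := by
  set X : Matrix (Fin 2) (Fin 2) A := (g : Matrix (Fin 2) (Fin 2) A) - 1 with hX
  set t := (g 0 0 - 1) + (g 1 1 - 1) with ht
  set d := (g 0 0 - 1) * (g 1 1 - 1) - g 0 1 * g 1 0 with hd
  have htn : IsNilpotent t := (Commute.all _ _).isNilpotent_add h00 h11
  have hdn : IsNilpotent d :=
    (Commute.all _ _).isNilpotent_sub ((Commute.all _ _).isNilpotent_mul_right h00)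
      ((Commute.all _ _).isNilpotent_mul_right h01)
  have hsq : X ^ 2 = t • X - d • 1 := by
    rw [sq]
    ext i j
    fin_cases i <;> fin_cases j <;>
      simp [hX, ht, hd, Matrix.mul_apply, Fin.sum_univ_two, Matrix.one_apply] <;> ring
  have hXn : IsNilpotent X := by
    have h2 : IsNilpotent (X ^ 2) := by
      rw [hsq, Algebra.smul_def, Algebra.smul_def]
      refine Commute.isNilpotent_sub ?_ ?_ ?_
      · rw [mul_one]
        exact ((Algebra.commutes d _).symm : Commute (algebraMap A _ t * X) (algebraMap A _ d))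
      · exact Commute.isNilpotent_mul_right (Algebra.commutes t X) (htn.map _)
      · rw [mul_one]; exact hdn.map _
    obtain ⟨n, hn⟩ := h2
    exact ⟨2 * n, by rw [pow_mul, hn]⟩
  obtain ⟨n, hn⟩ := hXn
  refine ⟨n, ?_⟩
  apply Subtype.ext
  rw [Matrix.SpecialLinearGroup.coe_pow, Matrix.SpecialLinearGroup.coe_one,
    show (g : Matrix (Fin 2) (Fin 2) A) = X + 1 by simp [hX]]
  obtain ⟨r, hr⟩ := (Commute.one_right X).exists_add_pow_prime_pow_eq hpr n
  rw [hr]
  have hle : n ≤ p ^ n := (Nat.lt_pow_self hpr.one_lt).le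
  have hc : ((p : ℕ) : Matrix (Fin 2) (Fin 2) A) = 0 := by
    rw [← map_natCast (algebraMap A (Matrix (Fin 2) (Fin 2) A)), hp0, map_zero]
  rw [pow_eq_zero_of_le hle hn, one_pow, hc]
  simp

theorem exists_mul_pow {G : Type*} [Group G] {M : Subgroup G} {x m : G} (hm : m ∈ M)
    (hx : ∀ y ∈ M, x⁻¹ * y * x ∈ M) (n : ℕ) : ∃ m' ∈ M, (x * m) ^ n = x ^ n * m' := by
  induction n with
  | zero => exact ⟨1, one_mem _, by simp⟩
  | succ n ih =>
    obtain ⟨m', hm', h⟩ := ih
    exact ⟨x⁻¹ * m' * x * m, mul_mem (hx m' hm') hm, by rw [pow_succ, h, pow_succ]; group⟩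

theorem eq_one_of_pow_coprime {G : Type*} [Group G] {g : G} {a b : ℕ} (h : Nat.Coprime a b)
    (ha : g ^ a = 1) (hb : g ^ b = 1) : g = 1 := by
  rw [← pow_one g, ← h.gcd_eq_one]
  exact pow_gcd_eq_one.mpr ⟨ha, hb⟩

section Field

variable {K : Type*} [Field K] {p : ℕ} [Fact p.Prime] [CharP K p]

theorem trace_of_pow_prime_pow {g : SL(2, K)} {m : ℕ} (hg : g ^ p ^ m = 1) :
    g 0 0 + g 1 1 = 2 := by
  have hpr : p.Prime := Fact.out
  have hN : ((g : Matrix (Fin 2) (Fin 2) K) - 1) ^ p ^ m = 0 := by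
    rw [sub_pow_char_pow_of_commute p m (Commute.one_right _), one_pow,
      ← Matrix.SpecialLinearGroup.coe_pow, hg, Matrix.SpecialLinearGroup.coe_one, sub_self]
  have hdetN : ((g : Matrix (Fin 2) (Fin 2) K) - 1).det = 0 := by
    have := congrArg Matrix.det hN
    rw [Matrix.det_pow, Matrix.det_zero] at this
    exact (pow_eq_zero_iff (pow_ne_zero _ hpr.ne_zero)).mp this
  have hd := det2 g
  rw [Matrix.det_fin_two] at hdetN
  simp at hdetN
  linear_combination hd - hdetN

theorem trace_sq_of_sq_pow {g : SL(2, K)} {m : ℕ} (hg : (g ^ 2) ^ p ^ m = 1) :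
    (g 0 0 + g 1 1) ^ 2 = 4 := by
  have h := trace_of_pow_prime_pow hg
  have hd := det2 g
  simp only [sq, Matrix.SpecialLinearGroup.coe_mul, Matrix.mul_apply, Fin.sum_univ_two] at h
  linear_combination h + 2 * hd

theorem trace_sq_of_dvd_orderOf (hp : p ≠ 2) {g : SL(2, K)} (hg : IsOfFinOrder g)
    (hdvd : p ∣ orderOf g) : (g 0 0 + g 1 1) ^ 2 = 4 := by
  have hpr : p.Prime := Fact.out
  obtain ⟨n, hn⟩ := hdvd
  have hpos := hg.orderOf_pos
  have hn0 : 0 < n := Nat.pos_of_ne_zero fun h => by rw [h, mul_zero] at hn; omega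
  have hy1 : g ^ n ≠ 1 := pow_ne_one_of_lt_orderOf hn0.ne' (by
    rw [hn]; exact lt_mul_of_one_lt_left hn0 hpr.one_lt)
  have hyp : (g ^ n) ^ p = 1 := by rw [← pow_mul, mul_comm, ← hn, pow_orderOf_eq_one]
  have hns : NonScalar (g ^ n) := by
    rw [Dickson.nonScalar_iff]
    rintro (h | h)
    · exact hy1 h
    · obtain ⟨i, hi⟩ := hpr.odd_of_ne_two hp
      rw [h, hi, pow_succ, pow_mul, sq, Dickson.negI_mul_self, one_pow, one_mul] at hyp
      exact hy1 (h.trans hyp)
  obtain ⟨a, b, hab⟩ := exists_eq_add_smul_of_commute hns (Commute.self_pow g n).eq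
  have htr : (g ^ n) 0 0 + (g ^ n) 1 1 = 2 :=
    trace_of_pow_prime_pow (m := 1) (by rwa [pow_one])
  have hd := det2 g
  have hdy := det2 (g ^ n)
  have e : ∀ i j, g i j =
      a * (1 : Matrix (Fin 2) (Fin 2) K) i j + b * (g ^ n) i j := fun i j => by
    show (g : Matrix (Fin 2) (Fin 2) K) i j = _
    rw [hab]; simp
  rw [e, e, e, e] at hd
  rw [e, e]
  simp at hd ⊢
  linear_combination (b ^ 2 * ((g ^ n) 0 0 + (g ^ n) 1 1 + 2)) * htr + 4 * hd - 4 * b ^ 2 * hdy

end Field

end Cfsg.Agent.Lib.QuadPair
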