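import Cfsg.Agent.Lib.QuadPair.FiniteBasic

/-! Normal subgroups of the group generated by `x(k)` and `y(k u)`, finite case. -/

namespace Cfsg.Agent.Lib.QuadPair

open Matrix
open scoped MatrixGroups

variable {k : Type*} [Field k] [Finite k] {p : ℕ} [Fact p.Prime] [CharP k p]
  {A : Type*} [CommRing A] [Algebra k A] [Finite A] {u : A}

omit [Finite k] [Fact p.Prime] [Finite A] in
variable (p) in
theorem natCast_char (R : Type*) [Semiring R] [Algebra k R] : (p : R) = 0 := by
  rw [← map_natCast (algebraMap k R), CharP.cast_eq_zero, map_zero]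

theorem algebraMap_eq_self_of_up {K : Type*} [CommRing K] [Algebra k K] (ρ : A →ₐ[k] K) (c : k) :
    red ρ.toRingHom (up (algebraMap k A c)) = up (algebraMap k K c) := by
  simp

/-- A trace linear in `c` with square `4` for all nonzero `c` is constant. -/
theorem slope_eq_zero {K : Type*} [Field K] [Algebra k K] (hk : 5 ≤ Nat.card k) {t s : K}
    (h : ∀ c : k, c ≠ 0 → (t + algebraMap k K c * s) ^ 2 = 4) : s = 0 := by
  classical
  by_contra hs
  have := Fintype.ofFinite k
  have hle := Finset.card_le_card_of_injOn (fun c : k => t + algebraMap k K c * s)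
    (s := Finset.univ.erase 0) (t := {2, -2}) (fun c hc => by
      simp only [Finset.coe_erase, Set.mem_sdiff, Finset.coe_univ, Set.mem_univ, true_and,
        Set.mem_singleton_iff] at hc
      rcases sq_eq_sq_iff_eq_or_eq_neg.mp ((h c hc).trans (by norm_num : (4 : K) = 2 ^ 2)) with
        e | e <;> simp [e])
    (fun a _ b _ hab => (algebraMap k K).injective
      (mul_right_cancel₀ hs (add_left_cancel hab)))
  rw [Finset.card_erase_of_mem (Finset.mem_univ _), Finset.card_univ, ← Nat.card_eq_fintype_card]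
    at hle
  have := Finset.card_le_two (a := (2 : K)) (b := -2)
  omega

variable {M : Subgroup SL(2, A)}

theorem pow_card_mem {G : Type*} [Group G] {N : Subgroup G} {g : G} (hg : g ∈ N) :
    g ^ Nat.card N = 1 := by
  exact congrArg Subtype.val (pow_card_eq_one' (x := (⟨g, hg⟩ : N)))

/-- The image in a field of a normal `p'`-subgroup consists of scalars. -/
theorem scalar_image (hp : p ≠ 2) (hk : 5 ≤ Nat.card k) {K : Type*} [Field K] [Algebra k K]
    (ρ : A →ₐ[k] K) (hu : ρ u ≠ 0) (hM : M ≤ gamma k u)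
    (hn : ∀ g ∈ gamma k u, ∀ m ∈ M, g * m * g⁻¹ ∈ M) (hp' : ¬ p ∣ Nat.card M) {m : SL(2, A)}
    (hm : m ∈ M) : ρ (m 1 0) = 0 ∧ ρ (m 0 1) = 0 ∧ ρ (m 0 0) = ρ (m 1 1) := by
  have hpr : p.Prime := Fact.out
  have := charP_of_injective_algebraMap (algebraMap k K).injective p
  set φ := red ρ.toRingHom with hφ
  have key : ∀ x ∈ gamma k u, ∀ m ∈ M, x ^ p = 1 → φ x ≠ 1 →
      ((φ (x * m)) 0 0 + (φ (x * m)) 1 1) ^ 2 = 4 := by
    intro x hx m hm hxp hx1
    set g := φ (x * m) with hg
    refine trace_sq_of_dvd_orderOf hp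
      (φ.isOfFinOrder (isOfFinOrder_of_finite _)) ?_
    by_contra hnd
    obtain ⟨m', hm', he⟩ := exists_mul_pow (x := x) hm
      (fun y hy => by simpa using hn x⁻¹ (inv_mem hx) y hy) (orderOf g)
    have h1 : φ (x ^ orderOf g) * φ m' = 1 := by
      rw [← map_mul, ← he, map_pow, pow_orderOf_eq_one]
    have h2 : φ (x ^ orderOf g) = 1 := by
      refine eq_one_of_pow_coprime ((hpr.coprime_iff_not_dvd).mpr hp') ?_ ?_
      · rw [← map_pow, ← pow_mul, mul_comm, pow_mul, hxp, one_pow, map_one]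
      · rw [eq_inv_of_mul_eq_one_left h1, inv_pow, ← map_pow, pow_card_mem hm', map_one, inv_one]
    apply hx1
    refine eq_one_of_pow_coprime ((hpr.coprime_iff_not_dvd).mpr hnd) ?_ ?_
    · rw [← map_pow, hxp, map_one]
    · rw [← map_pow, h2]
  have hp0 := natCast_char (k := k) p A
  have offdiag : ∀ m ∈ M, ρ (m 1 0) = 0 ∧ ρ (m 0 1) = 0 := by
    intro m hm
    constructor
    · refine slope_eq_zero hk (t := ρ (m 0 0) + ρ (m 1 1)) fun c hc => ?_
      have h := key _ (up_mem u c) m hm (up_pow_char hp0 _) (by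
        intro h
        have := congrArg (fun g : SL(2, K) => g 0 1) h
        simp [hφ, hc] at this)
      simp [hφ, Matrix.mul_apply, Fin.sum_univ_two] at h
      linear_combination h
    · refine (mul_eq_zero.mp (slope_eq_zero hk (t := ρ (m 0 0) + ρ (m 1 1))
        (s := ρ u * ρ (m 0 1)) fun c hc => ?_)).resolve_left hu
      have h := key _ (low_mem u c) m hm (by rw [low_pow, hp0, zero_mul, low_zero]) (by
        intro h
        have := congrArg (fun g : SL(2, K) => g 1 0) h
        simp [hφ, hc, hu] at this)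
      simp [hφ, Matrix.mul_apply, Fin.sum_univ_two] at h
      linear_combination h
  refine ⟨(offdiag m hm).1, (offdiag m hm).2, ?_⟩
  have h := (offdiag _ (hn _ (up_mem u 1) m hm)).2
  have he : (up (algebraMap k A 1) * m * (up (algebraMap k A 1))⁻¹ : SL(2, A)) 0 1 =
      m 0 1 + m 1 1 - (m 0 0 + m 1 0) := by
    rw [up_inv, Matrix.SpecialLinearGroup.coe_mul, Matrix.mul_apply, Fin.sum_univ_two,
      up_mul_apply_zero, up_mul_apply_zero]
    simp
    ring
  rw [he] at h
  simp [(offdiag m hm).1, (offdiag m hm).2] at h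
  linear_combination -h

omit [Finite A] in
/-- Elements of `gamma k u` are upper unitriangular modulo any ideal containing `u`. -/
theorem congr_mem_ideal {I : Ideal A} (hu : u ∈ I) {g : SL(2, A)} (hg : g ∈ gamma k u) :
    g 1 0 ∈ I ∧ g 0 0 - 1 ∈ I ∧ g 1 1 - 1 ∈ I := by
  let ψ := red (Ideal.Quotient.mk I)
  let U : Subgroup SL(2, A ⧸ I) :=
    { carrier := {g | g 1 0 = 0 ∧ g 0 0 = 1 ∧ g 1 1 = 1}
      one_mem' := by simp
      mul_mem' := by
        rintro a b ⟨a1, a2, a3⟩ ⟨b1, b2, b3⟩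
        simp [Matrix.mul_apply, Fin.sum_univ_two, a1, a2, a3, b1, b2, b3]
      inv_mem' := by
        rintro a ⟨a1, a2, a3⟩
        simp [Matrix.SpecialLinearGroup.coe_inv, Matrix.adjugate_fin_two, a1, a2, a3] }
  have hle : gamma k u ≤ U.comap ψ := by
    rw [gamma, Subgroup.closure_le]
    rintro _ (⟨c, rfl⟩ | ⟨c, rfl⟩)
    · simp [ψ, U]
    · simp [ψ, U, Ideal.Quotient.eq_zero_iff_mem.mpr hu]
  obtain ⟨h1, h2, h3⟩ := hle hg
  simp only [ψ, red_apply] at h1 h2 h3
  exact ⟨Ideal.Quotient.eq_zero_iff_mem.mp h1, Ideal.Quotient.eq.mp (h2.trans (map_one _).symm),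
    Ideal.Quotient.eq.mp (h3.trans (map_one _).symm)⟩

/-- A normal `p'`-subgroup is central. -/
theorem central (hp : p ≠ 2) (hk : 5 ≤ Nat.card k) (hM : M ≤ gamma k u)
    (hn : ∀ g ∈ gamma k u, ∀ m ∈ M, g * m * g⁻¹ ∈ M) (hp' : ¬ p ∣ Nat.card M)
    {g m : SL(2, A)} (hg : g ∈ gamma k u) (hm : m ∈ M) : g * m = m * g := by
  have hpr : p.Prime := Fact.out
  have hmem : g * m * g⁻¹ * m⁻¹ ∈ M := mul_mem (hn g hg m hm) (inv_mem hm)
  set z := g * m * g⁻¹ * m⁻¹ with hz
  suffices z = 1 by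
    rw [hz, mul_inv_eq_one, mul_inv_eq_iff_eq_mul] at this
    exact this
  have hmax : ∀ J : Ideal A, J.IsMaximal → ∀ i j, z i j - (1 : Matrix (Fin 2) (Fin 2) A) i j ∈ J := by
    intro J hJ i j
    let := Ideal.Quotient.field J
    let ρ := Ideal.Quotient.mkₐ k J
    have := charP_of_injective_algebraMap (algebraMap k (A ⧸ J)).injective p
    suffices hz1 : red ρ.toRingHom z = 1 by
      rw [← Ideal.Quotient.eq]
      have := congrArg (fun w : SL(2, A ⧸ J) => w i j) hz1
      fin_cases i <;> fin_cases j <;> simpa [ρ] using this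
    by_cases hu : u ∈ J
    · -- the image is an elementary abelian `p`-group
      have hup : ∀ w ∈ gamma k u, red ρ.toRingHom w = up (ρ (w 0 1)) := by
        intro w hw
        obtain ⟨a, b, c⟩ := congr_mem_ideal hu hw
        have h1 : ρ (w 1 0) = 0 := Ideal.Quotient.eq_zero_iff_mem.mpr a
        have h2 : ρ (w 0 0) = 1 := by
          rw [← map_one ρ]; exact Ideal.Quotient.eq.mpr b
        have h3 : ρ (w 1 1) = 1 := by
          rw [← map_one ρ]; exact Ideal.Quotient.eq.mpr c
        apply ext2 <;> simp [h1, h2, h3]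
      refine eq_one_of_pow_coprime ((hpr.coprime_iff_not_dvd).mpr hp') ?_ ?_
      · rw [hup z (hM hmem), up_pow_char (natCast_char (k := k) p _)]
      · rw [← map_pow, pow_card_mem hmem, map_one]
    · have hu' : ρ u ≠ 0 := fun h => hu (Ideal.Quotient.eq_zero_iff_mem.mp h)
      obtain ⟨a, b, c⟩ := scalar_image hp hk ρ hu' hM hn hp' hm
      have hc : red ρ.toRingHom g * red ρ.toRingHom m = red ρ.toRingHom m * red ρ.toRingHom g := by
        simp only [Ideal.Quotient.mkₐ_eq_mk, ρ] at a b c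
        apply ext2 <;> simp [ρ, Matrix.mul_apply, Fin.sum_univ_two, a, b, c, mul_comm]
      rw [hz, map_mul, map_mul, map_mul, map_inv, map_inv, hc, mul_inv_cancel_right,
        mul_inv_cancel]
  have hnil : ∀ i j, IsNilpotent (z i j - (1 : Matrix (Fin 2) (Fin 2) A) i j) := by
    intro i j
    rw [← mem_nilradical, nilradical_eq_sInf]
    exact Submodule.mem_sInf.mpr fun (P : Ideal A) hP =>
      hmax P (by have : P.IsPrime := hP; exact IsArtinianRing.isMaximal_of_isPrime P) i j
  obtain ⟨e, he⟩ := exists_pow_eq_one hpr (natCast_char (k := k) p A) z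
    (by simpa using hnil 0 0) (by simpa using hnil 0 1) (by simpa using hnil 1 0)
    (by simpa using hnil 1 1)
  exact eq_one_of_pow_coprime (((hpr.coprime_iff_not_dvd).mpr hp').pow_left e) he (pow_card_mem hmem)

omit [Finite k] in
/-- Elements of `p`-power order commuting with `x(1)` are upper translations. -/
theorem eq_up_of_commute (hp : p ≠ 2) {g : SL(2, A)} {e : ℕ} (hg : g ^ p ^ e = 1)
    (hc : g * up 1 = up 1 * g) : g = up (g 0 1) := by
  have hpr : p.Prime := Fact.out
  have h00 := congrArg (fun w : SL(2, A) => w 0 0) hc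
  have h01 := congrArg (fun w : SL(2, A) => w 0 1) hc
  simp [Matrix.mul_apply, Fin.sum_univ_two] at h00 h01
  have h10 : g 1 0 = 0 := by linear_combination h00
  have heq : g 0 0 = g 1 1 := by linear_combination h01
  have hd := det2 g
  rw [h10, ← heq, mul_zero, sub_zero] at hd
  have hpow : ∀ n : ℕ, (g ^ n) 0 0 = g 0 0 ^ n ∧ (g ^ n) 1 0 = 0 := by
    intro n
    induction n with
    | zero => simp
    | succ n ih =>
      rw [pow_succ, pow_succ]
      simp [-Matrix.SpecialLinearGroup.coe_pow, Matrix.mul_apply, Fin.sum_univ_two, ih.1, ih.2, h10]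
  have h1 : g 0 0 ^ p ^ e = 1 := by rw [← (hpow _).1, hg]; simp
  have hone : g 0 0 = 1 := by
    obtain ⟨i, hi⟩ := (hpr.odd_of_ne_two hp).pow (n := e)
    rwa [hi, pow_succ, pow_mul, sq, hd, one_pow, one_mul] at h1
  apply ext2 <;> simp [h10, hone, ← heq]

omit [Finite k] in
/-- A normal subgroup of order divisible by `p` contains an upper translation. -/
theorem exists_translation (hp : p ≠ 2) (hM : M ≤ gamma k u)
    (hn : ∀ g ∈ gamma k u, ∀ m ∈ M, g * m * g⁻¹ ∈ M) (hdvd : p ∣ Nat.card M) :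
    ∃ f : A, f ≠ 0 ∧ up f ∈ M := by
  classical
  have hpr : p.Prime := Fact.out
  obtain ⟨⟨y, hy⟩, hy'⟩ := exists_prime_orderOf_dvd_card' p hdvd
  rw [Subgroup.orderOf_mk] at hy'
  set Γ := gamma k u
  let x : Γ := ⟨up 1, by simpa using up_mem (k := k) u 1⟩
  let yΓ : Γ := ⟨y, hM hy⟩
  have hxp : x ^ p = 1 :=
    Subtype.ext (by simpa [x] using up_pow_char (natCast_char (k := k) p A) 1)
  have hyp : yΓ ^ p = 1 := Subtype.ext (by simpa [yΓ, hy'] using pow_orderOf_eq_one y)
  have hpg : ∀ w : Γ, w ^ p = 1 → IsPGroup p (Subgroup.zpowers w) := fun w hw =>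
    IsPGroup.of_card_dvd_pow (n := 1) (by
      rw [Nat.card_zpowers, pow_one]; exact orderOf_dvd_of_pow_eq_one hw)
  obtain ⟨P, hP⟩ := (hpg x hxp).exists_le_sylow
  obtain ⟨Q, hQ⟩ := (hpg yΓ hyp).exists_le_sylow
  obtain ⟨h, hh⟩ := MulAction.exists_smul_eq Γ Q P
  set R : Subgroup Γ := (P : Subgroup Γ) ⊓ M.subgroupOf Γ with hR
  have hyR : h * yΓ * h⁻¹ ∈ R := by
    refine ⟨?_, hn h h.2 y hy⟩
    rw [← hh]
    show _ ∈ ((h • Q : Sylow p Γ) : Subgroup Γ)
    rw [Sylow.coe_subgroup_smul, Subgroup.mem_pointwise_smul_iff_inv_smul_mem]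
    simpa [mul_assoc] using hQ (Subgroup.mem_zpowers _)
  have hyne : h * yΓ * h⁻¹ ≠ 1 := by
    rw [Ne, conj_eq_one_iff]
    intro e
    have : y = 1 := congrArg Subtype.val e
    rw [this, orderOf_one] at hy'
    exact hpr.ne_one hy'.symm
  have hxP : x ∈ (P : Subgroup Γ) := hP (Subgroup.mem_zpowers _)
  have hconj : ∀ r ∈ R, x * r * x⁻¹ ∈ R := fun r hr =>
    Subgroup.mem_inf.mpr ⟨(P : Subgroup Γ).mul_mem ((P : Subgroup Γ).mul_mem hxP
      (Subgroup.mem_inf.mp hr).1) ((P : Subgroup Γ).inv_mem hxP),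
      hn x x.2 r.1 (Subgroup.mem_inf.mp hr).2⟩
  have hinj : Function.Injective fun r : R => (⟨x * r * x⁻¹, hconj _ r.2⟩ : R) := fun a b e =>
    Subtype.ext (mul_left_cancel (mul_right_cancel (congrArg Subtype.val e)))
  let σ : Equiv.Perm R := Equiv.ofBijective _ (Finite.injective_iff_bijective.mp hinj)
  have hσ : ∀ n : ℕ, ∀ r : R, ((σ ^ n) r : Γ) = x ^ n * r * (x ^ n)⁻¹ := by
    intro n
    induction n with
    | zero => simp
    | succ n ih =>
      intro r
      rw [pow_succ', Equiv.Perm.mul_apply]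
      show x * ((σ ^ n) r : Γ) * x⁻¹ = _
      rw [ih, pow_succ']
      group
  have hσp : σ ^ p ^ 1 = 1 := Equiv.ext fun r => Subtype.ext (by
    rw [pow_one, hσ, hxp]; simp)
  have := Fintype.ofFinite R
  have hRp : IsPGroup p R := P.2.to_le inf_le_left
  have hcard : p ∣ Fintype.card R := by
    rw [← Nat.card_eq_fintype_card]
    obtain ⟨e, he⟩ := IsPGroup.iff_card.mp hRp
    have : Nat.card R ≠ 1 := by
      intro h1
      rw [Subgroup.card_eq_one] at h1
      rw [h1, Subgroup.mem_bot] at hyR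
      exact hyne hyR
    rw [he] at this ⊢
    exact dvd_pow_self p (by rintro rfl; simp at this)
  obtain ⟨⟨r, hr⟩, hfix, hne⟩ :=
    Equiv.Perm.exists_fixed_point_of_prime' hcard hσp (a := (1 : R)) (Subtype.ext (by
      show x * ((1 : R) : Γ) * x⁻¹ = _
      simp))
  have hcomm : x * r * x⁻¹ = r := congrArg Subtype.val hfix
  obtain ⟨e, he⟩ := hRp ⟨r, hr⟩
  have hr1 := eq_up_of_commute (g := (r : SL(2, A))) (e := e) hp
    (by simpa [Subtype.ext_iff] using he)
    (by have := congrArg Subtype.val (mul_inv_eq_iff_eq_mul.mp hcomm); simpa [x] using this.symm)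
  refine ⟨(r : SL(2, A)) 0 1, fun h0 => ?_, by rw [← hr1]; exact hr.2⟩
  exact hne (Subtype.ext (Subtype.ext (by
    rw [show ((r : Γ) : SL(2, A)) = up ((r : SL(2, A)) 0 1) from hr1, h0, up_zero]; rfl)))

end Cfsg.Agent.Lib.QuadPair
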