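import Cfsg.Agent.Lib.QuadPair.FiniteCore
import Cfsg.Agent.Lib.QuadPair.DicksonIndex

/-! For a finite field `K = k[u]` the group generated by `x(k)` and `y(k u)` is `SL(2, K)`. -/

namespace Cfsg.Agent.Lib.QuadPair

open Matrix Polynomial
open scoped MatrixGroups

theorem up_eq {K : Type*} [Field K] (a : K) : PLocal.SLTwo.up a = up a := rfl

theorem lo_eq {K : Type*} [Field K] (a : K) : PLocal.SLTwo.lo a = low a := rfl

variable {k : Type*} [Field k] {p : ℕ} [Fact p.Prime] [CharP k p]
  {K : Type*} [Field K] [Algebra k K] [Finite K] {u : K}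

theorem exists_sylow_upper (hp : p ≠ 2) :
    ∃ P : Sylow p (gamma k u), ∀ w ∈ P, (w : SL(2, K)) = up ((w : SL(2, K)) 0 1) := by
  have hpr : p.Prime := Fact.out
  set Γ := gamma k u
  let x : Γ := ⟨up 1, by simpa using up_mem (k := k) u 1⟩
  have hxp : x ^ p = 1 :=
    Subtype.ext (by simpa [x] using up_pow_char (natCast_char (k := k) p K) 1)
  obtain ⟨P, hP⟩ := (IsPGroup.of_card_dvd_pow (n := 1) (G := Subgroup.zpowers x) (p := p) (by
    rw [Nat.card_zpowers, pow_one]; exact orderOf_dvd_of_pow_eq_one hxp)).exists_le_sylow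
  refine ⟨P, fun w hw => ?_⟩
  let xP : (P : Subgroup Γ) := ⟨x, hP (Subgroup.mem_zpowers x)⟩
  have : Nontrivial (P : Subgroup Γ) := ⟨⟨xP, 1, fun e => by
    have := congrArg (fun z : (P : Subgroup Γ) => ((z : Γ) : SL(2, K)) 0 1) e
    simp [xP, x] at this⟩⟩
  have hPp : IsPGroup p (P : Subgroup Γ) := P.2
  have := hPp.center_nontrivial
  obtain ⟨⟨z, hz⟩, hz1⟩ := exists_ne (1 : Subgroup.center (P : Subgroup Γ))
  rw [Subgroup.mem_center_iff] at hz
  obtain ⟨e, he⟩ := hPp z
  have hzup := eq_up_of_commute (g := ((z : Γ) : SL(2, K))) (e := e) hp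
    (by simpa [Subtype.ext_iff] using he)
    (by simpa [xP, x] using (congrArg (fun t : (P : Subgroup Γ) => ((t : Γ) : SL(2, K))) (hz xP)).symm)
  set f := ((z : Γ) : SL(2, K)) 0 1 with hf
  have hf0 : f ≠ 0 := fun h => hz1 (Subtype.ext (Subtype.ext (Subtype.ext (by
    rw [hzup, h, up_zero]; rfl))))
  obtain ⟨e', he'⟩ := hPp ⟨w, hw⟩
  refine eq_up_of_commute (e := e') hp (by simpa [Subtype.ext_iff] using he') ?_
  have hc : (w : SL(2, K)) * up f = up f * (w : SL(2, K)) := by
    have := congrArg (fun t : (P : Subgroup Γ) => ((t : Γ) : SL(2, K))) (hz ⟨w, hw⟩)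
    simp only [Subgroup.coe_mul, hzup] at this
    exact this
  have h00 := congrArg (fun t : SL(2, K) => t 0 0) hc
  have h01 := congrArg (fun t : SL(2, K) => t 0 1) hc
  simp [Matrix.mul_apply, Fin.sum_univ_two] at h00 h01
  have h10 : (w : SL(2, K)) 1 0 = 0 := h00.resolve_left hf0
  have heq : (w : SL(2, K)) 0 0 = (w : SL(2, K)) 1 1 := by
    apply mul_right_cancel₀ hf0
    linear_combination h01
  apply ext2 <;> simp [Matrix.mul_apply, Fin.sum_univ_two, h10, heq]
  ring

theorem normalised (hp : p ≠ 2) (hu : u ≠ 0) [CharP K p] :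
    Dickson.Normalised p (Dickson.signClosure (gamma k u)) where
  neg_mem := Or.inr (by rw [Dickson.negI_mul_self]; exact one_mem _)
  up_mem := Or.inl (by simpa [up_eq] using up_mem (k := k) u 1)
  exists_lo := ⟨u, hu, Or.inl (by simpa [lo_eq] using low_mem (k := k) u 1)⟩
  conj_unip := by
    intro g hg hgp
    have hgΓ := Dickson.mem_of_mem_signClosure hp hg hgp
    obtain ⟨P, hP⟩ := exists_sylow_upper (k := k) (u := u) hp
    let y : gamma k u := ⟨g, hgΓ⟩
    obtain ⟨Q, hQ⟩ := (IsPGroup.of_card_dvd_pow (n := 1) (G := Subgroup.zpowers y) (p := p) (by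
      rw [Nat.card_zpowers, pow_one]
      exact orderOf_dvd_of_pow_eq_one (Subtype.ext (by simpa [y] using hgp)))).exists_le_sylow
    obtain ⟨h, hh⟩ := MulAction.exists_smul_eq (gamma k u) Q P
    refine ⟨h, Or.inl h.2, _, hP (h * y * h⁻¹) ?_⟩
    rw [← hh, ← SetLike.mem_coe]
    show _ ∈ ((h • Q : Sylow p (gamma k u)) : Subgroup (gamma k u))
    rw [Sylow.coe_subgroup_smul, Subgroup.mem_pointwise_smul_iff_inv_smul_mem]
    simpa [mul_assoc] using hQ (Subgroup.mem_zpowers _)

/-- For a finite field `K = k[u]`, all elementary matrices lie in `gamma k u`. -/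
theorem mem_of_field [Finite k] (hp : p ≠ 2) (hk : 5 ≤ Nat.card k) (hu : u ≠ 0)
    (hgen : ∀ a : K, ∃ q : k[X], a = aeval u q) (a : K) :
    up a ∈ gamma k u ∧ low a ∈ gamma k u := by
  classical
  have hpr : p.Prime := Fact.out
  have := charP_of_injective_algebraMap (algebraMap k K).injective p
  set Γ := gamma k u with hΓ
  set H := Dickson.signClosure Γ with hH
  have hS := normalised (k := k) (u := u) hp hu
  have hp0 : (p : K) = 0 := CharP.cast_eq_zero K p
  have hU : ∀ b : K, b ∈ Dickson.transl H ↔ up b ∈ Γ := fun b => by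
    rw [Dickson.mem_transl, up_eq]
    exact ⟨fun h => Dickson.mem_of_mem_signClosure hp h (up_pow_char hp0 b), fun h => Or.inl h⟩
  have hbig : 5 ≤ Nat.card (Dickson.transl H) := hk.trans <| Nat.card_le_card_of_injective
    (fun c : k => (⟨algebraMap k K c, (hU _).2 (up_mem u c)⟩ : Dickson.transl H))
    fun c d h => (algebraMap k K).injective (congrArg Subtype.val h)
  have hn := borel_index_eq hS hp hbig
  -- every element outside the Borel subgroup lies in one of the cosets of `up a * low l`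
  have cos : ∀ l : K, l ≠ 0 → low l ∈ H → ∀ h ∈ H, h 1 0 ≠ 0 →
      ∃ b : K, up b ∈ Γ ∧ l * (h 0 0 - b * h 1 0) = h 1 0 := by
    intro l hl0 hl h hh h10
    have hbij := (Nat.bijective_iff_injective_and_card _).2
      ⟨Dickson.coset_injective hl0 (by rwa [lo_eq]), by rw [Finite.card_option]; exact hn.symm⟩
    obtain ⟨o, ho⟩ := hbij.2 ((⟨h, hh⟩ : H) : H ⧸ Dickson.borel H)
    rcases o with _ | b
    · exfalso
      simp only at ho
      rw [QuotientGroup.eq, Dickson.mem_borel] at ho
      simp at ho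
      exact h10 ho
    · simp only at ho
      rw [QuotientGroup.eq, Dickson.mem_borel] at ho
      refine ⟨b, (hU _).1 b.2, ?_⟩
      simp only [Subgroup.coe_mul, Subgroup.coe_inv, Dickson.loEl, _root_.mul_inv_rev,
        up_eq, lo_eq, up_inv, low_inv] at ho
      rw [mul_assoc, low_mul_apply_one, up_mul_apply_one, up_mul_apply_zero] at ho
      linear_combination -ho
  -- an element swapping the two root groups
  obtain ⟨g, hg, e, he⟩ := hS.conj_unip (low u) (Or.inl (by simpa using low_mem (k := k) u 1))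
    (by rw [low_pow, hp0, zero_mul, low_zero])
  rw [up_eq, mul_inv_eq_iff_eq_mul] at he
  have he10 := congrArg (fun t : SL(2, K) => t 1 0) he
  simp only [up_mul_apply_one] at he10
  simp [Matrix.mul_apply, Fin.sum_univ_two] at he10
  have hg11 : g 1 1 = 0 := he10.resolve_right hu
  have hd := det2 g
  rw [hg11, mul_zero, zero_sub] at hd
  have hg10 : g 1 0 ≠ 0 := fun h => by rw [h, mul_zero, neg_zero] at hd; exact zero_ne_one hd
  have hi00 : g⁻¹ 0 0 = 0 := by
    simp [Matrix.SpecialLinearGroup.coe_inv, Matrix.adjugate_fin_two, hg11]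
  have hi10 : g⁻¹ 1 0 = -g 1 0 := by
    simp [Matrix.SpecialLinearGroup.coe_inv, Matrix.adjugate_fin_two]
  have hinv : ∀ l : K, low l ∈ Γ → up l⁻¹ ∈ Γ := by
    intro l hl
    by_cases hl0 : l = 0
    · subst hl0; simp
    obtain ⟨b, hb, he⟩ := cos l hl0 (Or.inl hl) g⁻¹ (inv_mem hg) (by rw [hi10]; exact neg_ne_zero.2 hg10)
    rw [hi00, hi10] at he
    have hb' : b = -l⁻¹ := by
      field_simp
      apply mul_right_cancel₀ hg10
      linear_combination he
    rw [show l⁻¹ = -b by rw [hb', neg_neg], ← up_inv]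
    exact inv_mem hb
  -- the two root groups have the same number of elements
  let S := {b : K // low b ∈ Γ}
  let U := {b : K // up b ∈ Γ}
  have hUS : ∀ b : K, up b ∈ Γ → low (-(g 1 0) ^ 2 * b) ∈ Γ := by
    intro b hb
    refine Dickson.mem_of_mem_signClosure hp ?_ (by rw [low_pow, hp0, zero_mul, low_zero])
    have he : low (-(g 1 0) ^ 2 * b) = g⁻¹ * up b * g := by
      rw [mul_assoc, eq_inv_mul_iff_mul_eq]
      apply ext2 <;> simp [Matrix.mul_apply, Fin.sum_univ_two, hg11]
      · linear_combination (g 1 0 * b) * hd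
    rw [he]
    exact mul_mem (mul_mem (inv_mem hg) (Or.inl hb)) hg
  have hcard : Nat.card U ≤ Nat.card S := Nat.card_le_card_of_injective
    (fun b : U => (⟨-(g 1 0) ^ 2 * b.1, hUS b.1 b.2⟩ : S)) fun b c h => Subtype.ext
      (mul_left_cancel₀ (neg_ne_zero.2 (pow_ne_zero 2 hg10)) (congrArg Subtype.val h))
  let φ : S → U := fun b => ⟨b.1⁻¹, hinv b.1 b.2⟩
  have hφ : Function.Injective φ := fun b c h =>
    Subtype.ext (inv_injective (congrArg Subtype.val h))
  have hφs : Function.Surjective φ :=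
    ((Nat.bijective_iff_injective_and_card φ).2
      ⟨hφ, le_antisymm (Nat.card_le_card_of_injective φ hφ) hcard⟩).2
  have hl1 : low (1 : K) ∈ Γ := by
    obtain ⟨⟨b, hb⟩, h⟩ := hφs ⟨1, by simpa using up_mem (k := k) u 1⟩
    have : b⁻¹ = (1 : K) := congrArg Subtype.val h
    rwa [inv_eq_one.mp this] at hb
  have hu1 : up (1 : K) ∈ Γ := by simpa using up_mem (k := k) u 1
  set w : SL(2, K) := up 1 * low (-1) * up 1 with hw
  have hwΓ : w ∈ Γ := mul_mem (mul_mem hu1 (low_inv (1 : K) ▸ inv_mem hl1)) hu1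
  have hwc : ∀ b : K, w * up b * w⁻¹ = low (-b) := by
    intro b
    rw [mul_inv_eq_iff_eq_mul, hw]
    apply ext2 <;> simp [Matrix.mul_apply, Fin.sum_univ_two]
  have hlow : ∀ b : K, up b ∈ Γ ↔ low b ∈ Γ := fun b => by
    constructor
    · intro hb
      have := inv_mem (mul_mem (mul_mem hwΓ hb) (inv_mem hwΓ))
      rwa [hwc, low_inv, neg_neg] at this
    · intro hb
      have h' : low (-b) ∈ Γ := low_inv b ▸ inv_mem hb
      rw [← hwc] at h'
      have := mul_mem (mul_mem (inv_mem hwΓ) h') hwΓ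
      group at this
      simpa using this
  have hi : ∀ b ∈ lam k u, b⁻¹ ∈ lam k u := fun b hb => hinv b ((hlow b).1 hb)
  have h1 : (1 : K) ∈ lam k u := hu1
  have hsq : ∀ b ∈ lam k u, b * b ∈ lam k u := by
    intro b hb
    by_cases h0 : b = 0
    · simpa [h0] using zero_mem (lam k u)
    by_cases hb1 : b = 1
    · simpa [hb1] using h1
    have hb1' := sub_ne_zero.2 hb1
    have hm := hi _ (sub_mem (hi _ (sub_mem hb h1)) (hi _ hb))
    have he : ((b - 1)⁻¹ - b⁻¹)⁻¹ = b * b - b := by field_simp; ring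
    simpa [he] using add_mem hm hb
  have h2 : (2 : K) ≠ 0 := Dickson.two_ne_zero_char hp
  have hmul : ∀ b ∈ lam k u, ∀ c ∈ lam k u, b * c ∈ lam k u := by
    intro b hb c hc
    have h := AddSubgroup.nsmul_mem (lam k u)
      (sub_mem (sub_mem (hsq _ (add_mem hb hc)) (hsq _ hb)) (hsq _ hc)) ((p + 1) / 2)
    convert h using 1
    obtain ⟨i, hi⟩ := hpr.odd_of_ne_two hp
    have hq : (p + 1) / 2 = i + 1 := by omega
    rw [hq, nsmul_eq_mul]
    rw [hi] at hp0
    push_cast at hp0 ⊢
    linear_combination (-(b * c)) * hp0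
  obtain ⟨q, rfl⟩ := hgen a
  have hmem : aeval u q ∈ lam k u := by
    induction q using Polynomial.induction_on with
    | C c => simpa using algebraMap_mem_lam u c
    | add a b ha hb => simpa using add_mem ha hb
    | monomial n c ih =>
      have := hmul _ ih u ((hlow u).2 (by simpa using low_mem (k := k) u 1))
      simpa [pow_succ, mul_assoc] using this
  exact ⟨hmem, (hlow _).1 hmem⟩

end Cfsg.Agent.Lib.QuadPair
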