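import Cfsg.Prelude.Def_RootSubgroups
import Mathlib

/-! Square zero maps whose scalar family lies in a given group. -/

namespace Cfsg.Agent.Lib.QuadPair

variable {k : Type*} [Field k] {M : Type*} [AddCommGroup M] [Module k M]
  {G : Subgroup (LinearMap.GeneralLinearGroup k M)}

local notation "E" => (M →ₗ[k] M)

/-- The endomorphisms underlying elements of `G`. -/
def vals (G : Subgroup (LinearMap.GeneralLinearGroup k M)) : Submonoid E :=
  G.toSubmonoid.map (Units.coeHom E)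

theorem mem_vals {x : E} : x ∈ vals G ↔ ∃ g ∈ G, (g : E) = x := Submonoid.mem_map

/-- `X` is square zero and all `1 + c • X` lie in `G`. -/
structure Good (G : Subgroup (LinearMap.GeneralLinearGroup k M)) (X : E) : Prop where
  sq : X * X = 0
  mem : ∀ c : k, 1 + c • X ∈ vals G

/-- The rank of an endomorphism. -/
noncomputable abbrev rk (X : E) : ℕ := Module.finrank k (LinearMap.range X)

/-- Good, non-zero and of least possible rank. -/
structure IsMin (G : Subgroup (LinearMap.GeneralLinearGroup k M)) (X : E) : Prop where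
  good : Good G X
  ne_zero : X ≠ 0
  le_rk : ∀ Y : E, Good G Y → Y ≠ 0 → rk X ≤ rk Y

theorem one_add_mul_one_sub {Y : E} (h : Y * Y = 0) : (1 + Y) * (1 - Y) = 1 := by
  rw [add_mul, mul_sub, mul_sub, one_mul, one_mul, mul_one, h]; abel

theorem one_sub_mul_one_add {Y : E} (h : Y * Y = 0) : (1 - Y) * (1 + Y) = 1 := by
  rw [mul_add, sub_mul, sub_mul, one_mul, one_mul, mul_one, h]; abel

theorem mem_quadratic_iff {σ : LinearMap.GeneralLinearGroup k M} :
    σ ∈ quadraticElements G ↔ Good G ((σ : E) - 1) ∧ (σ : E) - 1 ≠ 0 := by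
  constructor
  · rintro ⟨-, ⟨h2, h0⟩, hsf⟩
    refine ⟨⟨h2, fun c => ?_⟩, h0⟩
    have hc : (c • ((σ : E) - 1)) * (c • ((σ : E) - 1)) = 0 := by
      rw [smul_mul_smul_comm, h2, smul_zero]
    have e1 := one_add_mul_one_sub hc
    have e2 := one_sub_mul_one_add hc
    exact mem_vals.mpr ⟨⟨_, _, e1, e2⟩, hsf ⟨c, rfl⟩, rfl⟩
  · rintro ⟨hg, h0⟩
    have key : ∀ (c : k) (τ : LinearMap.GeneralLinearGroup k M),
        (τ : E) = 1 + c • ((σ : E) - 1) → τ ∈ G := by
      intro c τ hτ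
      obtain ⟨g, hgG, he⟩ := mem_vals.mp (hg.mem c)
      rwa [show τ = g from Units.ext (hτ.trans he.symm)]
    exact ⟨key 1 σ (by rw [one_smul, add_sub_cancel]), ⟨hg.sq, h0⟩, fun τ ⟨c, hc⟩ => key c τ hc⟩

theorem Good.exists_unit {X : E} (h : Good G X) :
    ∃ σ ∈ G, (σ : E) - 1 = X := by
  obtain ⟨g, hg, he⟩ := mem_vals.mp (h.mem 1)
  exact ⟨g, hg, by rw [he, one_smul, add_sub_cancel_left]⟩

theorem mem_minimal_iff {σ : LinearMap.GeneralLinearGroup k M} :
    σ ∈ minimalQuadraticElements G ↔ IsMin G ((σ : E) - 1) := by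
  constructor
  · rintro ⟨hσ, hmin⟩
    obtain ⟨hg, h0⟩ := mem_quadratic_iff.mp hσ
    refine ⟨hg, h0, fun Y hY hY0 => ?_⟩
    obtain ⟨τ, -, he⟩ := hY.exists_unit
    have := hmin τ (mem_quadratic_iff.mpr (by rw [he]; exact ⟨hY, hY0⟩))
    rwa [commutatorRank, commutatorRank, he] at this
  · intro h
    refine ⟨mem_quadratic_iff.mpr ⟨h.good, h.ne_zero⟩, fun τ hτ => ?_⟩
    obtain ⟨hg, h0⟩ := mem_quadratic_iff.mp hτ
    exact h.le_rk _ hg h0

theorem Good.smul {X : E} (h : Good G X) (a : k) : Good G (a • X) :=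
  ⟨by rw [smul_mul_smul_comm, h.sq, smul_zero], fun c => by rw [smul_smul]; exact h.mem _⟩

theorem Good.neg {X : E} (h : Good G X) : Good G (-X) := by
  simpa using h.smul (-1)

theorem Good.add {X Y : E} (hX : Good G X) (hY : Good G Y) (hXY : X * Y = 0) (hYX : Y * X = 0) :
    Good G (X + Y) := by
  refine ⟨by rw [mul_add, add_mul, add_mul, hX.sq, hY.sq, hXY, hYX]; simp, fun c => ?_⟩
  have := mul_mem (hX.mem c) (hY.mem c)
  simpa [mul_add, add_mul, smul_mul_smul_comm, hXY, add_assoc] using this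

theorem Good.conj {X Y : E} (hX : Good G X) (hY : Good G Y) :
    Good G ((1 + Y) * X * (1 - Y)) := by
  have hinv := one_sub_mul_one_add hY.sq
  have hinv' := one_add_mul_one_sub hY.sq
  refine ⟨?_, fun c => ?_⟩
  · calc (1 + Y) * X * (1 - Y) * ((1 + Y) * X * (1 - Y))
        = (1 + Y) * X * ((1 - Y) * (1 + Y)) * X * (1 - Y) := by noncomm_ring
      _ = 0 := by rw [hinv, mul_one, mul_assoc (1 + Y), hX.sq, mul_zero, zero_mul]
  · have h1 : 1 + Y ∈ vals G := by simpa using hY.mem 1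
    have h2 : 1 - Y ∈ vals G := by simpa [sub_eq_add_neg] using hY.mem (-1)
    have := mul_mem (mul_mem h1 (hX.mem c)) h2
    convert this using 1
    rw [mul_add (1 + Y) 1, mul_one, add_mul (1 + Y) ((1 + Y) * c • X), hinv', mul_smul_comm, smul_mul_assoc]

theorem rk_mul_le_left [FiniteDimensional k M] (X Y : E) : rk (X * Y) ≤ rk X :=
  Submodule.finrank_mono (LinearMap.range_comp_le_range Y X)

theorem rk_mul_le_right [FiniteDimensional k M] (X Y : E) : rk (X * Y) ≤ rk Y := by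
  show Module.finrank k (LinearMap.range (X ∘ₗ Y)) ≤ _
  rw [LinearMap.range_comp]
  exact Submodule.finrank_map_le X _

theorem IsMin.rk_eq {X Y : E} (hX : IsMin G X) (hY : IsMin G Y) : rk X = rk Y :=
  le_antisymm (hX.le_rk Y hY.good hY.ne_zero) (hY.le_rk X hX.good hX.ne_zero)

theorem IsMin.of_rk_le {X Y : E} (hX : IsMin G X) (hY : Good G Y) (h0 : Y ≠ 0)
    (h : rk Y ≤ rk X) : IsMin G Y :=
  ⟨hY, h0, fun Z hZ hZ0 => h.trans (hX.le_rk Z hZ hZ0)⟩

theorem IsMin.smul [FiniteDimensional k M] {X : E} (hX : IsMin G X) {a : k} (ha : a ≠ 0) :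
    IsMin G (a • X) :=
  hX.of_rk_le (hX.good.smul a) (smul_ne_zero ha hX.ne_zero)
    (by rw [rk, LinearMap.range_smul X a ha])

theorem IsMin.conj [FiniteDimensional k M] {X Y : E} (hX : IsMin G X) (hY : Good G Y) :
    IsMin G ((1 + Y) * X * (1 - Y)) := by
  refine hX.of_rk_le (hX.good.conj hY) ?_ ((rk_mul_le_left _ _).trans (rk_mul_le_right _ _))
  intro h
  apply hX.ne_zero
  have hinv := one_sub_mul_one_add hY.sq
  calc X = (1 - Y) * (1 + Y) * X * ((1 - Y) * (1 + Y)) := by rw [hinv, one_mul, mul_one]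
    _ = (1 - Y) * ((1 + Y) * X * (1 - Y)) * (1 + Y) := by noncomm_ring
    _ = 0 := by rw [h, mul_zero, zero_mul]

end Cfsg.Agent.Lib.QuadPair
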