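import Cfsg.Agent.Lib.QuadPair.Commutator

/-! The class groups: commuting, normalizing, commutator subgroups. -/

namespace Cfsg.Agent.Lib.QuadPair

open Cfsg.Agent.Lib.RootSubgroups

variable {k : Type*} [Field k] {M : Type*} [AddCommGroup M] [Module k M] [FiniteDimensional k M]
  {G : Subgroup (LinearMap.GeneralLinearGroup k M)}

local notation "E" => (M →ₗ[k] M)

theorem val_inv_of_sq {x : LinearMap.GeneralLinearGroup k M} (h : ((x : E) - 1) * ((x : E) - 1) = 0) :
    ((x⁻¹ : LinearMap.GeneralLinearGroup k M) : E) = 1 - ((x : E) - 1) := by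
  rw [scalar_unit_inv h (c := 1) (by rw [one_smul, add_sub_cancel]), neg_smul, one_smul,
    ← sub_eq_add_neg]

theorem commutator_val {e f : LinearMap.GeneralLinearGroup k M} {A B : E} (he : (e : E) - 1 = A)
    (hf : (f : E) - 1 = B) (hA : A * A = 0) (hB : B * B = 0) (h : A * B * A = 0) (h' : B * A * B = 0) :
    ((e * f * e⁻¹ * f⁻¹ : LinearMap.GeneralLinearGroup k M) : E) - 1 = A * B - B * A := by
  have hAw : ∀ w : E, A * (A * w) = 0 := fun w => by rw [← mul_assoc, hA, zero_mul]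
  have hBw : ∀ w : E, B * (B * w) = 0 := fun w => by rw [← mul_assoc, hB, zero_mul]
  have h1 : A * (B * A) = 0 := by rwa [← mul_assoc]
  have h1w : ∀ w : E, A * (B * (A * w)) = 0 := fun w => by
    rw [← mul_assoc B, ← mul_assoc, h1, zero_mul]
  have h2 : B * (A * B) = 0 := by rwa [← mul_assoc]
  have ee : (e : E) = 1 + A := by rw [← he, add_sub_cancel]
  have ff : (f : E) = 1 + B := by rw [← hf, add_sub_cancel]
  rw [Units.val_mul, Units.val_mul, Units.val_mul, val_inv_of_sq (by rw [he, hA]),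
    val_inv_of_sq (by rw [hf, hB]), he, hf, ee, ff]
  simp [mul_add, add_mul, mul_sub, sub_mul, mul_assoc, hA, hB, hBw, h1, h1w, h2]
  abel

omit [FiniteDimensional k M] in
theorem mul_comm_comm {N P : E} (hN : N * N = 0) (h : N * P * N = 0) :
    N * (N * P - P * N) = (N * P - P * N) * N := by
  rw [mul_sub, sub_mul, ← mul_assoc N N P, hN, ← mul_assoc N P N, h, mul_assoc P N N, hN]
  simp

omit [FiniteDimensional k M] in
theorem conj_mul_self {N P : E} (hN : N * N = 0) (hP : P * P = 0) :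
    (1 - N) * ((1 + N) * P * (1 - N) * P) = -(P * N * P) := by
  rw [← mul_assoc, ← mul_assoc, ← mul_assoc, one_sub_mul_one_add hN, one_mul, mul_sub,
    mul_one, sub_mul, hP, zero_sub]

theorem commute_iff_val {e f : LinearMap.GeneralLinearGroup k M} :
    e * f = f * e ↔ ((e : E) - 1) * ((f : E) - 1) = ((f : E) - 1) * ((e : E) - 1) := by
  rw [Units.ext_iff, Units.val_mul, Units.val_mul]
  constructor
  · intro h
    simp only [mul_sub, sub_mul, one_mul, mul_one, h]
    abel
  · intro h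
    have e1 : (e : E) * f = ((e : E) - 1) * ((f : E) - 1) + (e : E) + f - 1 := by noncomm_ring
    have e2 : (f : E) * e = ((f : E) - 1) * ((e : E) - 1) + (e : E) + f - 1 := by noncomm_ring
    rw [e1, e2, h]

variable {σ τ : LinearMap.GeneralLinearGroup k M}

theorem bot_of_commute (h2 : (2 : k) ≠ 0) (hk3 : Nat.card k ≠ 3)
    (hσ : σ ∈ minimalQuadraticElements G) (hτ : τ ∈ minimalQuadraticElements G)
    {e f : LinearMap.GeneralLinearGroup k M} (he : e ∈ sameActionSubgroup G σ) (he1 : e ≠ 1)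
    (hf : f ∈ sameActionSubgroup G τ) (hf1 : f ≠ 1) (h : e * f = f * e) :
    ⁅sameActionSubgroup G σ, sameActionSubgroup G τ⁆ = ⊥ := by
  rw [Subgroup.commutator_eq_bot_iff_le_centralizer]
  intro a ha
  rw [Subgroup.mem_centralizer_iff]
  intro b hb
  have hN := mem_minimal_iff.mp hσ
  have hP := mem_minimal_iff.mp hτ
  have he' := (mem_sameAction_iff hσ).mp he
  have hf' := (mem_sameAction_iff hτ).mp hf
  have he0 : (e : E) - 1 ≠ 0 := fun z => he1 (Units.ext (sub_eq_zero.mp z))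
  have hf0 : (f : E) - 1 ≠ 0 := fun z => hf1 (Units.ext (sub_eq_zero.mp z))
  have sN := he'.sameAct hN he0
  have sP := hf'.sameAct hP hf0
  exact (commute_iff_val.mpr (commute_cls h2 hk3 (he'.isMin hN he0) (hf'.isMin hP hf0)
    (commute_iff_val.mp h) (((mem_sameAction_iff hσ).mp ha).trans_sameAct ⟨sN.1.symm, sN.2.symm⟩)
    (((mem_sameAction_iff hτ).mp hb).trans_sameAct ⟨sP.1.symm, sP.2.symm⟩))).symm

theorem bot_of_normalizer (h2 : (2 : k) ≠ 0) (hk3 : Nat.card k ≠ 3)
    (hσ : σ ∈ minimalQuadraticElements G) (hτ : τ ∈ minimalQuadraticElements G)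
    {e : LinearMap.GeneralLinearGroup k M} (he : e ∈ sameActionSubgroup G σ) (he1 : e ≠ 1)
    (hn : e ∈ Subgroup.normalizer (sameActionSubgroup G τ : Set (LinearMap.GeneralLinearGroup k M))) :
    ⁅sameActionSubgroup G σ, sameActionSubgroup G τ⁆ = ⊥ := by
  have hN₀ := mem_minimal_iff.mp hσ
  have hP := mem_minimal_iff.mp hτ
  have he' := (mem_sameAction_iff hσ).mp he
  have he0 : (e : E) - 1 ≠ 0 := fun z => he1 (Units.ext (sub_eq_zero.mp z))
  have hN := he'.isMin hN₀ he0
  set N := (e : E) - 1 with hNdef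
  set P := (τ : E) - 1 with hPdef
  have hτ' : τ ∈ sameActionSubgroup G τ := (mem_sameAction_iff hτ).mpr (inCls_self hP.good)
  have hτ1 : τ ≠ 1 := fun z => hP.ne_zero (by rw [hPdef, z, Units.val_one, sub_self])
  have hmem : e * τ * e⁻¹ * τ⁻¹ ∈ sameActionSubgroup G τ :=
    mul_mem ((Subgroup.mem_normalizer_iff.mp hn τ).mp hτ') (inv_mem hτ')
  have hP1 := (mem_sameAction_iff hτ).mp ((Subgroup.mem_normalizer_iff.mp hn τ).mp hτ')
  have hv : ((e * τ * e⁻¹ : LinearMap.GeneralLinearGroup k M) : E) - 1 = (1 + N) * P * (1 - N) := by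
    rw [Units.val_mul, Units.val_mul, val_inv_of_sq hN.good.sq, ← hNdef,
      show (e : E) = 1 + N by rw [hNdef, add_sub_cancel],
      show (τ : E) = 1 + P by rw [hPdef, add_sub_cancel], mul_add, mul_one, add_mul,
      one_add_mul_one_sub hN.good.sq, add_sub_cancel_left]
  rw [hv] at hP1
  by_cases hNPN : N * P * N = 0
  · have hPNP := mul_mul_zero_symm h2 hN hP hNPN
    have hX := (mem_sameAction_iff hτ).mp hmem
    rw [commutator_val hNdef.symm hPdef.symm hN.good.sq hP.good.sq hNPN hPNP] at hX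
    by_cases h0 : N * P - P * N = 0
    · exact bot_of_commute h2 hk3 hσ hτ he he1 hτ' hτ1
        (commute_iff_val.mpr (sub_eq_zero.mp h0))
    · refine bot_of_commute h2 hk3 hσ hτ he he1 hmem (fun z => h0 ?_) (commute_iff_val.mpr ?_)
      · have := commutator_val hNdef.symm hPdef.symm hN.good.sq hP.good.sq hNPN hPNP
        rw [z, Units.val_one, sub_self] at this
        exact this.symm
      · rw [commutator_val hNdef.symm hPdef.symm hN.good.sq hP.good.sq hNPN hPNP]
        exact mul_comm_comm hN.good.sq hNPN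
  · exfalso
    have hz := hP1.mul_eq_zero hP.good.sq (inCls_self hP.good)
    have hII := (typeTwo_of_ne h2 hk3 hN hP hNPN).symm.ne_zero
    apply hII
    have e1 := conj_mul_self (N := N) (P := P) hN.good.sq hP.good.sq
    rw [hz, mul_zero] at e1
    exact neg_eq_zero.mp e1.symm

theorem not_typeTwo_of_unipotent {H : Subgroup (LinearMap.GeneralLinearGroup k M)}
    (hu : IsUnipotentOn H) (hσ : σ ∈ H) (hτ : τ ∈ H)
    (h : TypeTwo G ((σ : E) - 1) ((τ : E) - 1)) : False := by
  obtain ⟨n, hn⟩ := Unipotent.isUnipotentOn_iff.mp hu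
  set N := (σ : E) - 1
  set P := (τ : E) - 1
  have hmem : N * P ∈ Unipotent.aug H :=
    Unipotent.mul_aug_le (Submodule.mul_mem_mul (Unipotent.sub_one_mem hσ) (Unipotent.sub_one_mem hτ))
  have hz : (N * P) ^ n = 0 := by
    have := Submodule.pow_mem_pow (Unipotent.aug H) hmem n
    rwa [hn, Submodule.mem_bot] at this
  have hr : ∀ j : ℕ, LinearMap.range ((N * P) ^ j * N) = LinearMap.range N := by
    intro j
    induction j with
    | zero => simp
    | succ j ih => rw [pow_succ', mul_assoc, range_mul, ih, ← range_mul, h.range_left]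
  have := hr n
  rw [hz, zero_mul, LinearMap.range_zero, eq_comm, LinearMap.range_eq_bot] at this
  exact h.min_left.ne_zero this

theorem skew_of_class_two (h2 : (2 : k) ≠ 0) (hk3 : Nat.card k ≠ 3)
    (hσ : σ ∈ minimalQuadraticElements G) (hτ : τ ∈ minimalQuadraticElements G)
    {X : Subgroup (LinearMap.GeneralLinearGroup k M)} (hσX : σ ∈ X) (hτX : τ ∈ X)
    (hX : ⁅⁅X, X⁆, X⁆ = ⊥) :
    ((σ : E) - 1) * ((τ : E) - 1) * ((σ : E) - 1) = 0 := by
  have hN := mem_minimal_iff.mp hσ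
  have hP := mem_minimal_iff.mp hτ
  have hc := (Subgroup.commutator_eq_bot_iff_le_centralizer.mp hX)
    (Subgroup.commutator_mem_commutator hσX hτX)
  rw [Subgroup.mem_centralizer_iff] at hc
  have h0 := hc σ hσX
  rw [commutatorElement_def] at h0
  have h1 : (τ * σ⁻¹ * τ⁻¹) * σ = σ * (τ * σ⁻¹ * τ⁻¹) := by
    apply mul_left_cancel (a := σ)
    simpa [mul_assoc] using h0.symm
  have h3 : (τ * σ * τ⁻¹) * σ = σ * (τ * σ * τ⁻¹) := by
    have : Commute (τ * σ⁻¹ * τ⁻¹) σ := h1
    have := this.inv_left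
    rwa [mul_inv_rev, mul_inv_rev, inv_inv, inv_inv, ← mul_assoc] at this
  have h4 := commute_iff_val.mp h3
  set N := (σ : E) - 1 with hNdef
  set P := (τ : E) - 1 with hPdef
  have hv : ((τ * σ * τ⁻¹ : LinearMap.GeneralLinearGroup k M) : E) - 1 = (1 + P) * N * (1 - P) := by
    rw [Units.val_mul, Units.val_mul, val_inv_of_sq hP.good.sq, ← hPdef,
      show (σ : E) = 1 + N by rw [hNdef, add_sub_cancel],
      show (τ : E) = 1 + P by rw [hPdef, add_sub_cancel], mul_add, mul_one, add_mul,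
      one_add_mul_one_sub hP.good.sq, add_sub_cancel_left]
  rw [hv] at h4
  have hN1 := hN.conj hP.good
  obtain ⟨-, hz⟩ := commute_mul_mul hN1.good.sq hN.good.sq h4
  have h5 := conj_identity (k := k) hN.good.sq hP.good.sq 1
  rw [pow_one, pow_one, mul_one, ← mul_assoc, hz] at h5
  refine mul_mul_zero_of_nilpotent h2 hN 2 P hP ?_
  simpa using h5.symm

/-- Endomorphisms satisfying the conditions of the unipotent core of the class of `C`. -/
def coreSpace (C : E) : Submodule k E where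
  carrier := {Y | C * Y = 0 ∧ Y * C = 0 ∧ ∀ m ∈ LinearMap.ker C, Y m ∈ LinearMap.range C}
  zero_mem' := ⟨mul_zero _, zero_mul _, fun m _ => zero_mem _⟩
  add_mem' := fun {Y Z} hY hZ => ⟨by rw [mul_add, hY.1, hZ.1, add_zero],
    by rw [add_mul, hY.2.1, hZ.2.1, add_zero], fun m hm => add_mem (hY.2.2 m hm) (hZ.2.2 m hm)⟩
  smul_mem' := fun c Y hY => ⟨by rw [mul_smul_comm, hY.1, smul_zero],
    by rw [smul_mul_assoc, hY.2.1, smul_zero], fun m hm => Submodule.smul_mem _ c (hY.2.2 m hm)⟩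

omit [FiniteDimensional k M] in
theorem coreSpace_mul {C Y Z : E} (hY : Y ∈ coreSpace C) (hZ : Z ∈ coreSpace C) :
    Y * Z ∈ coreSpace C :=
  ⟨by rw [← mul_assoc, hY.1, zero_mul], by rw [mul_assoc, hZ.2.1, mul_zero], fun m hm => by
    obtain ⟨y, hy⟩ := hZ.2.2 m hm
    rw [Module.End.mul_apply, ← hy, ← Module.End.mul_apply, hY.2.1, LinearMap.zero_apply]
    exact zero_mem _⟩

theorem Skew.mem_coreSpace (h2 : (2 : k) ≠ 0) {N P : E} (h : Skew G N P) :
    N ∈ coreSpace (N * P - P * N) := by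
  refine ⟨h.mul_comm_eq_zero.1, h.mul_comm_eq_zero.2, fun m hm => ?_⟩
  obtain ⟨hr, hk⟩ := h.range_ker_comm h2
  rw [hk] at hm
  obtain ⟨_, ⟨s, rfl⟩, κ, hκ, rfl⟩ := Submodule.mem_sup.mp hm.2
  rw [hr, map_add, LinearMap.mem_ker.mp hκ, add_zero]
  exact Submodule.mem_sup_left ⟨⟨P s, rfl⟩, by
    simpa [mul_assoc] using LinearMap.congr_fun h.right s⟩

/-- The results on a non-commuting annihilating pair of classes. -/
theorem main_skew (h2 : (2 : k) ≠ 0) (hk3 : Nat.card k ≠ 3) (hG : IsQuadraticPair G)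
    (hσ : σ ∈ minimalQuadraticElements G) (hτ : τ ∈ minimalQuadraticElements G)
    (h : Skew G ((σ : E) - 1) ((τ : E) - 1)) :
    let A := sameActionSubgroup G σ
    let B := sameActionSubgroup G τ
    ⁅A, B⁆ ∈ quadraticRootSubgroups G ∧
      (∀ e ∈ A, e ≠ 1 → Subgroup.closure
        ((fun f : LinearMap.GeneralLinearGroup k M => e * f * e⁻¹ * f⁻¹) '' (B : Set _)) = ⁅A, B⁆) ∧
      (∀ f ∈ B, f ≠ 1 → Subgroup.closure
        ((fun e : LinearMap.GeneralLinearGroup k M => e * f * e⁻¹ * f⁻¹) '' (A : Set _)) = ⁅A, B⁆) ∧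
      ⁅A ⊔ B, A ⊔ B⁆ ≠ ⊥ ∧ ⁅⁅A ⊔ B, A ⊔ B⁆, A ⊔ B⁆ = ⊥ ∧
      ((A ⊔ B : Subgroup (LinearMap.GeneralLinearGroup k M)) : Set _) ⊆
        quadraticUnipotentCore G ⁅A, B⁆ := by
  intro A B
  set N := (σ : E) - 1 with hN
  set P := (τ : E) - 1 with hP
  set C := N * P - P * N with hC
  obtain ⟨χ, hχG, hχv⟩ := (h.isMin_comm h2).good.exists_unit
  have hχ : χ ∈ minimalQuadraticElements G := mem_minimal_iff.mpr (hχv ▸ h.isMin_comm h2)
  set D := sameActionSubgroup G χ with hD
  have memD : ∀ x : LinearMap.GeneralLinearGroup k M, x ∈ D ↔ InCls G C ((x : E) - 1) := fun x => by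
    rw [hD, mem_sameAction_iff hχ, hχv]
  have hann : ∀ a ∈ A, ∀ b ∈ B,
      ((a * b * a⁻¹ * b⁻¹ : LinearMap.GeneralLinearGroup k M) : E) - 1 =
        ((a : E) - 1) * ((b : E) - 1) - ((b : E) - 1) * ((a : E) - 1) := by
    intro a ha b hb
    have ha' := (mem_sameAction_iff hσ).mp ha
    have hb' := (mem_sameAction_iff hτ).mp hb
    obtain ⟨z1, z2⟩ := annihilate_congr h2 hk3 h.min_left h.min_right h.left ha' hb'
    exact commutator_val rfl rfl ha'.good.sq hb'.good.sq z1 z2
  have hgen : ∀ a ∈ A, ∀ b ∈ B, a * b * a⁻¹ * b⁻¹ ∈ D := fun a ha b hb => by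
    rw [memD, hann a ha b hb]
    exact h.comm_inCls h2 hk3 ((mem_sameAction_iff hσ).mp ha) ((mem_sameAction_iff hτ).mp hb)
  have surjL : ∀ a ∈ A, a ≠ 1 → ∀ x ∈ D, ∃ b ∈ B, a * b * a⁻¹ * b⁻¹ = x := by
    intro a ha ha1 x hx
    have ha' := (mem_sameAction_iff hσ).mp ha
    have ha0 : (a : E) - 1 ≠ 0 := fun z => ha1 (Units.ext (sub_eq_zero.mp z))
    have h' := h.congr h2 hk3 ha' ha0 (inCls_self h.min_right.good) h.min_right.ne_zero
    have hs := (h.comm_inCls h2 hk3 ha' (inCls_self h.min_right.good)).sameAct (h.isMin_comm h2)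
      (sub_ne_zero.mpr h'.ne)
    obtain ⟨P', hP', he⟩ := h'.surjective_ad h2 hk3 hG
      (((memD x).mp hx).trans_sameAct ⟨hs.1.symm, hs.2.symm⟩)
    obtain ⟨b, hbG, hbv⟩ := hP'.good.exists_unit
    have hb : b ∈ B := (mem_sameAction_iff hτ).mpr (hbv ▸ hP')
    refine ⟨b, hb, Units.ext ((sub_left_inj (a := (1 : E))).mp ?_)⟩
    rw [hann a ha b hb, hbv, he]
  have surjR : ∀ b ∈ B, b ≠ 1 → ∀ x ∈ D, ∃ a ∈ A, a * b * a⁻¹ * b⁻¹ = x := by
    intro b hb hb1 x hx
    have hb' := (mem_sameAction_iff hτ).mp hb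
    have hb0 : (b : E) - 1 ≠ 0 := fun z => hb1 (Units.ext (sub_eq_zero.mp z))
    have h' := (h.congr h2 hk3 (inCls_self h.min_left.good) h.min_left.ne_zero hb' hb0).symm
    have hc := h.comm_inCls h2 hk3 (inCls_self h.min_left.good) hb'
    have hs := hc.sameAct (h.isMin_comm h2) (sub_ne_zero.mpr h'.symm.ne)
    have hx' : InCls G (((b : E) - 1) * N - N * ((b : E) - 1)) ((x : E) - 1) := by
      have h1 := ((memD x).mp hx).trans_sameAct
        (show SameAct C (((b : E) - 1) * N - N * ((b : E) - 1)) by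
          rw [← neg_sub (N * ((b : E) - 1))]
          exact ⟨by rw [LinearMap.range_neg]; exact hs.1.symm,
            by rw [LinearMap.ker_neg]; exact hs.2.symm⟩)
      exact h1
    obtain ⟨N', hN', he⟩ := h'.surjective_ad h2 hk3 hG (by simpa using hx'.smul (-1))
    obtain ⟨a, haG, hav⟩ := hN'.good.exists_unit
    have ha : a ∈ A := (mem_sameAction_iff hσ).mpr (hav ▸ hN')
    refine ⟨a, ha, Units.ext ((sub_left_inj (a := (1 : E))).mp ?_)⟩
    rw [hann a ha b hb, hav, ← neg_sub, he, neg_sub]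
  have hσA : σ ∈ A := (mem_sameAction_iff hσ).mpr (inCls_self h.min_left.good)
  have hτB : τ ∈ B := (mem_sameAction_iff hτ).mpr (inCls_self h.min_right.good)
  have hσ1 : σ ≠ 1 := fun z => h.min_left.ne_zero (by rw [hN, z, Units.val_one, sub_self])
  have hτ1 : τ ≠ 1 := fun z => h.min_right.ne_zero (by rw [hP, z, Units.val_one, sub_self])
  have hAB : ⁅A, B⁆ = D := by
    refine le_antisymm (Subgroup.commutator_le.mpr fun a ha b hb => hgen a ha b hb) fun x hx => ?_
    obtain ⟨b, hb, he⟩ := surjL σ hσA hσ1 x hx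
    exact he ▸ Subgroup.commutator_mem_commutator hσA hb
  have closeL : ∀ e ∈ A, e ≠ 1 → Subgroup.closure
      ((fun f : LinearMap.GeneralLinearGroup k M => e * f * e⁻¹ * f⁻¹) '' (B : Set _)) = ⁅A, B⁆ := by
    intro e he he1
    refine le_antisymm ((Subgroup.closure_le _).mpr ?_) fun x hx => ?_
    · rintro _ ⟨f, hf, rfl⟩; exact Subgroup.commutator_mem_commutator he hf
    · obtain ⟨b, hb, hx'⟩ := surjL e he he1 x (hAB ▸ hx)
      exact Subgroup.subset_closure ⟨b, hb, hx'⟩
  have closeR : ∀ f ∈ B, f ≠ 1 → Subgroup.closure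
      ((fun e : LinearMap.GeneralLinearGroup k M => e * f * e⁻¹ * f⁻¹) '' (A : Set _)) = ⁅A, B⁆ := by
    intro f hf hf1
    refine le_antisymm ((Subgroup.closure_le _).mpr ?_) fun x hx => ?_
    · rintro _ ⟨e, he, rfl⟩; exact Subgroup.commutator_mem_commutator he hf
    · obtain ⟨a, ha, hx'⟩ := surjR f hf hf1 x (hAB ▸ hx)
      exact Subgroup.subset_closure ⟨a, ha, hx'⟩
  -- the core conditions
  have hcore : ∀ g ∈ A ⊔ B, g ∈ G ∧ (g : E) - 1 ∈ coreSpace C := by
    have hgenA : ∀ x, (x ∈ A ∨ x ∈ B) → x ∈ G ∧ (x : E) - 1 ∈ coreSpace C := by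
      intro x hx
      by_cases h0 : (x : E) - 1 = 0
      · rw [show x = 1 from Units.ext (sub_eq_zero.mp h0), Units.val_one, sub_self]
        exact ⟨one_mem _, zero_mem _⟩
      have hG' : InCls G N ((x : E) - 1) ∨ InCls G P ((x : E) - 1) :=
        hx.imp (mem_sameAction_iff hσ).mp (mem_sameAction_iff hτ).mp
      have hgood : Good G ((x : E) - 1) := hG'.elim (·.good) (·.good)
      refine ⟨(mem_quadratic_iff.mpr ⟨hgood, h0⟩).1, ?_⟩
      rcases hG' with ha | hb
      · have h' := h.congr h2 hk3 ha h0 (inCls_self h.min_right.good) h.min_right.ne_zero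
        have hs := (h.comm_inCls h2 hk3 ha (inCls_self h.min_right.good)).sameAct (h.isMin_comm h2)
          (sub_ne_zero.mpr h'.ne)
        obtain ⟨u1, u2, u3⟩ := h'.mem_coreSpace h2
        refine ⟨LinearMap.ext fun m => ?_, LinearMap.ext fun m => ?_, fun m hm => ?_⟩
        · rw [Module.End.mul_apply, LinearMap.zero_apply, ← LinearMap.mem_ker, ← hs.2, LinearMap.mem_ker]
          exact LinearMap.congr_fun u1 m
        · obtain ⟨y, hy⟩ : C m ∈ LinearMap.range (((x : E) - 1) * P - P * ((x : E) - 1)) :=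
            hs.1.symm ▸ ⟨m, rfl⟩
          rw [Module.End.mul_apply, ← hy, ← Module.End.mul_apply, u2]; rfl
        · exact hs.1 ▸ u3 m (hs.2.symm ▸ hm)
      · have h' := (h.congr h2 hk3 (inCls_self h.min_left.good) h.min_left.ne_zero hb h0).symm
        have hc := (h.comm_inCls h2 hk3 (inCls_self h.min_left.good) hb).smul (-1)
        rw [neg_smul, one_smul, neg_sub] at hc
        have hs := hc.sameAct (h.isMin_comm h2) (sub_ne_zero.mpr h'.ne)
        obtain ⟨u1, u2, u3⟩ := h'.mem_coreSpace h2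
        refine ⟨LinearMap.ext fun m => ?_, LinearMap.ext fun m => ?_, fun m hm => ?_⟩
        · rw [Module.End.mul_apply, LinearMap.zero_apply, ← LinearMap.mem_ker, ← hs.2, LinearMap.mem_ker]
          exact LinearMap.congr_fun u1 m
        · obtain ⟨y, hy⟩ : C m ∈ LinearMap.range (((x : E) - 1) * N - N * ((x : E) - 1)) :=
            hs.1.symm ▸ ⟨m, rfl⟩
          rw [Module.End.mul_apply, ← hy, ← Module.End.mul_apply, u2]; rfl
        · exact hs.1 ▸ u3 m (hs.2.symm ▸ hm)
    intro g hg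
    rw [Subgroup.sup_eq_closure] at hg
    induction hg using Subgroup.closure_induction_left with
    | one => simp [one_mem]
    | mul_left x hx y _ ih =>
      refine ⟨mul_mem (hgenA x hx).1 ih.1, ?_⟩
      rw [show ((x * y : LinearMap.GeneralLinearGroup k M) : E) - 1 =
        ((x : E) - 1) + ((y : E) - 1) + ((x : E) - 1) * ((y : E) - 1) by
          rw [Units.val_mul]; noncomm_ring]
      exact add_mem (add_mem (hgenA x hx).2 ih.2) (coreSpace_mul (hgenA x hx).2 ih.2)
    | inv_mul_cancel x hx y _ ih =>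
      have hx' : x⁻¹ ∈ A ∨ x⁻¹ ∈ B := hx.imp inv_mem inv_mem
      refine ⟨mul_mem (hgenA _ hx').1 ih.1, ?_⟩
      rw [show ((x⁻¹ * y : LinearMap.GeneralLinearGroup k M) : E) - 1 =
        (((x⁻¹ : LinearMap.GeneralLinearGroup k M) : E) - 1) + ((y : E) - 1) +
          (((x⁻¹ : LinearMap.GeneralLinearGroup k M) : E) - 1) * ((y : E) - 1) by
          rw [Units.val_mul]; noncomm_ring]
      exact add_mem (add_mem (hgenA _ hx').2 ih.2) (coreSpace_mul (hgenA _ hx').2 ih.2)
  have hcent : ∀ g ∈ A ⊔ B, ∀ x ∈ D, g * x = x * g := by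
    intro g hg x hx
    obtain ⟨u1, u2, -⟩ := (hcore g hg).2
    have hx' := (memD x).mp hx
    rw [commute_iff_val]
    have z1 : ((g : E) - 1) * ((x : E) - 1) = 0 := LinearMap.ext fun m => by
      obtain ⟨y, hy⟩ := hx'.range_le ⟨m, rfl⟩
      rw [Module.End.mul_apply, ← hy, ← Module.End.mul_apply, u2]; rfl
    have z2 : ((x : E) - 1) * ((g : E) - 1) = 0 :=
      LinearMap.ext fun m => LinearMap.mem_ker.mp (hx'.ker_le (LinearMap.congr_fun u1 m))
    rw [z1, z2]
  have hXX : ⁅A ⊔ B, A ⊔ B⁆ ≤ D := by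
    rw [Subgroup.commutator_le]
    have key : ∀ S : Set (LinearMap.GeneralLinearGroup k M), S ⊆ (A : Set _) ∪ B →
        ∀ b ∈ A ⊔ B, (∀ a ∈ S, a * b * a⁻¹ * b⁻¹ ∈ D) →
        ∀ a ∈ Subgroup.closure S, a * b * a⁻¹ * b⁻¹ ∈ D := by
      intro S hS b hb hall a ha
      have hmem : ∀ z ∈ Subgroup.closure S, z ∈ A ⊔ B := fun z hz =>
        (Subgroup.closure_le _).mpr (fun s hs => (hS hs).elim (fun h => le_sup_left (a := A) h)
          (fun h => le_sup_right (b := B) h)) hz
      induction ha using Subgroup.closure_induction with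
      | mem x hx => exact hall x hx
      | one => simp [one_mem]
      | mul x y hx hy hxd hyd =>
        have hc := hcent x (hmem x hx) _ hyd
        have : x * y * b * (x * y)⁻¹ * b⁻¹ = (y * b * y⁻¹ * b⁻¹) * (x * b * x⁻¹ * b⁻¹) := by
          rw [← mul_assoc, ← mul_assoc, ← mul_assoc, ← hc]; group
        rw [this]; exact mul_mem hyd hxd
      | inv x hx hxd =>
        have hc := hcent x⁻¹ (inv_mem (hmem x hx)) _ (inv_mem hxd)
        have : x⁻¹ * b * x⁻¹⁻¹ * b⁻¹ = (x * b * x⁻¹ * b⁻¹)⁻¹ := by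
          have e : x⁻¹ * b * x⁻¹⁻¹ * b⁻¹ = x⁻¹ * (x * b * x⁻¹ * b⁻¹)⁻¹ * x := by group
          rw [e, hc]; group
        rw [this]; exact inv_mem hxd
    have hgen2 : ∀ a, (a ∈ A ∨ a ∈ B) → ∀ b, (b ∈ A ∨ b ∈ B) → a * b * a⁻¹ * b⁻¹ ∈ D := by
      have ab : ∀ (ρ : LinearMap.GeneralLinearGroup k M) (hρ : ρ ∈ minimalQuadraticElements G),
          ∀ a ∈ sameActionSubgroup G ρ, ∀ b ∈ sameActionSubgroup G ρ,
            a * b * a⁻¹ * b⁻¹ ∈ D := fun ρ hρ a ha b hb => by
        have ha' := (mem_sameAction_iff hρ).mp ha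
        have hb' := (mem_sameAction_iff hρ).mp hb
        have hsq := (mem_minimal_iff.mp hρ).good.sq
        have : a * b = b * a := commute_iff_val.mpr (by
          rw [ha'.mul_eq_zero hsq hb', hb'.mul_eq_zero hsq ha'])
        rw [this]; group; exact one_mem _
      rintro a (ha | ha) b (hb | hb)
      · exact ab σ hσ a ha b hb
      · exact hgen a ha b hb
      · have := inv_mem (hgen b hb a ha)
        simpa [mul_assoc] using this
      · exact ab τ hτ a ha b hb
    intro a ha b hb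
    rw [commutatorElement_def]
    rw [Subgroup.sup_eq_closure] at ha
    refine key _ subset_rfl b hb ?_ a ha
    intro a' ha'
    have hb2 : b ∈ Subgroup.closure ((A : Set _) ∪ B) := by rwa [← Subgroup.sup_eq_closure]
    have ha2 : a' ∈ A ⊔ B := ha'.elim (fun h => le_sup_left (a := A) h) (fun h => le_sup_right (b := B) h)
    have := key _ subset_rfl a' ha2 (fun b' hb' => hgen2 b' hb' a' ha') b hb2
    have := inv_mem this
    simpa [mul_assoc] using this
  have hDne : ⁅A ⊔ B, A ⊔ B⁆ ≠ ⊥ := by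
    intro h0
    apply h.ne
    have := (Subgroup.commutator_eq_bot_iff_le_centralizer.mp h0) (le_sup_left (a := A) hσA)
    exact (commute_iff_val.mp ((Subgroup.mem_centralizer_iff.mp this) τ (le_sup_right (b := B) hτB))).symm
  refine ⟨hAB ▸ ⟨χ, hχ, rfl⟩, closeL, closeR, hDne, ?_, ?_⟩
  · rw [Subgroup.commutator_eq_bot_iff_le_centralizer]
    exact fun x hx => Subgroup.mem_centralizer_iff.mpr fun g hg => hcent g hg x (hXX hx)
  · intro g hg
    obtain ⟨hgG, u1, u2, u3⟩ := hcore g hg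
    have hfix : ∀ m, m ∈ fixedSubmodule ⁅A, B⁆ ↔ m ∈ LinearMap.ker C := by
      intro m
      rw [fixedSubmodule, Submodule.mem_iInf, hAB]
      simp only [Submodule.mem_iInf]
      refine ⟨fun hm => ?_, fun hm x hx => ((memD x).mp hx).ker_le hm⟩
      have := hm χ ((memD χ).mpr (hχv ▸ inCls_self (h.isMin_comm h2).good))
      rwa [hχv] at this
    have hcom : commutatorSubmodule ⁅A, B⁆ = LinearMap.range C := by
      rw [commutatorSubmodule, hAB]
      refine le_antisymm (iSup₂_le fun x hx => ((memD x).mp hx).range_le) ?_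
      refine le_trans ?_ (le_biSup (fun x : LinearMap.GeneralLinearGroup k M =>
        LinearMap.range ((x : E) - 1)) ((memD χ).mpr (hχv ▸ inCls_self (h.isMin_comm h2).good)))
      rw [hχv]
    refine ⟨hgG, ?_, fun m => (hfix _).mpr ?_, fun m hm => ?_, fun m hm => ?_⟩
    · rw [Subgroup.mem_normalizer_iff, hAB]
      intro x
      constructor
      · intro hx; rw [hcent g hg x hx, mul_inv_cancel_right]; exact hx
      · intro hx
        have := hcent g⁻¹ (inv_mem hg) _ hx
        have e : x = g * x * g⁻¹ := by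
          calc x = g⁻¹ * (g * x * g⁻¹) * g := by group
            _ = g * x * g⁻¹ := by rw [this]; group
        rwa [e]
    · exact LinearMap.congr_fun u1 m
    · rw [hcom]; exact u3 m ((hfix m).mp hm)
    · obtain ⟨y, rfl⟩ := hcom ▸ hm
      have h0 := LinearMap.congr_fun u2 y
      rw [Module.End.mul_apply, LinearMap.sub_apply, Module.End.one_apply, LinearMap.zero_apply,
        sub_eq_zero] at h0
      exact h0

end Cfsg.Agent.Lib.QuadPair
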