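import Cfsg.Agent.Lib.QuadPair.Orth

/-! For infinite `k` the group generated by `x(k)` and `y(k u)` contains all `x(a)`, `a ∈ k[u]`. -/

namespace Cfsg.Agent.Lib.QuadPair

open Polynomial
open scoped MatrixGroups

variable {k : Type*} [Field k]

section Moments

variable {g : k[X]} (hg : g.Monic)

/-- The power basis of `k[X]/(g)`. -/
noncomputable abbrev pbasis := (AdjoinRoot.powerBasis' hg)

/-- Coordinates in the power basis. -/
noncomputable def coord (q : k[X]) : Fin (pbasis hg).dim → k :=
  ⇑((pbasis hg).basis.repr (AdjoinRoot.mk g q))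

theorem dim_eq : (pbasis hg).dim = g.natDegree := AdjoinRoot.powerBasis'_dim hg

theorem mk_X_pow (i : Fin (pbasis hg).dim) :
    AdjoinRoot.mk g (X ^ (i : ℕ)) = (pbasis hg).basis i := by
  rw [PowerBasis.basis_eq_pow, AdjoinRoot.powerBasis'_gen, map_pow, AdjoinRoot.mk_X]

theorem coord_add (p q : k[X]) : coord hg (p + q) = coord hg p + coord hg q := by
  simp [coord, Finsupp.coe_add]

theorem coord_smul (c : k) (p : k[X]) : coord hg (c • p) = c • coord hg p := by
  rw [coord, coord, ← AdjoinRoot.smul_mk, map_smul, Finsupp.coe_smul]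

theorem coord_X_pow (i : Fin (pbasis hg).dim) :
    coord hg (X ^ (i : ℕ)) = fun e => if i = e then 1 else 0 := by
  funext e
  rw [coord, mk_X_pow, Module.Basis.repr_self, Finsupp.single_apply]

theorem coord_mul_g (q : k[X]) : coord hg (g * q) = 0 := by
  rw [coord, map_mul, AdjoinRoot.mk_self, zero_mul, map_zero]; rfl

/-- The functional with moments `h`. -/
noncomputable def momentL (h : Fin (pbasis hg).dim → k) : k[X] →ₗ[k] k where
  toFun q := ∑ i, h i * coord hg q i
  map_add' p q := by simp [coord_add, mul_add, Finset.sum_add_distrib]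
  map_smul' c p := by
    simp [coord_smul, Finset.mul_sum, mul_left_comm]

theorem momentL_mul_g (h : Fin (pbasis hg).dim → k) (q : k[X]) : momentL hg h (g * q) = 0 := by
  show ∑ i, h i * coord hg (g * q) i = 0
  simp [coord_mul_g]

/-- The hankel determinants of generic moments do not vanish. -/
theorem exists_moments [Infinite k] {n : ℕ} (hn : g.natDegree = n + 1) :
    ∃ h : Fin (pbasis hg).dim → k, ∀ p : ℕ × ℕ, p.1 + p.2 ≤ n + 1 → p.1 ≤ 1 →
      (hankel (momentL hg h) p.1 p.2).det ≠ 0 := by
  classical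
  let Mp : ℕ × ℕ → MvPolynomial (Fin (pbasis hg).dim) k := fun p =>
    (Matrix.of fun (i l : Fin p.2) => ∑ e, MvPolynomial.X e *
      MvPolynomial.C (coord hg (X ^ ((i : ℕ) + (l : ℕ) + p.1)) e)).det
  have heval : ∀ h p, MvPolynomial.eval h (Mp p) = (hankel (momentL hg h) p.1 p.2).det := by
    intro h p
    rw [RingHom.map_det]
    congr 1
    ext i l
    simp [hankel, momentL]
  let idx : Finset (ℕ × ℕ) := (Finset.range 2 ×ˢ Finset.range (n + 2)).filter
    fun p => p.1 + p.2 ≤ n + 1
  have hne : ∀ p ∈ idx, Mp p ≠ 0 := by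
    rintro ⟨s, j⟩ hp h0
    simp only [idx, Finset.mem_filter, Finset.mem_product, Finset.mem_range] at hp
    rcases Nat.eq_zero_or_pos j with rfl | hj
    · exact one_ne_zero (show (1 : MvPolynomial (Fin (pbasis hg).dim) k) = 0 by
        rw [← h0]; exact (Matrix.det_isEmpty).symm)
    have hed : j - 1 + s < (pbasis hg).dim := by rw [dim_eq, hn]; omega
    set h : Fin (pbasis hg).dim → k := fun e => if (e : ℕ) = j - 1 + s then 1 else 0 with hh
    have hdet := heval h (s, j)
    rw [h0, map_zero] at hdet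
    obtain ⟨v, hv, hv0⟩ := Matrix.exists_mulVec_eq_zero_iff.mpr hdet.symm
    apply hv
    have hL : ∀ m, m ≤ j - 1 + s →
        momentL hg h (X ^ m) = if m = j - 1 + s then 1 else 0 := by
      intro m hm
      show ∑ i, h i * coord hg (X ^ m) i = _
      rw [coord_X_pow hg (⟨m, by omega⟩ : Fin (pbasis hg).dim),
        Finset.sum_eq_single (⟨m, by omega⟩ : Fin (pbasis hg).dim)]
      · simp [hh]
      · intro b _ hb
        simp [Ne.symm hb]
      · simp
    funext l
    by_contra hl
    obtain ⟨l, hlne, hlmax⟩ := (Finset.univ.filter fun l : Fin j => v l ≠ 0).exists_max_image id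
      ⟨l, by simpa using hl⟩
    simp only [Finset.mem_filter, Finset.mem_univ, true_and, id] at hlne hlmax
    have := congrFun hv0 (⟨j - 1 - (l : ℕ), by omega⟩ : Fin j)
    rw [Matrix.mulVec, dotProduct, Pi.zero_apply] at this
    apply hlne
    rw [← this, Finset.sum_eq_single l]
    · show v l = momentL hg h (X ^ (j - 1 - (l : ℕ) + (l : ℕ) + s)) * v l
      rw [hL _ (by omega), if_pos (by omega), one_mul]
    · intro l' _ hne'
      by_cases hz : v l' = 0
      · rw [hz, mul_zero]
      have hlt : (l' : ℕ) < (l : ℕ) :=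
        lt_of_le_of_ne (hlmax l' hz) fun e => hne' (Fin.ext e)
      show momentL hg h (X ^ (j - 1 - (l : ℕ) + (l' : ℕ) + s)) * v l' = 0
      rw [hL _ (by omega), if_neg (by omega), zero_mul]
    · simp
  have hprod : (∏ p ∈ idx, Mp p) ≠ 0 := Finset.prod_ne_zero_iff.mpr hne
  obtain ⟨h, hh⟩ : ∃ h, MvPolynomial.eval h (∏ p ∈ idx, Mp p) ≠ 0 := by
    by_contra hall
    push Not at hall
    exact hprod (MvPolynomial.funext fun h => by rw [hall h, map_zero])
  refine ⟨h, fun p hp h1 => ?_⟩
  rw [map_prod, Finset.prod_ne_zero_iff] at hh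
  rw [← heval]
  exact hh p (by simp [idx, Finset.mem_filter, Finset.mem_product]; omega)

variable {n : ℕ} (hn : g.natDegree = n + 1)

/-- The index of the top coordinate. -/
noncomputable def top : Fin (pbasis hg).dim := ⟨n, by rw [dim_eq, hn]; exact Nat.lt_succ_self n⟩

/-- The functional making the class of a polynomial orthogonal to the lower degrees. -/
noncomputable def dualL (a : AdjoinRoot g) : k[X] →ₗ[k] k :=
  momentL hg fun i => (Algebra.leftMulMatrix (pbasis hg).basis a).adjugate (top hg hn) i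

theorem dualL_spec (P q : k[X]) :
    dualL hg hn (AdjoinRoot.mk g P) (P * q) =
      (Algebra.leftMulMatrix (pbasis hg).basis (AdjoinRoot.mk g P)).det *
        coord hg q (top hg hn) := by
  show ((Algebra.leftMulMatrix (pbasis hg).basis (AdjoinRoot.mk g P)).adjugate.mulVec
    (coord hg (P * q))) (top hg hn) = _
  rw [coord, map_mul, ← Algebra.leftMulMatrix_mulVec_repr, Matrix.mulVec_mulVec,
    Matrix.adjugate_mul, Matrix.smul_mulVec, Matrix.one_mulVec]
  rfl

theorem dualL_mul_g (a : AdjoinRoot g) (q : k[X]) : dualL hg hn a (g * q) = 0 :=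
  momentL_mul_g hg _ q

theorem coord_top_X_pow {i : ℕ} (hi : i ≤ n) :
    coord hg (X ^ i) (top hg hn) = if i = n then 1 else 0 := by
  rw [coord_X_pow hg (⟨i, by rw [dim_eq, hn]; omega⟩ : Fin (pbasis hg).dim)]
  simp [top, Fin.ext_iff]

end Moments

section Torus

variable [Infinite k] {A : Type*} [CommRing A] [Algebra k A] {u : A}

/-- Upper translations contain `c • v²` for many `v`. -/
theorem exists_generic {f : k[X]} {n : ℕ} (hf : f.Monic) (hfd : f.natDegree = n)
    (hu : u * aeval u f = 0) : ∃ P : k[X], P.Monic ∧ P.natDegree = n ∧ IsUnit (aeval u P) ∧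
      ∀ i < n, ∃ S : Finset k, ∀ t ∉ S, ∀ c : k,
        c • (aeval u P + t • u ^ i) ^ 2 ∈ lam k u := by
  classical
  have hg : (X * f).Monic := monic_X.mul hf
  have hn : (X * f).natDegree = n + 1 := by
    rw [monic_X.natDegree_mul hf, natDegree_X, hfd, add_comm]
  obtain ⟨h, hh⟩ := exists_moments hg hn
  set ℓ := momentL hg h with hℓ
  obtain ⟨P, hP⟩ : ∃ P, Orth ℓ 0 n P := exists_orth (hh (0, n) (by omega) (by omega))
  set N := ℓ (X ^ (n + 0) * P) with hN
  have hN0 : N ≠ 0 := hP.norm_ne_zero (hh (0, n + 1) (by omega) (by omega))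
  -- `ℓ (P q) = N * top q`
  have hkey : ∀ q, ℓ (P * q) = N * coord hg q (top hg hn) := by
    intro q
    have hlow : ∀ i ≤ n, ℓ (P * X ^ i) = N * coord hg (X ^ i) (top hg hn) := by
      intro i hi
      rw [coord_top_X_pow hg hn hi]
      rcases eq_or_lt_of_le hi with rfl | hlt
      · rw [if_pos rfl, mul_one, hN, add_zero, mul_comm]
      · rw [if_neg (by omega), mul_zero, mul_comm, ← hP.orth i hlt, add_zero]
    have hr : ∀ r : k[X], r.degree < ((n + 1 : ℕ) : WithBot ℕ) →
        ℓ (P * r) = N * coord hg r (top hg hn) := by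
      intro r hr
      rw [eq_sum_of_degree_lt hr, Finset.mul_sum, map_sum]
      have hc : ∀ (s : Finset (Fin (n + 1))) (F : Fin (n + 1) → k[X]),
          coord hg (∑ l ∈ s, F l) (top hg hn) = ∑ l ∈ s, coord hg (F l) (top hg hn) := by
        intro s F
        simp [coord, map_sum, Finsupp.finsetSum_apply]
      rw [hc, Finset.mul_sum]
      refine Finset.sum_congr rfl fun l _ => ?_
      rw [← smul_eq_C_mul, mul_smul_comm, map_smul, coord_smul, hlow l (by omega)]
      simp only [Pi.smul_apply, smul_eq_mul]; ring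
    have hdiv := modByMonic_add_div q (X * f)
    calc ℓ (P * q) = ℓ (P * (q %ₘ (X * f))) + ℓ ((X * f) * (P * (q /ₘ (X * f)))) := by
          rw [← map_add]; congr 1; nth_rewrite 1 [← hdiv]; ring
      _ = N * coord hg (q %ₘ (X * f)) (top hg hn) := by
          rw [momentL_mul_g, add_zero]
          exact hr _ (lt_of_lt_of_eq (degree_modByMonic_lt _ hg)
            (by rw [degree_eq_natDegree hg.ne_zero, hn]))
      _ = _ := by
          congr 1
          nth_rewrite 2 [← hdiv]
          rw [coord_add, coord_mul_g, add_zero]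
  set a₀ := AdjoinRoot.mk (X * f) P with ha₀
  set bb := (pbasis hg).basis
  -- multiplication by `a₀` is injective
  have hdet0 : (Algebra.leftMulMatrix bb a₀).det ≠ 0 := by
    intro h0
    obtain ⟨v, hv, hv0⟩ := Matrix.exists_mulVec_eq_zero_iff.mpr h0
    set Q : k[X] := ∑ i, C (v i) * X ^ (i : ℕ) with hQ
    have hrep : coord hg Q = v := by
      funext e
      rw [coord, hQ, map_sum]
      have hterm : ∀ x : Fin (pbasis hg).dim,
          AdjoinRoot.mk (X * f) (C (v x) * X ^ (x : ℕ)) = v x • bb x := fun x => by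
        rw [← smul_eq_C_mul, ← AdjoinRoot.smul_mk, mk_X_pow hg]
      simp only [hterm]
      rw [Module.Basis.repr_sum_self]
    have hPQ : AdjoinRoot.mk (X * f) (P * Q) = 0 := by
      apply bb.repr.injective
      rw [map_zero]
      refine DFunLike.coe_injective ?_
      rw [map_mul, ← Algebra.leftMulMatrix_mulVec_repr]
      show (Algebra.leftMulMatrix bb a₀).mulVec (coord hg Q) = _
      rw [hrep, hv0]; rfl
    obtain ⟨l, hl⟩ := Function.ne_iff.mp hv
    obtain ⟨m, hmne, hmmax⟩ := (Finset.univ.filter fun l => v l ≠ 0).exists_max_image id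
      ⟨l, by simpa using hl⟩
    simp only [Finset.mem_filter, Finset.mem_univ, true_and, id] at hmne hmmax
    have hm : (m : ℕ) ≤ n := by have := m.2; have := dim_eq hg; omega
    have h1 := hkey (Q * X ^ (n - (m : ℕ)))
    rw [← mul_assoc] at h1
    have h2 : ℓ (P * Q * X ^ (n - (m : ℕ))) = 0 := by
      show ∑ i, h i * coord hg (P * Q * X ^ (n - (m : ℕ))) i = 0
      rw [coord, map_mul, hPQ, zero_mul, map_zero]
      simp
    rw [h2] at h1
    have h3 : coord hg (Q * X ^ (n - (m : ℕ))) (top hg hn) = v m := by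
      rw [hQ, Finset.sum_mul]
      have hc : ∀ (F : Fin (pbasis hg).dim → k[X]),
          coord hg (∑ l, F l) (top hg hn) = ∑ l, coord hg (F l) (top hg hn) := by
        intro F; simp [coord, map_sum, Finsupp.finsetSum_apply]
      rw [hc, Finset.sum_eq_single m]
      · rw [mul_assoc, ← pow_add, ← smul_eq_C_mul, coord_smul, Pi.smul_apply,
          coord_top_X_pow hg hn (by omega), if_pos (by omega), smul_eq_mul, mul_one]
      · intro l _ hne
        by_cases hz : v l = 0
        · rw [hz, C_0, zero_mul, zero_mul, ← zero_smul k (1 : k[X]), coord_smul]; simp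
        have hlt : (l : ℕ) < (m : ℕ) := lt_of_le_of_ne (hmmax l hz) fun e => hne (Fin.ext e)
        rw [mul_assoc, ← pow_add, ← smul_eq_C_mul, coord_smul, Pi.smul_apply,
          coord_top_X_pow hg hn (by omega), if_neg (by omega), smul_zero]
      · simp
    rw [h3] at h1
    exact hmne ((mul_eq_zero.mp h1.symm).resolve_left hN0)
  -- the dual functional of `a₀` is a multiple of `ℓ`
  have hL0 : ∀ q, dualL hg hn a₀ q = ((Algebra.leftMulMatrix bb a₀).det / N) * ℓ q := by
    intro q
    obtain ⟨r, hr⟩ : ∃ r, AdjoinRoot.mk (X * f) (P * r) = AdjoinRoot.mk (X * f) q := by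
      obtain ⟨v, hv⟩ : ∃ v, (Algebra.leftMulMatrix bb a₀).mulVec v = coord hg q :=
        ⟨(Algebra.leftMulMatrix bb a₀)⁻¹.mulVec (coord hg q), by
          rw [Matrix.mulVec_mulVec, Matrix.mul_nonsing_inv _ (Ne.isUnit hdet0),
            Matrix.one_mulVec]⟩
      obtain ⟨r, hr⟩ := AdjoinRoot.mk_surjective (bb.equivFun.symm v)
      refine ⟨r, bb.repr.injective (DFunLike.coe_injective ?_)⟩
      rw [map_mul, ← Algebra.leftMulMatrix_mulVec_repr, hr]
      have : ⇑(bb.repr (bb.equivFun.symm v)) = v := by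
        rw [← Module.Basis.equivFun_apply, LinearEquiv.apply_symm_apply]
      rw [this, hv]; rfl
    have e : ∀ (w : Fin (pbasis hg).dim → k), momentL hg w q = momentL hg w (P * r) := by
      intro w
      show ∑ i, w i * coord hg q i = ∑ i, w i * coord hg (P * r) i
      rw [coord, coord, hr]
    rw [show dualL hg hn a₀ q = dualL hg hn a₀ (P * r) from e _, hℓ, e h, ← hℓ, hkey,
      dualL_spec, div_mul_eq_mul_div, mul_div_assoc, mul_div_cancel_left₀ _ hN0]
  refine ⟨P, hP.monic, hP.natDegree, ?_, fun i hi => ?_⟩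
  · -- the value at `t = 0` is a unit
    obtain ⟨gg, -, h10, π, hπ, h00⟩ := exists_torus (u := u) (L := ℓ)
      (fun j hj => hh (0, j) (by omega) (by omega)) (fun j hj => hh (1, j) (by omega) (by omega))
      hf hfd (fun q => momentL_mul_g hg h q) hu hP
    have hd := det2 gg
    rw [h10, mul_zero, sub_zero, h00, Algebra.smul_def, mul_comm (algebraMap k A π), mul_assoc]
      at hd
    exact IsUnit.of_mul_eq_one _ hd
  set w := AdjoinRoot.mk (X * f) (X ^ i)
  set Mt : Matrix _ _ k[X] := (Algebra.leftMulMatrix bb a₀).map C +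
    (X : k[X]) • (Algebra.leftMulMatrix bb w).map C with hMt
  let H : ℕ × ℕ → k[X] := fun p => (Matrix.of fun (i l : Fin p.2) =>
    ∑ e, Mt.adjugate (top hg hn) e * C (coord hg (X ^ ((i : ℕ) + (l : ℕ) + p.1)) e)).det
  have hev : ∀ t : k, (evalRingHom t).mapMatrix Mt = Algebra.leftMulMatrix bb (a₀ + t • w) := by
    intro t
    ext a b
    simp [hMt, map_add, map_smul]
    ring
  have hevd : ∀ t, (Mt.det).eval t = (Algebra.leftMulMatrix bb (a₀ + t • w)).det := fun t => by
    rw [← hev t, ← RingHom.map_det]; rfl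
  have hevH : ∀ t p, (H p).eval t = (hankel (dualL hg hn (a₀ + t • w)) p.1 p.2).det := by
    intro t p
    rw [show (H p).eval t = evalRingHom t (H p) from rfl, RingHom.map_det]
    congr 1
    ext i l
    simp only [hankel, dualL, momentL, RingHom.mapMatrix_apply, Matrix.map_apply, Matrix.of_apply,
      LinearMap.coe_mk, AddHom.coe_mk, map_sum, map_mul, coe_evalRingHom, eval_C, eval_finsetSum,
      eval_mul]
    refine Finset.sum_congr rfl fun e _ => ?_
    congr 1
    have := congrArg (fun M : Matrix _ _ k => M (top hg hn) e)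
      (RingHom.map_adjugate (evalRingHom t) Mt)
    rw [hev] at this
    simpa using this
  let idx : Finset (ℕ × ℕ) := (Finset.range 2 ×ˢ Finset.range (n + 2)).filter
    fun p => p.1 + p.2 ≤ n + 1
  set Good : k[X] := Mt.det * ∏ p ∈ idx, H p with hGood
  have hG0 : Good.eval 0 ≠ 0 := by
    rw [hGood, eval_mul, eval_prod, hevd, zero_smul, add_zero]
    refine mul_ne_zero hdet0 (Finset.prod_ne_zero_iff.mpr fun p hp => ?_)
    simp only [idx, Finset.mem_filter, Finset.mem_product, Finset.mem_range] at hp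
    rw [hevH, zero_smul, add_zero]
    have : hankel (dualL hg hn a₀) p.1 p.2 =
        ((Algebra.leftMulMatrix bb a₀).det / N) • hankel ℓ p.1 p.2 := by
      ext a b
      simp [hankel, hL0]
    rw [this, Matrix.det_smul]
    exact mul_ne_zero (pow_ne_zero _ (div_ne_zero hdet0 hN0)) (hh p (by omega) (by omega))
  have hGne : Good ≠ 0 := fun e => hG0 (by rw [e, eval_zero])
  refine ⟨Good.roots.toFinset, fun t ht c => ?_⟩
  have htne : Good.eval t ≠ 0 := fun e => ht (by
    rw [Multiset.mem_toFinset, mem_roots hGne]; exact e)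
  rw [hGood, eval_mul, eval_prod, mul_ne_zero_iff, Finset.prod_ne_zero_iff] at htne
  have hmin : ∀ p : ℕ × ℕ, p.1 + p.2 ≤ n + 1 → p.1 ≤ 1 →
      (hankel (dualL hg hn (a₀ + t • w)) p.1 p.2).det ≠ 0 := fun p hp h1 => by
    rw [← hevH]
    exact htne.2 p (by simp [idx, Finset.mem_filter, Finset.mem_product]; omega)
  set Pt := P + t • X ^ i with hPt
  have hdegi : (t • (X : k[X]) ^ i).degree < P.degree := by
    rw [degree_eq_natDegree hP.monic.ne_zero, hP.natDegree, smul_eq_C_mul]
    exact lt_of_le_of_lt (degree_C_mul_X_pow_le i t) (by exact_mod_cast hi)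
  have hPtO : Orth (dualL hg hn (a₀ + t • w)) 0 n Pt := by
    refine ⟨hP.monic.add_of_left hdegi, ?_, fun l hl => ?_⟩
    · rw [← hP.natDegree]
      exact natDegree_eq_of_degree_eq (degree_add_eq_left_of_degree_lt hdegi)
    · have : AdjoinRoot.mk (X * f) Pt = a₀ + t • w := by
        rw [hPt, map_add, ← AdjoinRoot.smul_mk]
      rw [add_zero, ← this, mul_comm (X ^ l) Pt, dualL_spec, coord_top_X_pow hg hn (le_of_lt hl),
        if_neg (by omega), mul_zero]
  obtain ⟨gg, hgg, h10, π, hπ, h00⟩ := exists_torus (u := u)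
    (fun j hj => hmin (0, j) (by omega) (by omega)) (fun j hj => hmin (1, j) (by omega) (by omega))
    hf hfd (fun q => dualL_mul_g hg hn _ q) hu hPtO
  have hm := sq_mul_mem_lam hgg h10 (c / π ^ 2)
  rw [h00, _root_.smul_pow, ← Algebra.smul_def, smul_smul, div_mul_cancel₀ _ (pow_ne_zero 2 hπ)] at hm
  simpa [hPt] using hm

/-- For infinite `k`, every element of `k[u]` gives an upper translation of `gamma k u`. -/
theorem up_mem_of_infinite (h2 : (2 : k) ≠ 0) (hint : IsIntegral k u)
    (hgen : ∀ a : A, ∃ q : k[X], a = aeval u q) (a : A) : up a ∈ gamma k u := by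
  classical
  set f := minpoly k u with hf_def
  have hf : f.Monic := minpoly.monic hint
  obtain ⟨P, hPm, hPd, hPu, hS⟩ := exists_generic (u := u) hf rfl
    (by rw [minpoly.aeval, mul_zero])
  set x := aeval u P with hx
  let W : Submodule k A :=
    { carrier := {a | ∀ c : k, c • a ∈ lam k u}
      zero_mem' := fun c => by simp only [smul_zero]; exact zero_mem _
      add_mem' := fun {a b} ha hb c => by simp only [smul_add]; exact add_mem (ha c) (hb c)
      smul_mem' := fun d a ha c => by simp only [smul_smul]; exact ha _ }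
  have hxy : ∀ i < f.natDegree, x * x ∈ W ∧ x * u ^ i ∈ W := by
    intro i hi
    obtain ⟨S, hS⟩ := hS i hi
    obtain ⟨t₁, h1⟩ := S.exists_notMem
    obtain ⟨t₂, h2'⟩ := (insert t₁ S).exists_notMem
    obtain ⟨t₃, h3⟩ := (insert t₂ (insert t₁ S)).exists_notMem
    simp only [Finset.mem_insert, not_or] at h2' h3
    have E : ∀ t ∉ S, x * x + (2 * t) • (x * u ^ i) + (t * t) • (u ^ i * u ^ i) ∈ W := by
      intro t ht c
      convert hS t ht c using 2
      rw [sq]
      simp only [mul_add, add_mul, smul_mul_assoc, mul_smul_comm, smul_smul]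
      rw [mul_comm (u ^ i) x]
      module
    have e1 := E t₁ h1
    have e2 := E t₂ h2'.2
    have e3 := E t₃ h3.2.2
    set X0 := x * x
    set X1 := x * u ^ i
    set X2 := u ^ i * u ^ i
    have d12 : t₁ - t₂ ≠ 0 := sub_ne_zero.mpr (Ne.symm h2'.1)
    have d13 : t₁ - t₃ ≠ 0 := sub_ne_zero.mpr (Ne.symm h3.2.1)
    have d23 : t₂ - t₃ ≠ 0 := sub_ne_zero.mpr (Ne.symm h3.1)
    have f12 : (2 : k) • X1 + (t₁ + t₂) • X2 ∈ W := by
      have := W.smul_mem (t₁ - t₂)⁻¹ (W.sub_mem e1 e2)
      convert this using 1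
      match_scalars <;> field_simp <;> ring
    have f13 : (2 : k) • X1 + (t₁ + t₃) • X2 ∈ W := by
      have := W.smul_mem (t₁ - t₃)⁻¹ (W.sub_mem e1 e3)
      convert this using 1
      match_scalars <;> field_simp <;> ring
    have g2 : X2 ∈ W := by
      have := W.smul_mem (t₂ - t₃)⁻¹ (W.sub_mem f12 f13)
      convert this using 1
      match_scalars <;> field_simp <;> ring
    have g1 : X1 ∈ W := by
      have := W.smul_mem (2 : k)⁻¹ (W.sub_mem f12 (W.smul_mem (t₁ + t₂) g2))
      convert this using 1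
      match_scalars <;> field_simp <;> ring
    refine ⟨?_, g1⟩
    have := W.sub_mem e1 (W.add_mem (W.smul_mem (2 * t₁) g1) (W.smul_mem (t₁ * t₁) g2))
    convert this using 1
    match_scalars <;> ring
  obtain ⟨b, hb⟩ := hPu.exists_right_inv
  obtain ⟨q, hq⟩ := hgen (b * a)
  have hred : b * a = aeval u (q %ₘ f) := by
    rw [hq]
    conv_lhs => rw [← modByMonic_add_div q f]
    rw [map_add, map_mul, minpoly.aeval, zero_mul, add_zero]
  have hlt : (q %ₘ f).degree < (f.natDegree : WithBot ℕ) :=
    lt_of_lt_of_eq (degree_modByMonic_lt _ hf) (degree_eq_natDegree hf.ne_zero)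
  have ha : a ∈ W := by
    rw [show a = x * (b * a) by rw [← mul_assoc, hb, one_mul], hred, eq_sum_of_degree_lt hlt,
      map_sum, Finset.mul_sum]
    refine W.sum_mem fun l _ => ?_
    rw [← smul_eq_C_mul, map_smul, map_pow, aeval_X, mul_smul_comm]
    exact W.smul_mem _ (hxy l l.2).2
  exact one_smul k a ▸ ha 1

end Torus

end Cfsg.Agent.Lib.QuadPair
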