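import Cfsg.Agent.Lib.QuadPair.FiniteField
import Cfsg.Agent.Lib.QuadPair.Infinite

/-! The translations of `gamma k u` for an arbitrary field `k` and a finite algebra `A = k[u]`. -/

namespace Cfsg.Agent.Lib.QuadPair

open Matrix Polynomial
open scoped MatrixGroups

variable {k : Type*} [Field k]

section General

variable {A : Type*} [CommRing A] [Algebra k A] {u : A}

theorem red_gamma {B : Type*} [CommRing B] [Algebra k B] (ρ : A →ₐ[k] B) (u : A) :
    (gamma k u).map (red ρ.toRingHom) = gamma k (ρ u) := by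
  rw [gamma, MonoidHom.map_closure, Set.image_union, ← Set.range_comp, ← Set.range_comp]
  simp [gamma, Function.comp_def]

theorem low_mem_of_up (hu : IsUnit u) (h : ∀ a : A, up a ∈ gamma k u) (a : A) :
    low a ∈ gamma k u := by
  obtain ⟨v, hv⟩ := hu.exists_right_inv
  have hl : low (-u) ∈ gamma k u := by
    rw [← low_inv]; exact inv_mem (by simpa using low_mem (k := k) u 1)
  set g := up v * low (-u) * up v with hg
  have hgm : g ∈ gamma k u := mul_mem (mul_mem (h v) hl) (h v)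
  have he : g * up (-a * v * v) * g⁻¹ = low a := by
    rw [mul_inv_eq_iff_eq_mul, hg]
    apply ext2 <;> simp [Matrix.mul_apply, Fin.sum_univ_two]
    all_goals grind
  exact he ▸ mul_mem (mul_mem hgm (h _)) (inv_mem hgm)

/-- Over a field the elementary matrices generate. -/
theorem mem_of_elementary {K : Type*} [Field K] {H : Subgroup SL(2, K)}
    (hu : ∀ a : K, up a ∈ H) (hl : ∀ a : K, low a ∈ H) (g : SL(2, K)) : g ∈ H := by
  have key : ∀ g : SL(2, K), g 1 0 ≠ 0 → g ∈ H := by
    intro g hg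
    have hd := det2 g
    have he : g = up ((g 0 0 - 1) / g 1 0) * low (g 1 0) * up ((g 1 1 - 1) / g 1 0) := by
      apply ext2 <;> simp [Matrix.mul_apply, Fin.sum_univ_two] <;> field_simp <;> grind
    rw [he]
    exact mul_mem (mul_mem (hu _) (hl _)) (hu _)
  by_cases h : g 1 0 = 0
  · have hd := det2 g
    rw [h, mul_zero, sub_zero] at hd
    have h00 : g 0 0 ≠ 0 := left_ne_zero_of_mul_eq_one hd
    have := key (low 1 * g) (by rw [low_mul_apply_one, h, add_zero, one_mul]; exact h00)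
    simpa using mul_mem (inv_mem (hl 1)) this
  · exact key g h

end General

section Fin'

variable [Finite k] {p : ℕ} [Fact p.Prime] [CharP k p]
  {A : Type*} [CommRing A] [Algebra k A] [Finite A] {u : A}

theorem deep_finite (hp : p ≠ 2) (hk : 5 ≤ Nat.card k) (hu : ¬ IsNilpotent u) (N : ℕ) :
    ∃ f : A, f ∈ lam k u ∧ f ≠ 0 ∧ u ^ N ∣ f := by
  have hpr : p.Prime := Fact.out
  let E := Ideal.span ({u ^ N} : Set A)
  let ψ := red (Ideal.Quotient.mk E)
  set M := gamma k u ⊓ ψ.ker with hM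
  have hn : ∀ g ∈ gamma k u, ∀ m ∈ M, g * m * g⁻¹ ∈ M := fun g hg m hm => by
    obtain ⟨h1, h2⟩ := Subgroup.mem_inf.mp hm
    refine Subgroup.mem_inf.mpr ⟨mul_mem (mul_mem hg h1) (inv_mem hg), ?_⟩
    rw [MonoidHom.mem_ker] at h2 ⊢
    rw [map_mul, map_mul, h2, mul_one, map_inv, mul_inv_cancel]
  by_cases hdvd : p ∣ Nat.card M
  · obtain ⟨f, hf0, hf⟩ := exists_translation (k := k) hp inf_le_left hn hdvd
    refine ⟨f, (Subgroup.mem_inf.mp hf).1, hf0, ?_⟩
    have := congrArg (fun g : SL(2, A ⧸ E) => g 0 1) (MonoidHom.mem_ker.mp (Subgroup.mem_inf.mp hf).2)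
    simp [ψ] at this
    exact Ideal.mem_span_singleton.mp (Ideal.Quotient.eq_zero_iff_mem.mp this)
  exfalso
  apply hu
  rw [← mem_nilradical, nilradical_eq_sInf]
  refine Submodule.mem_sInf.mpr fun (P : Ideal A) hP => ?_
  have : P.IsPrime := hP
  have hPm : P.IsMaximal := IsArtinianRing.isMaximal_of_isPrime P
  let := Ideal.Quotient.field P
  let ρ := Ideal.Quotient.mkₐ k P
  have := charP_of_injective_algebraMap (algebraMap k (A ⧸ P)).injective p
  by_contra huP
  have hρu : ρ u ≠ 0 := fun h => huP (Ideal.Quotient.eq_zero_iff_mem.mp h)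
  refine hρu (slope_eq_zero hk (t := (2 : A ⧸ P)) fun c _ => ?_)
  set g := up (algebraMap k A 1) * low (algebraMap k A c * u) with hg
  have hgm : g ∈ gamma k u := mul_mem (up_mem u 1) (low_mem u c)
  obtain ⟨a, b, d⟩ := congr_mem_ideal (Ideal.mem_span_singleton_self u) (pow_mem hgm p)
  have hc : g ^ p ∈ gamma k u ∧ (g ^ p) 0 1 ∈ Ideal.span ({u} : Set A) := by
    refine ⟨pow_mem hgm p, ?_⟩
    let χ := red (Ideal.Quotient.mk (Ideal.span ({u} : Set A)))
    have hχ : χ g = up 1 := by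
      have hu0 : Ideal.Quotient.mk (Ideal.span ({u} : Set A)) u = 0 :=
        Ideal.Quotient.eq_zero_iff_mem.mpr (Ideal.mem_span_singleton_self u)
      simp [χ, hg, hu0]
    have := congrArg (fun w : SL(2, A ⧸ _) => w 0 1) (map_pow χ g p)
    rw [hχ, up_pow_char (natCast_char (k := k) p _)] at this
    exact Ideal.Quotient.eq_zero_iff_mem.mp (by simpa [χ, -map_pow, -Matrix.SpecialLinearGroup.coe_pow] using this)
  have hnil : ∀ x ∈ Ideal.span ({u} : Set A), IsNilpotent (Ideal.Quotient.mk E x) := by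
    intro x hx
    obtain ⟨y, rfl⟩ := Ideal.mem_span_singleton'.mp hx
    refine ⟨N, ?_⟩
    rw [← map_pow, mul_pow]
    exact Ideal.Quotient.eq_zero_iff_mem.mpr (Ideal.mul_mem_left _ _ (Ideal.mem_span_singleton_self _))
  obtain ⟨e, he⟩ := exists_pow_eq_one hpr (natCast_char (k := k) p (A ⧸ E)) (ψ (g ^ p))
    (by simpa [-Matrix.SpecialLinearGroup.coe_pow, -map_pow, ψ] using hnil _ b)
    (by simpa [-Matrix.SpecialLinearGroup.coe_pow, -map_pow, ψ] using hnil _ hc.2)
    (by simpa [-Matrix.SpecialLinearGroup.coe_pow, -map_pow, ψ] using hnil _ a)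
    (by simpa [-Matrix.SpecialLinearGroup.coe_pow, -map_pow, ψ] using hnil _ d)
  set z := g ^ p ^ (e + 1) with hz
  have hzM : z ∈ M := by
    refine Subgroup.mem_inf.mpr ⟨pow_mem hgm _, ?_⟩
    rw [MonoidHom.mem_ker, hz, pow_succ', pow_mul, map_pow, he]
  have c1 := congrArg (red ρ.toRingHom) (central hp hk inf_le_left hn hdvd (up_mem u 1) hzM)
  have c2 := congrArg (red ρ.toRingHom) (central hp hk inf_le_left hn hdvd (low_mem u 1) hzM)
  set zb := red ρ.toRingHom z with hzb
  simp only [map_mul, ← hzb, red_up, red_low, map_one, one_mul] at c1 c2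
  have e1 := congrArg (fun w : SL(2, A ⧸ P) => w 0 0) c1
  have e2 := congrArg (fun w : SL(2, A ⧸ P) => w 0 1) c1
  have e3 := congrArg (fun w : SL(2, A ⧸ P) => w 0 0) c2
  simp [Matrix.mul_apply, Fin.sum_univ_two] at e1 e2 e3
  have hd := det2 zb
  have h10 : zb 1 0 = 0 := by first | exact e1 | linear_combination e1
  have h01 : zb 0 1 = 0 := e3.resolve_right hρu
  have h11 : zb 1 1 = zb 0 0 := by linear_combination e2
  rw [h10, h01, h11, mul_zero, sub_zero] at hd
  have hz2 : (red ρ.toRingHom g ^ 2) ^ p ^ (e + 1) = 1 := by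
    rw [← pow_mul, mul_comm, pow_mul, ← map_pow, ← hz, ← hzb]
    apply ext2 <;> simp [sq, Matrix.mul_apply, Fin.sum_univ_two, h10, h01, h11, hd]
  have h := trace_sq_of_sq_pow hz2
  simp [hg, ρ, Matrix.mul_apply, Fin.sum_univ_two] at h
  simp only [ρ, Ideal.Quotient.mkₐ_eq_mk]
  linear_combination h

/-- Elements of `p`-power order commuting with a lower translation. -/
theorem eq_low_of_commute (hp : p ≠ 2) (hu : IsUnit u) {g : SL(2, A)} (hg : g ^ p = 1)
    (hc : g * low u = low u * g) : g = low (g 1 0) := by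
  have hpr : p.Prime := Fact.out
  have h00 := congrArg (fun w : SL(2, A) => w 0 0) hc
  have h10 := congrArg (fun w : SL(2, A) => w 1 0) hc
  simp [Matrix.mul_apply, Fin.sum_univ_two] at h00 h10
  obtain ⟨v, hv⟩ := hu.exists_right_inv
  have h01 : g 0 1 = 0 := by
    calc g 0 1 = g 0 1 * u * v := by rw [mul_assoc, hv, mul_one]
      _ = 0 := by rw [show g 0 1 * u = 0 by linear_combination h00, zero_mul]
  have heq : g 1 1 = g 0 0 := by linear_combination v * h10 + (g 0 0 - g 1 1) * hv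
  have hd := det2 g
  rw [h01, heq, zero_mul, sub_zero] at hd
  have hpow : ∀ n : ℕ, (g ^ n) 0 0 = g 0 0 ^ n ∧ (g ^ n) 0 1 = 0 := by
    intro n
    induction n with
    | zero => simp
    | succ n ih =>
      rw [pow_succ, pow_succ]
      simp [-Matrix.SpecialLinearGroup.coe_pow, Matrix.mul_apply, Fin.sum_univ_two, ih.1, ih.2, h01]
  have h1 : g 0 0 ^ p = 1 := by rw [← (hpow _).1, hg]; simp
  have hone : g 0 0 = 1 := by
    obtain ⟨i, hi⟩ := hpr.odd_of_ne_two hp
    rwa [hi, pow_succ, pow_mul, sq, hd, one_pow, one_mul] at h1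
  apply ext2 <;> simp [h01, hone, heq]

theorem all_finite (hp : p ≠ 2) (hk : 5 ≤ Nat.card k) (hu : IsUnit u)
    (hgen : ∀ a : A, ∃ q : k[X], a = aeval u q) (hunit : ∀ f ∈ lam k u, f ≠ 0 → IsUnit f)
    (a : A) : up a ∈ gamma k u := by
  classical
  have hpr : p.Prime := Fact.out
  rcases subsingleton_or_nontrivial A with hA | hA
  · rw [Subsingleton.elim a 0, up_zero]; exact one_mem _
  obtain ⟨J, hJ⟩ := Ideal.exists_maximal A
  let := Ideal.Quotient.field J
  let ρ := Ideal.Quotient.mkₐ k J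
  have : Finite (A ⧸ J) := Finite.of_surjective _ (Ideal.Quotient.mk_surjective (I := J))
  have := charP_of_injective_algebraMap (algebraMap k (A ⧸ J)).injective p
  have h2 : (2 : A ⧸ J) ≠ 0 := Dickson.two_ne_zero_char hp
  have hρu : ρ u ≠ 0 := (hu.map ρ).ne_zero
  set φ := red ρ.toRingHom with hφ
  set M := gamma k u ⊓ φ.ker with hM
  have hn : ∀ g ∈ gamma k u, ∀ m ∈ M, g * m * g⁻¹ ∈ M := fun g hg m hm => by
    obtain ⟨h1, h2⟩ := Subgroup.mem_inf.mp hm
    refine Subgroup.mem_inf.mpr ⟨mul_mem (mul_mem hg h1) (inv_mem hg), ?_⟩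
    rw [MonoidHom.mem_ker] at h2 ⊢
    rw [map_mul, map_mul, h2, mul_one, map_inv, mul_inv_cancel]
  have hp' : ¬ p ∣ Nat.card M := fun hdvd => by
    obtain ⟨f, hf0, hf⟩ := exists_translation (k := k) hp inf_le_left hn hdvd
    have := congrArg (fun g : SL(2, A ⧸ J) => g 0 1) (MonoidHom.mem_ker.mp (Subgroup.mem_inf.mp hf).2)
    simp [hφ] at this
    exact ((hunit f (Subgroup.mem_inf.mp hf).1 hf0).map ρ).ne_zero this
  -- lifts of `p`-elements are unique
  have uniq : ∀ x ∈ gamma k u, ∀ y ∈ gamma k u, x ^ p = 1 → y ^ p = 1 → φ x = φ y → x = y := by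
    intro x hx y hy hxp hyp he
    have hz : x⁻¹ * y ∈ M := Subgroup.mem_inf.mpr ⟨mul_mem (inv_mem hx) hy, by
      rw [MonoidHom.mem_ker, map_mul, map_inv, he, inv_mul_cancel]⟩
    have hc : Commute x (x⁻¹ * y) := central hp hk inf_le_left hn hp' hx hz
    have hy' := hc.mul_pow p
    rw [mul_inv_cancel_left, hxp, hyp, one_mul] at hy'
    exact inv_mul_eq_one.mp
      (eq_one_of_pow_coprime ((hpr.coprime_iff_not_dvd).mpr hp') hy'.symm (pow_card_mem hz))
  have hKall : ∀ g : SL(2, A ⧸ J), ∃ h ∈ gamma k u, φ h = g := by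
    have hgen' : ∀ b : A ⧸ J, ∃ q : k[X], b = aeval (ρ u) q := fun b => by
      obtain ⟨b, rfl⟩ := Ideal.Quotient.mk_surjective b
      obtain ⟨q, rfl⟩ := hgen b
      exact ⟨q, by rw [aeval_algHom_apply]; rfl⟩
    intro g
    have hg := mem_of_elementary (fun b => (mem_of_field hp hk hρu hgen' b).1)
      (fun b => (mem_of_field hp hk hρu hgen' b).2) g
    rw [← red_gamma ρ u, Subgroup.mem_map] at hg
    exact hg
  -- lifts of unipotents
  obtain ⟨c, hc⟩ : ∃ c : ℕ, ((Nat.card M * c : ℕ) : A ⧸ J) = 1 := by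
    obtain ⟨c, -, hc⟩ := Nat.exists_mul_mod_eq_one_of_coprime
      ((hpr.coprime_iff_not_dvd).mpr hp').symm hpr.one_lt
    refine ⟨c, ?_⟩
    rw [← Nat.cast_one (R := A ⧸ J)]
    exact (CharP.natCast_eq_natCast (A ⧸ J) p).mpr (hc.trans (Nat.mod_eq_of_lt hpr.one_lt).symm)
  have lift : ∀ g ∈ gamma k u, φ (g ^ p) = 1 →
      (g ^ (Nat.card M * c)) ^ p = 1 := fun g hg hgp => by
    rw [← pow_mul, mul_comm, pow_mul, pow_mul,
      pow_card_mem (N := M) (Subgroup.mem_inf.mpr ⟨pow_mem hg p, hgp⟩), one_pow]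
  have hp0 := natCast_char (k := k) p A
  have hupK : ∀ t : A ⧸ J, ∃ f ∈ lam k u, ρ f = t := by
    intro t
    obtain ⟨g, hg, he⟩ := hKall (up t)
    have hlp := lift g hg (by rw [map_pow, he, up_pow_char (natCast_char (k := k) p _)])
    set h := g ^ (Nat.card M * c)
    have hh : h ∈ gamma k u := pow_mem hg _
    have hφh : φ h = up t := by rw [map_pow, he, up_pow, hc, one_mul]
    have h1m : up (1 : A) ∈ gamma k u := by simpa using up_mem (k := k) u 1
    have hcom : up 1 * h * (up 1)⁻¹ = h := uniq _ (mul_mem (mul_mem h1m hh) (inv_mem h1m)) _ hh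
      (by rw [conj_pow, hlp, mul_one, mul_inv_cancel]) hlp (by
        rw [map_mul, map_mul, map_inv, hφh, hφ, red_up, map_one, up_inv, ← up_add, ← up_add,
          add_comm (1 : A ⧸ J), add_neg_cancel_right])
    have heq := eq_up_of_commute (e := 1) hp (by rwa [pow_one]) (mul_inv_eq_iff_eq_mul.mp hcom).symm
    refine ⟨h 0 1, show up (h 0 1) ∈ gamma k u from heq ▸ hh, ?_⟩
    have := congrArg (fun w : SL(2, A ⧸ J) => w 0 1) hφh
    simpa [hφ] using this
  have hlowK : ∀ t : A ⧸ J, ∃ f, low f ∈ gamma k u ∧ ρ f = t := by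
    intro t
    obtain ⟨g, hg, he⟩ := hKall (low t)
    have hlp := lift g hg (by rw [map_pow, he, low_pow, CharP.cast_eq_zero, zero_mul, low_zero])
    set h := g ^ (Nat.card M * c)
    have hh : h ∈ gamma k u := pow_mem hg _
    have hφh : φ h = low t := by rw [map_pow, he, low_pow, hc, one_mul]
    have h1m : low u ∈ gamma k u := by simpa using low_mem (k := k) u 1
    have hcom : low u * h * (low u)⁻¹ = h := uniq _ (mul_mem (mul_mem h1m hh) (inv_mem h1m)) _ hh
      (by rw [conj_pow, hlp, mul_one, mul_inv_cancel]) hlp (by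
        rw [map_mul, map_mul, map_inv, hφh, hφ, red_low, low_inv, ← low_add, ← low_add,
          add_comm (ρ.toRingHom u), add_neg_cancel_right])
    have heq := eq_low_of_commute hp hu hlp (mul_inv_eq_iff_eq_mul.mp hcom).symm
    refine ⟨h 1 0, heq ▸ hh, ?_⟩
    have := congrArg (fun w : SL(2, A ⧸ J) => w 1 0) hφh
    simpa [hφ] using this
  choose s hs hρs using hupK
  choose s' hs' hρs' using hlowK
  have su : ∀ f ∈ lam k u, s (ρ f) = f := fun f hf =>
    up_injective (uniq _ (hs _) _ hf (up_pow_char hp0 _) (up_pow_char hp0 _) (by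
      rw [hφ, red_up, red_up]; exact congrArg up (hρs _)))
  have su' : ∀ f, low f ∈ gamma k u → s' (ρ f) = f := fun f hf =>
    low_injective (uniq _ (hs' _) _ hf (by rw [low_pow, hp0, zero_mul, low_zero])
      (by rw [low_pow, hp0, zero_mul, low_zero]) (by
        rw [hφ, red_low, red_low]; exact congrArg low (hρs' _)))
  have sadd : ∀ x y, s (x + y) = s x + s y := fun x y => by
    rw [← su _ (add_mem (hs x) (hs y)), map_add, hρs, hρs]
  have sc : ∀ d : k, s (algebraMap k _ d) = algebraMap k A d := fun d => by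
    rw [← su _ (algebraMap_mem_lam u d), AlgHom.commutes]
  have s0 : s 0 = 0 := by simpa using sc 0
  have sneg : ∀ x, s (-x) = -s x := fun x => by
    rw [eq_neg_iff_add_eq_zero, ← sadd, neg_add_cancel, s0]
  have s1 : s 1 = 1 := by simpa using sc 1
  have sunit : ∀ x, x ≠ 0 → IsUnit (s x) := fun x hx =>
    hunit _ (hs x) fun h => hx (by rw [← hρs x, h, map_zero])
  have ssq : ∀ t x, s (t ^ 2 * x) = s (t ^ 2) * s x := by
    intro t x
    by_cases ht : t = 0
    · simp [ht, s0]
    obtain ⟨D, hD⟩ : ∃ D : SL(2, A ⧸ J), D 0 0 = t ∧ D 0 1 = 0 ∧ D 1 0 = 0 ∧ D 1 1 = t⁻¹ :=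
      ⟨⟨!![t, 0; 0, t⁻¹], by simp [Matrix.det_fin_two, ht]⟩, by simp⟩
    obtain ⟨g, hg, he⟩ := hKall D
    have e00 : ρ (g 0 0) = t := by simpa [hφ, hD] using congrArg (fun w : SL(2, A ⧸ J) => w 0 0) he
    have e10 : ρ (g 1 0) = 0 := by simpa [hφ, hD] using congrArg (fun w : SL(2, A ⧸ J) => w 1 0) he
    have hconj : ∀ y, g * up (s y) * g⁻¹ = up (s (t ^ 2 * y)) := fun y => by
      refine uniq _ (mul_mem (mul_mem hg (hs y)) (inv_mem hg)) _ (hs _)
        (by rw [conj_pow, up_pow_char hp0, mul_one, mul_inv_cancel]) (up_pow_char hp0 _) ?_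
      rw [map_mul, map_mul, map_inv, he, hφ, red_up, red_up, mul_inv_eq_iff_eq_mul]
      apply ext2 <;> simp [Matrix.mul_apply, Fin.sum_univ_two, hρs, hD.1, hD.2.1, hD.2.2.1,
        hD.2.2.2] <;> field_simp
    have h1 := congrArg (fun w : SL(2, A) => w 0 0) (mul_inv_eq_iff_eq_mul.mp (hconj 1))
    simp [Matrix.mul_apply, Fin.sum_univ_two, s1] at h1
    have hg10 : g 1 0 = 0 := ((sunit (t ^ 2) (pow_ne_zero 2 ht)).mul_right_eq_zero).mp
      (by first | exact h1 | linear_combination h1 | linear_combination -h1)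
    have a1 := up_injective ((upper_conj hg10 _).symm.trans (hconj 1))
    have a2 := up_injective ((upper_conj hg10 _).symm.trans (hconj x))
    rw [mul_one, s1, one_mul] at a1
    rw [← a2, a1, mul_comm]
  have smul : ∀ x y, s (x * y) = s x * s y := by
    intro x y
    have hp2 : IsUnit ((4 : k)) := by
      refine Ne.isUnit fun h => ?_
      have hk2 := Dickson.two_ne_zero_char (F := k) hp
      exact mul_ne_zero hk2 hk2 (by linear_combination h)
    have h4 : IsUnit (4 : A) := by simpa [map_ofNat] using hp2.map (algebraMap k A)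
    have s4 : ∀ z, s (4 * z) = 4 * s z := fun z => by
      have : s (z + z + (z + z)) = s z + s z + (s z + s z) := by rw [sadd, sadd]
      rw [show (4 : A ⧸ J) * z = z + z + (z + z) by ring, this]; ring
    apply h4.mul_left_cancel
    calc 4 * s (x * y) = s ((x + 1) ^ 2 * y + -((x - 1) ^ 2 * y)) := by rw [← s4]; congr 1; ring
      _ = (s ((x + 1) ^ 2 + -(x - 1) ^ 2)) * s y := by rw [sadd, sadd, sneg, sneg, ssq, ssq]; ring
      _ = s (4 * x) * s y := by congr 2; ring
      _ = 4 * (s x * s y) := by rw [s4, mul_assoc]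
  have ss' : ∀ t, s' t = s t := by
    intro t
    have h0 : s' 0 = 0 := by simpa using su' 0 (by simp)
    by_cases ht : t = 0
    · rw [ht, h0, s0]
    set g := up (s t⁻¹) * low (s' (-t)) * up (s t⁻¹) with hg
    have hgm : g ∈ gamma k u := mul_mem (mul_mem (hs _) (hs' _)) (hs _)
    have hconj : g * up 1 * g⁻¹ = low (s' (-t ^ 2)) := by
      refine uniq _ (mul_mem (mul_mem hgm (by simpa using up_mem (k := k) u 1)) (inv_mem hgm)) _
        (hs' _) (by rw [conj_pow, up_pow_char hp0, mul_one, mul_inv_cancel])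
        (by rw [low_pow, hp0, zero_mul, low_zero]) ?_
      rw [map_mul, map_mul, map_inv, hg, map_mul, map_mul, hφ, red_up, red_up, red_low, red_low,
        mul_inv_eq_iff_eq_mul]
      apply ext2 <;> simp [Matrix.mul_apply, Fin.sum_univ_two, hρs, hρs', ht] <;> field_simp <;> ring
    have h1 := congrArg (fun w : SL(2, A) => w 0 1) (mul_inv_eq_iff_eq_mul.mp hconj)
    rw [low_mul_apply_zero] at h1
    simp [hg, Matrix.mul_apply, Fin.sum_univ_two] at h1
    have hkey : 1 + s t⁻¹ * s' (-t) = 0 := by linear_combination h1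
    have hts : s t * s t⁻¹ = 1 := by rw [← smul, mul_inv_cancel₀ ht, s1]
    have hneg : s' (-t) = -s' t := by
      rw [← su' (-s' t) (low_inv (s' t) ▸ inv_mem (hs' t)), map_neg, hρs']
    rw [hneg] at hkey
    linear_combination (-(s t)) * hkey + (-(s' t)) * hts
  have hu' : s (ρ u) = u := by
    rw [← ss']; exact su' u (by simpa using low_mem (k := k) u 1)
  obtain ⟨q, rfl⟩ := hgen a
  suffices h : aeval u q = s (aeval (ρ u) q) by rw [h]; exact hs _
  induction q using Polynomial.induction_on with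
  | C d => simp [sc]
  | add x y hx hy => simp [sadd, hx, hy]
  | monomial n d ih =>
    rw [pow_succ, ← mul_assoc, map_mul (aeval u), map_mul (aeval (ρ u)), aeval_X, aeval_X,
      smul, ← ih, hu']

end Fin'

section Main

variable {A : Type*} [CommRing A] [Algebra k A] [Module.Finite k A] {u : A}

theorem finite_setting [Finite k] (h2 : (2 : k) ≠ 0) (hk3 : Nat.card k ≠ 3) :
    ∃ p : ℕ, Fact p.Prime ∧ CharP k p ∧ p ≠ 2 ∧ 5 ≤ Nat.card k := by
  obtain ⟨p, hc⟩ := CharP.exists k
  have hpr : p.Prime := CharP.char_is_prime k p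
  have hp : p ≠ 2 := fun h => h2 (by subst h; exact CharTwo.two_eq_zero)
  have := Fintype.ofFinite k
  obtain ⟨n, -, hn⟩ := FiniteField.card k p
  refine ⟨p, ⟨hpr⟩, hc, hp, ?_⟩
  rw [Nat.card_eq_fintype_card, hn] at hk3 ⊢
  have h3 : 3 ≤ p := by have := hpr.two_le; omega
  rcases Nat.lt_or_ge (n : ℕ) 2 with h | h
  · have : (n : ℕ) = 1 := by have := n.pos; omega
    rw [this, pow_one] at hk3 ⊢
    have : p ≠ 4 := fun h => by subst h; norm_num at hpr
    omega
  · exact le_trans (show 5 ≤ 3 ^ 2 by norm_num)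
      ((Nat.pow_le_pow_left h3 2).trans (Nat.pow_le_pow_right (by omega) h))

/-- A non-nilpotent parameter gives nonzero translations deep in the ideal `(u)`. -/
theorem exists_deep (h2 : (2 : k) ≠ 0) (hk3 : Nat.card k ≠ 3)
    (hgen : ∀ a : A, ∃ q : k[X], a = aeval u q) (hu : ¬ IsNilpotent u) (N : ℕ) :
    ∃ f : A, f ∈ lam k u ∧ f ≠ 0 ∧ u ^ N ∣ f := by
  rcases finite_or_infinite k with hk | hk
  · obtain ⟨p, hp1, hp2, hp, h5⟩ := finite_setting h2 hk3
    have : Finite A := Module.finite_of_finite k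
    exact deep_finite hp h5 hu N
  · exact ⟨u ^ N, up_mem_of_infinite h2 (IsIntegral.of_finite k u) hgen _,
      fun h => hu ⟨N, h⟩, dvd_refl _⟩

/-- If all translations are units then all elementary matrices are in `gamma k u`. -/
theorem up_low_mem (h2 : (2 : k) ≠ 0) (hk3 : Nat.card k ≠ 3)
    (hgen : ∀ a : A, ∃ q : k[X], a = aeval u q) (hu : IsUnit u)
    (hunit : ∀ f ∈ lam k u, f ≠ 0 → IsUnit f) (a : A) :
    up a ∈ gamma k u ∧ low a ∈ gamma k u := by
  have hup : ∀ a : A, up a ∈ gamma k u := by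
    rcases finite_or_infinite k with hk | hk
    · obtain ⟨p, hp1, hp2, hp, h5⟩ := finite_setting h2 hk3
      have : Finite A := Module.finite_of_finite k
      exact all_finite hp h5 hu hgen hunit
    · exact up_mem_of_infinite h2 (IsIntegral.of_finite k u) hgen
  exact ⟨hup a, low_mem_of_up hu hup a⟩

/-- In that situation `A` is a field. -/
theorem isUnit_of_ne_zero (h2 : (2 : k) ≠ 0) (hk3 : Nat.card k ≠ 3)
    (hgen : ∀ a : A, ∃ q : k[X], a = aeval u q) (hu : IsUnit u)
    (hunit : ∀ f ∈ lam k u, f ≠ 0 → IsUnit f) {a : A} (ha : a ≠ 0) : IsUnit a :=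
  hunit a (up_low_mem h2 hk3 hgen hu hunit a).1 ha

/-- For a field `K = k[u]`, `gamma k u` is everything. -/
theorem gamma_eq_top {K : Type*} [Field K] [Algebra k K] [Module.Finite k K] {u : K}
    (h2 : (2 : k) ≠ 0) (hk3 : Nat.card k ≠ 3) (hgen : ∀ a : K, ∃ q : k[X], a = aeval u q)
    (hu : u ≠ 0) : gamma k u = ⊤ :=
  eq_top_iff.mpr fun g _ => mem_of_elementary
    (fun a => (up_low_mem h2 hk3 hgen hu.isUnit (fun f _ hf => hf.isUnit) a).1)
    (fun a => (up_low_mem h2 hk3 hgen hu.isUnit (fun f _ hf => hf.isUnit) a).2) g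

end Main

end Cfsg.Agent.Lib.QuadPair
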