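import Cfsg.Agent.Lib.QuadPair.Good

/-! Pairs of minimal square zero elements whose product is nilpotent. -/

namespace Cfsg.Agent.Lib.QuadPair

variable {k : Type*} [Field k] {M : Type*} [AddCommGroup M] [Module k M] [FiniteDimensional k M]
  {G : Subgroup (LinearMap.GeneralLinearGroup k M)}

local notation "E" => (M →ₗ[k] M)

omit [FiniteDimensional k M] in
theorem mul_mul_eq_zero {R : Type*} [Ring R] {N P : R} (h : N * (P * N) = 0) :
    N * P * N = 0 := by rwa [mul_assoc]

omit [FiniteDimensional k M] in
/-- Commutators of a pair with `N P N = 0`. -/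
theorem good_comm (h2 : (2 : k) ≠ 0) {N P : E} (hN : Good G N) (hP : Good G P)
    (h : N * P * N = 0) : Good G (N * P - P * N) ∧ Good G (P * N * P) := by
  have hNw : ∀ w : E, N * (N * w) = 0 := fun w => by rw [← mul_assoc, hN.sq, zero_mul]
  have hPw : ∀ w : E, P * (P * w) = 0 := fun w => by rw [← mul_assoc, hP.sq, zero_mul]
  have hh : N * (P * N) = 0 := by rwa [← mul_assoc]
  have hhw : ∀ w : E, N * (P * (N * w)) = 0 := fun w => by
    rw [← mul_assoc P N w, ← mul_assoc, hh, zero_mul]
  set K := N * P - P * N with hK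
  set W := P * N * P with hW
  have hKK : K * K = 0 := by
    simp [hK, mul_sub, sub_mul, mul_assoc, hN.sq, hP.sq, hNw, hPw, hh, hhw]
  have hKW : K * W = 0 := by
    simp [hK, hW, sub_mul, mul_assoc, hN.sq, hP.sq, hNw, hPw, hh, hhw]
  have hWK : W * K = 0 := by
    simp [hK, hW, mul_sub, mul_assoc, hN.sq, hP.sq, hNw, hPw, hh, hhw]
  have hWW : W * W = 0 := by
    simp [hW, mul_assoc, hN.sq, hP.sq, hNw, hPw, hh, hhw]
  have hprod : ∀ x y : k, (K + x • W) * (K + y • W) = 0 := fun x y => by
    simp [mul_add, add_mul, hKK, hKW, hWK, hWW]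
  have hel : ∀ a c : k, 1 + (a * c) • (K + c • W) ∈ vals G := fun a c => by
    have h1 := mul_mem (mul_mem (mul_mem (hN.mem a) (hP.mem c)) (hN.mem (-a))) (hP.mem (-c))
    convert h1 using 1
    simp only [mul_add, add_mul, one_mul, mul_one, smul_mul_assoc, mul_smul_comm, mul_assoc,
      hN.sq, hP.sq, hNw, hPw, hh, hhw, smul_zero, add_zero, zero_add, smul_smul, hK, hW,
      smul_sub, smul_add, mul_zero]
    module
  have hX : ∀ c : k, c ≠ 0 → Good G (K + c • W) := fun c hc =>
    ⟨hprod c c, fun t => by simpa [div_mul_cancel₀ _ hc] using hel (t / c) c⟩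
  constructor
  · have := ((hX 1 one_ne_zero).add (hX (-1) (by simp)) (hprod _ _) (hprod _ _)).smul (2 : k)⁻¹
    convert this using 1
    match_scalars <;> field_simp <;> ring
  · have := ((hX 1 one_ne_zero).add (hX (-1) (by simp)).neg (by rw [mul_neg, hprod, neg_zero])
      (by rw [neg_mul, hprod, neg_zero])).smul (2 : k)⁻¹
    convert this using 1
    match_scalars <;> field_simp <;> ring

/-- If `N P N = 0` then also `P N P = 0`. -/
theorem mul_mul_zero_symm (h2 : (2 : k) ≠ 0) {N P : E} (hN : IsMin G N) (hP : IsMin G P)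
    (h : N * P * N = 0) : P * N * P = 0 := by
  by_contra h0
  have hW := (good_comm h2 hN.good hP.good h).2
  have hle := hP.le_rk _ hW h0
  have e1 : rk (P * N * P) ≤ rk (N * P) := by rw [mul_assoc]; exact rk_mul_le_right _ _
  have e2 := hN.rk_eq hP
  have hNP : LinearMap.range (N * P : E) = LinearMap.range N :=
    Submodule.eq_of_le_of_finrank_le (LinearMap.range_comp_le_range P N)
      (show rk N ≤ rk (N * P) by omega)
  have hPP : LinearMap.range (P * N * P : E) = LinearMap.range P :=
    Submodule.eq_of_le_of_finrank_le (by rw [mul_assoc]; exact LinearMap.range_comp_le_range _ P) hle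
  have hPN : LinearMap.range (P * N : E) = LinearMap.range P := by
    rw [Module.End.mul_eq_comp, LinearMap.range_comp, ← hNP, ← LinearMap.range_comp,
      ← Module.End.mul_eq_comp, ← mul_assoc, hPP]
  have hz : N * P = 0 := LinearMap.ext fun m => by
    obtain ⟨y, hy⟩ : P m ∈ LinearMap.range (P * N : E) := by rw [hPN]; exact ⟨m, rfl⟩
    rw [Module.End.mul_apply, ← hy, ← Module.End.mul_apply, ← mul_assoc, h]
    rfl
  exact h0 (by rw [mul_assoc, hz, mul_zero])

theorem rk_mul_add_le {N P : E} (h : N * P * N = 0) : rk (N * P) + rk (P * N) ≤ rk P := by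
  have h1 := LinearMap.finrank_range_add_finrank_ker (N ∘ₗ (LinearMap.range P).subtype)
  have hr : LinearMap.range (N ∘ₗ (LinearMap.range P).subtype) = LinearMap.range (N * P : E) := by
    rw [LinearMap.range_comp, Submodule.range_subtype, Module.End.mul_eq_comp, LinearMap.range_comp]
  let f : LinearMap.range (P * N : E) →ₗ[k] LinearMap.ker (N ∘ₗ (LinearMap.range P).subtype) :=
    LinearMap.codRestrict _ (Submodule.inclusion (LinearMap.range_comp_le_range N P))
      (fun ⟨x, m, hm⟩ => by
        subst hm
        rw [LinearMap.mem_ker]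
        show N (P (N m)) = 0
        rw [← Module.End.mul_apply, ← Module.End.mul_apply, h, LinearMap.zero_apply])
  have h2 := LinearMap.finrank_le_finrank_of_injective (f := f) (fun a b e => by
    have := congrArg (fun z => (z.1.1 : M)) e
    exact Subtype.ext this)
  rw [hr] at h1
  unfold rk
  omega

/-- The commutator of an annihilating pair is zero or again minimal. -/
theorem comm_isMin (h2 : (2 : k) ≠ 0) {N P : E} (hN : IsMin G N) (hP : IsMin G P)
    (h : N * P * N = 0) (h0 : N * P - P * N ≠ 0) : IsMin G (N * P - P * N) := by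
  refine hP.of_rk_le (good_comm h2 hN.good hP.good h).1 h0 ?_
  refine le_trans ?_ (rk_mul_add_le h)
  refine le_trans (Submodule.finrank_mono ?_) (Submodule.finrank_add_le_finrank_add_finrank _ _)
  rintro _ ⟨m, rfl⟩
  rw [LinearMap.sub_apply]
  exact sub_mem (Submodule.mem_sup_left ⟨m, rfl⟩) (Submodule.mem_sup_right ⟨m, rfl⟩)

omit [FiniteDimensional k M] in
theorem conj_identity {N P : E} (hN : N * N = 0) (hP : P * P = 0) (m : ℕ) :
    N * ((1 + P) * N * (1 - P) * N) ^ m = (-1 : k) ^ m • (N * (P * N) ^ (2 * m)) := by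
  induction m with
  | zero => simp
  | succ m ih =>
    have step : N * ((1 + P) * N * (1 - P) * N) = (-1 : k) • (N * (P * N) ^ 2) := by
      have hNw : ∀ w : E, N * (N * w) = 0 := fun w => by rw [← mul_assoc, hN, zero_mul]
      simp [sq, mul_add, add_mul, mul_sub, sub_mul, mul_assoc, hN, hNw]
    have comm : ∀ j : ℕ, N * (P * N) ^ j = (N * P) ^ j * N := by
      intro j
      induction j with
      | zero => simp
      | succ j ih => rw [pow_succ, ← mul_assoc, ih, pow_succ]; noncomm_ring
    rw [pow_succ, ← mul_assoc, ih, smul_mul_assoc, comm, mul_assoc, step, mul_smul_comm,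
      smul_smul, ← mul_assoc, ← comm, mul_assoc, ← pow_add, ← pow_succ, mul_add_one]

/-- If `(PN)` is nilpotent on the image, then `N P N = 0`. -/
theorem mul_mul_zero_of_nilpotent (h2 : (2 : k) ≠ 0) {N : E} (hN : IsMin G N) (m : ℕ) :
    ∀ P : E, IsMin G P → N * (P * N) ^ m = 0 → N * P * N = 0 := by
  induction m using Nat.strong_induction_on with
  | _ m ih =>
    intro P hP hm
    match m, hm with
    | 0, hm => exact absurd (by simpa using hm) hN.ne_zero
    | 1, hm => rw [mul_assoc]; simpa using hm
    | j + 2, hm =>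
      have key : ∀ (Q : E), Good G Q → N * (Q * N) ^ 2 = 0 →
          IsMin G ((1 + Q) * N * (1 - Q)) ∧ N * ((1 + Q) * N * (1 - Q)) * N = 0 := by
        intro Q hQ hq
        refine ⟨hN.conj hQ, ?_⟩
        have := conj_identity (k := k) hN.good.sq hQ.sq 1
        rw [pow_one, pow_one, mul_one, hq, smul_zero] at this
        rw [mul_assoc, this]
      have hsq : N * (P * N) ^ 2 = 0 := by
        rcases Nat.eq_zero_or_pos j with rfl | hj
        · exact hm
        set N₁ := (1 + P) * N * (1 - P) with hN₁
        have h' := ih ((j + 3) / 2) (by omega) N₁ (hN.conj hP.good) (by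
          rw [hN₁, conj_identity hN.good.sq hP.good.sq,
            show 2 * ((j + 3) / 2) = (j + 2) + (2 * ((j + 3) / 2) - (j + 2)) by omega, pow_add,
            ← mul_assoc, hm, zero_mul, smul_zero])
        have := conj_identity (k := k) hN.good.sq hP.good.sq 1
        rw [pow_one, pow_one, mul_one, ← hN₁, ← mul_assoc, h'] at this
        simpa using this.symm
      obtain ⟨hm1, hz1⟩ := key P hP.good hsq
      obtain ⟨hm2, hz2⟩ := key (-P) hP.good.neg (by simpa using hsq)
      have g1 := (good_comm h2 hN.good hm1.good hz1).1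
      have g2 := (good_comm h2 hN.good hm2.good hz2).1.neg
      have hNw : ∀ w : E, N * (N * w) = 0 := fun w => by rw [← mul_assoc, hN.good.sq, zero_mul]
      have hPw : ∀ w : E, P * (P * w) = 0 := fun w => by rw [← mul_assoc, hP.good.sq, zero_mul]
      have hh : N * (P * (N * (P * N))) = 0 := by
        rw [← hsq, sq]; noncomm_ring
      have hhw : ∀ w : E, N * (P * (N * (P * (N * w)))) = 0 := fun w => by
        have := congrArg (· * w) hh
        simpa [mul_assoc] using this
      set Z := N * P * N with hZ
      set W := P * N * P * N - N * P * N * P with hW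
      have e1 : N * ((1 + P) * N * (1 - P)) - (1 + P) * N * (1 - P) * N = (2 : k) • Z + W := by
        rw [two_smul]
        simp [hZ, hW, mul_add, add_mul, mul_sub, sub_mul, mul_assoc, hN.good.sq, hNw]
        abel
      have e2 : -(N * ((1 + -P) * N * (1 - -P)) - (1 + -P) * N * (1 - -P) * N) =
          (2 : k) • Z - W := by
        rw [two_smul]
        simp [hZ, hW, mul_add, add_mul, mul_sub, sub_mul, mul_assoc, hN.good.sq, hNw]
        abel
      rw [e1] at g1
      rw [e2] at g2
      have hZZ : Z * Z = 0 := by simp [hZ, mul_assoc, hNw]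
      have hZW : Z * W = 0 := by simp [hZ, hW, mul_sub, mul_assoc, hN.good.sq, hNw, hh, hhw]
      have hWZ : W * Z = 0 := by simp [hZ, hW, sub_mul, mul_assoc, hN.good.sq, hNw, hh, hhw]
      have hWW : W * W = 0 := by
        simp [hW, mul_sub, sub_mul, mul_assoc, hN.good.sq, hP.good.sq, hNw, hPw, hh, hhw]
      have hZgood : Good G Z := by
        have := (g1.add g2 (by simp [mul_sub, add_mul, hZZ, hZW, hWZ, hWW])
          (by simp [mul_add, sub_mul, hZZ, hZW, hWZ, hWW])).smul (4 : k)⁻¹
        convert this using 1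
        have h4 : (4 : k) ≠ 0 := fun h => mul_ne_zero h2 h2 (by linear_combination h)
        match_scalars <;> field_simp <;> ring
      by_contra h0
      have hr : LinearMap.range Z = LinearMap.range N :=
        Submodule.eq_of_le_of_finrank_le (by rw [hZ, mul_assoc]; exact LinearMap.range_comp_le_range _ N)
          (hN.le_rk Z hZgood h0)
      apply h0
      refine LinearMap.ext fun m => ?_
      obtain ⟨y, hy⟩ : N m ∈ LinearMap.range Z := by rw [hr]; exact ⟨m, rfl⟩
      show N (P (N m)) = 0
      rw [← hy]
      simpa [hZ, mul_assoc] using congrArg (fun f : E => f y) hh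

end Cfsg.Agent.Lib.QuadPair
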