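import Cfsg.Agent.Lib.QuadPair.Main

/-! The order `k[u] + k[u]N + k[u]P + k[u]NP + k[u]PN` of two square zero elements,
with `u = NP + PN` central. -/

namespace Cfsg.Agent.Lib.QuadPair

open Polynomial
open scoped MatrixGroups

variable {k : Type*} [Field k] {R : Type*} [Ring R] [Algebra k R]

/-- `u = NP + PN`. -/
abbrev cu (N P : R) : R := N * P + P * N

/-- An element of the order. -/
noncomputable def F (N P : R) (α δ b c : k[X]) : R :=
  1 + aeval (cu N P) α * (N * P) + aeval (cu N P) δ * (P * N) + aeval (cu N P) b * N +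
    aeval (cu N P) c * P

variable {N P : R} (hN : N * N = 0) (hP : P * P = 0)

theorem cu_comm_symm : cu P N = cu N P := add_comm _ _

include hN hP in
theorem NP_N : N * (P * N) = cu N P * N := by
  rw [add_mul, mul_assoc, mul_assoc, hN, mul_zero, add_zero]

include hN in
theorem cu_mul_left : cu N P * N = N * cu N P := by
  rw [add_mul, mul_add, mul_assoc P, hN, ← mul_assoc N N, hN, mul_zero, zero_mul, add_zero,
    zero_add, mul_assoc]

include hN in
theorem aeval_comm_left (q : k[X]) : aeval (cu N P) q * N = N * aeval (cu N P) q := by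
  induction q using Polynomial.induction_on with
  | C c => rw [aeval_C]; exact Algebra.commutes c N
  | add a b ha hb => rw [map_add, add_mul, mul_add, ha, hb]
  | monomial n c ih =>
    rw [pow_succ, ← mul_assoc, map_mul, aeval_X, mul_assoc, cu_mul_left hN, ← mul_assoc, ih,
      mul_assoc]

include hP in
theorem aeval_comm_right (q : k[X]) : aeval (cu N P) q * P = P * aeval (cu N P) q := by
  rw [← cu_comm_symm]
  exact aeval_comm_left hP q

include hN hP in
theorem F_mul (α δ b c α' δ' b' c' : k[X]) :
    F N P α δ b c * F N P α' δ' b' c' =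
      F N P (α + α' + X * (α * α') + b * c') (δ + δ' + X * (δ * δ') + c * b')
        (b + b' + X * (α * b') + X * (b * δ')) (c + c' + X * (δ * c') + X * (c * α')) := by
  simp only [F, map_add, map_mul, add_mul, mul_add, one_mul, mul_one]
  have cN := aeval_comm_left (k := k) (P := P) hN
  have cP := aeval_comm_right (k := k) (N := N) hP
  have mN : ∀ (q : k[X]) (w : R), N * (aeval (cu N P) q * w) = aeval (cu N P) q * (N * w) :=
    fun q w => by rw [← mul_assoc, ← cN, mul_assoc]
  have mP : ∀ (q : k[X]) (w : R), P * (aeval (cu N P) q * w) = aeval (cu N P) q * (P * w) :=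
    fun q w => by rw [← mul_assoc, ← cP, mul_assoc]
  have e1 : ∀ w, N * (N * w) = 0 := fun w => by rw [← mul_assoc, hN, zero_mul]
  have e2 : ∀ w, P * (P * w) = 0 := fun w => by rw [← mul_assoc, hP, zero_mul]
  have e3 : N * (P * N) = aeval (cu N P) (X : k[X]) * N := by rw [aeval_X]; exact NP_N hN hP
  have e4 : P * (N * P) = aeval (cu N P) (X : k[X]) * P := by
    rw [aeval_X, NP_N hP hN, cu_comm_symm]
  have eu : (N * P + P * N : R) = aeval (cu N P) (X : k[X]) := (aeval_X _).symm
  have hc : ∀ q r : k[X], aeval (cu N P) q * aeval (cu N P) r =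
      aeval (cu N P) r * aeval (cu N P) q := fun q r => by rw [← map_mul, ← map_mul, mul_comm]
  simp only [mul_assoc, mN, mP, hN, hP, e1, e2, e3, e4, mul_zero,
    add_zero, zero_add]
  have hX : ∀ (q : k[X]) (w : R), aeval (cu N P) q * (aeval (cu N P) (X : k[X]) * w) =
      aeval (cu N P) (X : k[X]) * (aeval (cu N P) q * w) := fun q w => by
    rw [← mul_assoc, hc, mul_assoc]
  simp only [hX]
  abel

theorem F_zero : F N P (0 : k[X]) 0 0 0 = 1 := by simp [F]

theorem F_swap (α δ b c : k[X]) : F P N δ α c b = F N P α δ b c := by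
  simp only [F, cu_comm_symm]
  abel

/-- The evaluation of a polynomial is killed on `N`. -/
def nullIdeal (N P : R) : Ideal k[X] where
  carrier := {q | aeval (cu N P) q * N = 0}
  zero_mem' := by simp
  add_mem' {a b} ha hb := by simp_all [add_mul]
  smul_mem' r q hq := by
    simp only [Set.mem_setOf_eq, smul_eq_mul, map_mul] at *
    rw [mul_assoc, hq, mul_zero]

theorem mem_nullIdeal {q : k[X]} : q ∈ nullIdeal N P ↔ aeval (cu N P) q * N = 0 := Iff.rfl

/-- The scaling map of `SL₂`. -/
def scaleFun {A : Type*} [CommRing A] [Algebra k A] (c : k) (hc : c ≠ 0) (g : SL(2, A)) :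
    SL(2, A) :=
  ⟨!![g 0 0, algebraMap k A c * g 0 1; algebraMap k A c⁻¹ * g 1 0, g 1 1], by
    rw [Matrix.det_fin_two_of]
    have h : algebraMap k A c * algebraMap k A c⁻¹ = 1 := by
      rw [← map_mul, mul_inv_cancel₀ hc, map_one]
    linear_combination det2 g - g 0 1 * g 1 0 * h⟩

theorem scaleFun_apply {A : Type*} [CommRing A] [Algebra k A] (c : k) (hc : c ≠ 0) (g : SL(2, A))
    (i j : Fin 2) : scaleFun c hc g i j =
      !![g 0 0, algebraMap k A c * g 0 1; algebraMap k A c⁻¹ * g 1 0, g 1 1] i j := rfl

/-- The scaling automorphism of `SL₂`. -/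
def scaleSL {A : Type*} [CommRing A] [Algebra k A] (c : k) (hc : c ≠ 0) :
    SL(2, A) →* SL(2, A) where
  toFun := scaleFun c hc
  map_one' := by apply ext2 <;> simp [scaleFun_apply]
  map_mul' g h := by
    have hci : algebraMap k A c * algebraMap k A c⁻¹ = 1 := by
      rw [← map_mul, mul_inv_cancel₀ hc, map_one]
    apply ext2 <;> simp [scaleFun_apply, Matrix.mul_apply, Fin.sum_univ_two]
    · linear_combination -(g 0 1 * h 1 0) * hci
    · ring
    · ring
    · linear_combination -(g 1 0 * h 0 1) * hci

/-- Translations of `gamma k u` form a `k`-subspace. -/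
theorem smul_mem_lam {A : Type*} [CommRing A] [Algebra k A] {u f : A} (hf : f ∈ lam k u) (c : k) :
    c • f ∈ lam k u := by
  by_cases hc : c = 0
  · simp [hc]
  have hle : gamma k u ≤ (gamma k u).comap (scaleSL c hc) := by
    refine (Subgroup.closure_le _).mpr ?_
    rintro _ (⟨a, rfl⟩ | ⟨a, rfl⟩) <;> rw [SetLike.mem_coe, Subgroup.mem_comap]
    · have he : scaleSL c hc (up (algebraMap k A a)) = up (algebraMap k A (c * a)) := by
        apply ext2 <;> simp [scaleSL, scaleFun_apply]
      exact he ▸ up_mem u (c * a)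
    · have he : scaleSL c hc (low (algebraMap k A a * u)) = low (algebraMap k A (c⁻¹ * a) * u) := by
        apply ext2 <;> simp [scaleSL, scaleFun_apply, mul_assoc]
      exact he ▸ low_mem u (c⁻¹ * a)
  have h : scaleSL c hc (up f) = up (c • f) := by
    apply ext2 <;> simp [scaleSL, scaleFun_apply, Algebra.smul_def]
  rw [mem_lam, ← h]
  exact hle hf

end Cfsg.Agent.Lib.QuadPair
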