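import Cfsg.Agent.Lib.QuadPair.SL2Alg

/-! Two families of orthogonal polynomials and the continued fraction word they define. -/

namespace Cfsg.Agent.Lib.QuadPair

open Polynomial
open scoped MatrixGroups

variable {k : Type*} [Field k]

/-- The shifted Hankel matrix of a functional. -/
noncomputable def hankel (L : k[X] →ₗ[k] k) (s j : ℕ) : Matrix (Fin j) (Fin j) k :=
  fun i l => L (X ^ ((i : ℕ) + (l : ℕ) + s))

/-- `P` is monic of degree `j` and orthogonal to the lower degrees for the shifted functional. -/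
structure Orth (L : k[X] →ₗ[k] k) (s j : ℕ) (P : k[X]) : Prop where
  monic : P.Monic
  natDegree : P.natDegree = j
  orth : ∀ i < j, L (X ^ (i + s) * P) = 0

variable {L : k[X] →ₗ[k] k} {s j : ℕ}

theorem hankel_mulVec (v : Fin j → k) (i : Fin j) :
    (hankel L s j).mulVec v i = L (X ^ ((i : ℕ) + s) * ∑ l : Fin j, C (v l) * X ^ (l : ℕ)) := by
  rw [Matrix.mulVec, dotProduct, Finset.mul_sum, map_sum]
  refine Finset.sum_congr rfl fun l _ => ?_
  rw [← Polynomial.smul_eq_C_mul, mul_smul_comm, map_smul, ← pow_add, smul_eq_mul, mul_comm,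
    hankel, add_right_comm]

theorem eq_sum_of_degree_lt {Q : k[X]} (hQ : Q.degree < (j : ℕ)) :
    Q = ∑ l : Fin j, C (Q.coeff l) * X ^ (l : ℕ) := by
  ext m
  simp only [finsetSum_coeff, coeff_C_mul_X_pow]
  by_cases hm : m < j
  · rw [Finset.sum_eq_single (⟨m, hm⟩ : Fin j)]
    · simp
    · intro l _ hl
      rw [if_neg]
      exact fun e => hl (Fin.ext e.symm)
    · simp
  · rw [coeff_eq_zero_of_degree_lt (lt_of_lt_of_le hQ (by exact_mod_cast not_lt.mp hm)),
      Finset.sum_eq_zero]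
    intro l _
    rw [if_neg]
    have := l.2
    omega

theorem eq_zero_of_orth (hdet : (hankel L s j).det ≠ 0) {Q : k[X]} (hQ : Q.degree < (j : ℕ))
    (h : ∀ i < j, L (X ^ (i + s) * Q) = 0) : Q = 0 := by
  have hv : (fun l : Fin j => Q.coeff l) = 0 := by
    by_contra hne
    refine hdet (Matrix.exists_mulVec_eq_zero_iff.mp ⟨_, hne, funext fun i => ?_⟩)
    rw [hankel_mulVec, ← eq_sum_of_degree_lt hQ]
    exact h i i.2
  rw [eq_sum_of_degree_lt hQ]
  refine Finset.sum_eq_zero fun l _ => ?_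
  have := congrFun hv l
  simp only [Pi.zero_apply] at this
  rw [this, C_0, zero_mul]

theorem exists_orth (hdet : (hankel L s j).det ≠ 0) : ∃ P, Orth L s j P := by
  obtain ⟨v, hv⟩ : ∃ v, (hankel L s j).mulVec v = fun i : Fin j => -L (X ^ ((i : ℕ) + s) * X ^ j) :=
    ⟨(hankel L s j)⁻¹.mulVec _, by
      rw [Matrix.mulVec_mulVec, Matrix.mul_nonsing_inv _ (Ne.isUnit hdet), Matrix.one_mulVec]⟩
  have hdeg : (∑ l : Fin j, C (v l) * X ^ (l : ℕ)).degree < ((j : ℕ) : WithBot ℕ) :=
    degree_sum_fin_lt v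
  refine ⟨X ^ j + ∑ l : Fin j, C (v l) * X ^ (l : ℕ), monic_X_pow_add hdeg, ?_, fun i hi => ?_⟩
  · exact natDegree_eq_of_degree_eq_some (by
      rw [degree_add_eq_left_of_degree_lt (by simpa using hdeg), degree_X_pow])
  · rw [mul_add, map_add]
    have := congrFun hv ⟨i, hi⟩
    rw [hankel_mulVec] at this
    rw [this, add_neg_cancel]

theorem degree_sub_lt_of_orth {P P' : k[X]} (hP : P.Monic) (hP' : P'.Monic)
    (e : P.natDegree = j) (e' : P'.natDegree = j) : (P - P').degree < (j : ℕ) := by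
  have hd : P.degree = (j : ℕ) := by rw [degree_eq_natDegree hP.ne_zero, e]
  calc (P - P').degree < P.degree :=
        degree_sub_lt (by rw [hd, degree_eq_natDegree hP'.ne_zero, e']) hP.ne_zero
          (by rw [hP.leadingCoeff, hP'.leadingCoeff])
    _ = _ := hd

theorem Orth.unique (hdet : (hankel L s j).det ≠ 0) {P P' : k[X]} (h : Orth L s j P)
    (h' : Orth L s j P') : P = P' := by
  refine sub_eq_zero.mp (eq_zero_of_orth hdet
    (degree_sub_lt_of_orth h.monic h'.monic h.natDegree h'.natDegree) fun i hi => ?_)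
  rw [mul_sub, map_sub, h.orth i hi, h'.orth i hi, sub_zero]

theorem Orth.norm_ne_zero {P : k[X]} (h : Orth L s j P) (hdet : (hankel L s (j + 1)).det ≠ 0) :
    L (X ^ (j + s) * P) ≠ 0 := by
  intro e
  refine h.monic.ne_zero (eq_zero_of_orth hdet ?_ fun i hi => ?_)
  · rw [degree_eq_natDegree h.monic.ne_zero, h.natDegree]
    exact_mod_cast Nat.lt_succ_self j
  · rcases Nat.lt_succ_iff_lt_or_eq.mp hi with hi | rfl
    exacts [h.orth i hi, e]

theorem degree_sub_C_mul_lt {Q P : k[X]} (hQ : Q.degree < ((j + 1 : ℕ) : WithBot ℕ)) (hP : P.Monic)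
    (e : P.natDegree = j) : (Q - C (Q.coeff j) * P).degree < (j : ℕ) := by
  rw [degree_lt_iff_coeff_zero]
  intro m hm
  rw [coeff_sub, coeff_C_mul]
  rcases eq_or_lt_of_le hm with rfl | hm
  · have : P.coeff j = 1 := by rw [← e]; exact hP.coeff_natDegree
    rw [this, mul_one, sub_self]
  · rw [coeff_eq_zero_of_natDegree_lt (p := P) (by omega),
      coeff_eq_zero_of_degree_lt (p := Q) (lt_of_lt_of_le hQ (by exact_mod_cast hm)), mul_zero,
      sub_zero]

/-- `P_{j+1} = X R_j - μ P_j`. -/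
theorem orth_step_zero {P P' R : k[X]} (hdet : (hankel L 0 j).det ≠ 0)
    (hdetP : (hankel L 0 (j + 1)).det ≠ 0) (hdetR : (hankel L 1 (j + 1)).det ≠ 0)
    (hP : Orth L 0 j P) (hP' : Orth L 0 (j + 1) P') (hR : Orth L 1 j R) :
    ∃ μ : k, μ ≠ 0 ∧ P' = X * R - C μ * P := by
  have hXR : (X * R).Monic := monic_X.mul hR.monic
  have hXRd : (X * R).natDegree = j + 1 := by
    rw [monic_X.natDegree_mul hR.monic, natDegree_X, hR.natDegree, add_comm]
  set Q := X * R - P' with hQ
  have hQd := degree_sub_C_mul_lt (degree_sub_lt_of_orth hXR hP'.monic hXRd hP'.natDegree)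
    hP.monic hP.natDegree
  have hz : Q - C (Q.coeff j) * P = 0 := by
    refine eq_zero_of_orth hdet hQd fun i hi => ?_
    have h1 : L (X ^ (i + 0) * (X * R)) = 0 := by
      rw [← hR.orth i hi]; congr 1; ring
    rw [mul_sub, map_sub, hQ, mul_sub, map_sub, h1, hP'.orth i (by omega),
      ← smul_eq_C_mul, mul_smul_comm, map_smul, hP.orth i hi, smul_zero, sub_zero, sub_zero]
  have e : P' = X * R - C (Q.coeff j) * P := by
    rw [← sub_eq_zero.mp hz, hQ, sub_sub_cancel]
  refine ⟨_, fun h0 => ?_, e⟩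
  rw [h0, C_0, zero_mul, sub_zero] at e
  apply hR.norm_ne_zero hdetR
  have := hP'.orth j (Nat.lt_succ_self j)
  rw [e, ← mul_assoc] at this
  rw [← this]
  congr 1

/-- `R_{j+1} = P_{j+1} + ε R_j`. -/
theorem orth_step_one {P' R R' : k[X]} (hdet : (hankel L 1 j).det ≠ 0)
    (hdetP : (hankel L 0 (j + 2)).det ≠ 0)
    (hP' : Orth L 0 (j + 1) P') (hR : Orth L 1 j R) (hR' : Orth L 1 (j + 1) R') :
    ∃ ε : k, ε ≠ 0 ∧ R' = P' + C ε * R := by
  set Q := R' - P' with hQ
  have hQd := degree_sub_C_mul_lt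
    (degree_sub_lt_of_orth hR'.monic hP'.monic hR'.natDegree hP'.natDegree) hR.monic hR.natDegree
  have hz : Q - C (Q.coeff j) * R = 0 := by
    refine eq_zero_of_orth hdet hQd fun i hi => ?_
    have h1 : L (X ^ (i + 1) * P') = 0 := by
      have := hP'.orth (i + 1) (by omega)
      rwa [add_zero] at this
    rw [mul_sub, map_sub, hQ, mul_sub, map_sub, h1, hR'.orth i (by omega),
      ← smul_eq_C_mul, mul_smul_comm, map_smul, hR.orth i hi, smul_zero, sub_zero, sub_zero]
  have e : R' = P' + C (Q.coeff j) * R := by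
    rw [← sub_eq_zero.mp hz, hQ, add_sub_cancel]
  refine ⟨_, fun h0 => ?_, e⟩
  rw [h0, C_0, zero_mul, add_zero] at e
  apply hP'.norm_ne_zero hdetP
  rw [← e, add_zero]
  exact hR'.orth j (Nat.lt_succ_self j)

variable {A : Type*} [CommRing A] [Algebra k A] {u : A}

/-- The word in `x(k)` and `y(k u)` with prescribed first column. -/
theorem exists_column {n : ℕ} (h0 : ∀ j ≤ n + 1, (hankel L 0 j).det ≠ 0)
    (h1 : ∀ j ≤ n, (hankel L 1 j).det ≠ 0) :
    ∀ j ≤ n, ∀ P R : k[X], Orth L 0 j P → Orth L 1 j R →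
      ∃ g ∈ gamma k u, ∃ π κ : k, π ≠ 0 ∧ κ ≠ 0 ∧
        g 0 0 = π • aeval u P ∧ g 1 0 = κ • (u * aeval u R) := by
  intro j
  induction j with
  | zero =>
    intro _ P R hP hR
    have eP : P = 1 := by
      rw [← hP.monic.natDegree_eq_zero]; exact hP.natDegree
    have eR : R = 1 := by
      rw [← hR.monic.natDegree_eq_zero]; exact hR.natDegree
    refine ⟨low (algebraMap k A 1 * u), low_mem u 1, 1, 1, one_ne_zero, one_ne_zero, ?_, ?_⟩
    · simp [eP]
    · simp [eR]
  | succ j ih =>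
    intro hj P' R' hP' hR'
    obtain ⟨P, hP⟩ := exists_orth (h0 j (by omega))
    obtain ⟨R, hR⟩ := exists_orth (h1 j (by omega))
    obtain ⟨g, hg, π, κ, hπ, hκ, hg0, hg1⟩ := ih (by omega) P R hP hR
    obtain ⟨μ, hμ, eP⟩ := orth_step_zero (h0 j (by omega)) (h0 (j + 1) (by omega))
      (h1 (j + 1) hj) hP hP' hR
    obtain ⟨ε, hε, eR⟩ := orth_step_one (h1 j (by omega)) (h0 (j + 2) (by omega)) hP' hR hR'
    set lm : k := -π / μ with hlm
    have hl0 : lm ≠ 0 := div_ne_zero (neg_ne_zero.mpr hπ) hμ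
    have hπl : π = -(lm * μ) := by rw [hlm, div_mul_cancel₀ _ hμ, neg_neg]
    refine ⟨low (algebraMap k A (κ / (ε * lm)) * u) * (up (algebraMap k A (lm / κ)) * g),
      mul_mem (low_mem u _) (mul_mem (up_mem u _) hg), lm, κ / ε, hl0, div_ne_zero hκ hε, ?_, ?_⟩
    · rw [low_mul_apply_zero, up_mul_apply_zero, hg0, hg1, eP, hπl, ← Algebra.smul_def, smul_smul,
        div_mul_cancel₀ _ hκ, map_sub, map_mul, map_mul, aeval_X, aeval_C, ← Algebra.smul_def,
        smul_sub, smul_smul, neg_smul]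
      abel
    · have e0 : (up (algebraMap k A (lm / κ)) * g) 0 0 = lm • aeval u P' := by
        rw [up_mul_apply_zero, hg0, hg1, eP, hπl, ← Algebra.smul_def, smul_smul,
          div_mul_cancel₀ _ hκ, map_sub, map_mul, map_mul, aeval_X, aeval_C, ← Algebra.smul_def,
          smul_sub, smul_smul, neg_smul]
        abel
      rw [low_mul_apply_one, e0, up_mul_apply_one, hg1, eR, map_add, map_mul, aeval_C]
      simp only [Algebra.smul_def]
      have hb : algebraMap k A (κ / (ε * lm)) * algebraMap k A lm = algebraMap k A (κ / ε) := by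
        rw [← map_mul]; congr 1; field_simp
      have hk : algebraMap k A (κ / ε) * algebraMap k A ε = algebraMap k A κ := by
        rw [← map_mul, div_mul_cancel₀ _ hε]
      linear_combination (u * aeval u P') * hb - (u * aeval u R) * hk

/-- An upper triangular element of `gamma k u` with prescribed corner. -/
theorem exists_torus {n : ℕ} (h0 : ∀ j ≤ n + 1, (hankel L 0 j).det ≠ 0)
    (h1 : ∀ j ≤ n, (hankel L 1 j).det ≠ 0) {f P : k[X]} (hf : f.Monic) (hfd : f.natDegree = n)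
    (hL : ∀ q, L (X * f * q) = 0) (hu : u * aeval u f = 0) (hP : Orth L 0 n P) :
    ∃ g ∈ gamma k u, g 1 0 = 0 ∧ ∃ π : k, π ≠ 0 ∧ g 0 0 = π • aeval u P := by
  have hR : Orth L 1 n f := ⟨hf, hfd, fun i _ => by
    rw [← hL (X ^ i)]; congr 1; ring⟩
  obtain ⟨g, hg, π, κ, hπ, -, hg0, hg1⟩ := exists_column (u := u) h0 h1 n le_rfl P f hP hR
  exact ⟨g, hg, by rw [hg1, hu, smul_zero], π, hπ, hg0⟩

end Cfsg.Agent.Lib.QuadPair
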