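import Cfsg.Agent.Lib.QuadPair.RootSet
import Cfsg.Agent.Lib.RootSubgroups.Components
import Cfsg.Agent.Lib.RootSubgroups.Quasisimple

/-! The components of the rank one graph on the root subgroups of a quadratic pair. -/

namespace Cfsg.Agent.Lib.QuadPair

open Polynomial
open Cfsg.Agent.Lib.RootSubgroups
open scoped MatrixGroups

universe u

variable {k : Type u} [Field k] {M : Type u} [AddCommGroup M] [Module k M] [FiniteDimensional k M]
  {G : Subgroup (LinearMap.GeneralLinearGroup k M)}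

local notation "E" => (M →ₗ[k] M)
local notation "GL" => LinearMap.GeneralLinearGroup k M

variable {σ τ : LinearMap.GeneralLinearGroup k M}

/-- An irreducible group normalizes no nontrivial unipotent group. -/
theorem eq_bot_of_unipotent (hG : IsIrreducibleFor G) {U : Subgroup GL}
    (hU : IsUnipotentOn U) (hn : ∀ g ∈ G, ∀ x ∈ U, g * x * g⁻¹ ∈ U) (hUG : U ≤ G) : U = ⊥ := by
  classical
  obtain ⟨n, hn0⟩ := Unipotent.isUnipotentOn_iff.mp hU
  have hn' : ∃ n, Unipotent.aug U ^ n = ⊥ := ⟨n, hn0⟩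
  have hspec := Nat.find_spec hn'
  obtain ⟨m0, hm0⟩ := hG.1
  have hpos : Nat.find hn' ≠ 0 := fun h0 => by
    rw [h0, pow_zero, Submodule.one_eq_span, Submodule.span_singleton_eq_bot] at hspec
    exact hm0 (LinearMap.congr_fun hspec m0)
  obtain ⟨j, hj⟩ : ∃ j, Nat.find hn' = j + 1 := ⟨Nat.find hn' - 1, by omega⟩
  obtain ⟨e, he, he0⟩ := (Submodule.ne_bot_iff _).mp (Nat.find_min hn' (m := j) (by omega))
  obtain ⟨m, hm⟩ : ∃ m, e m ≠ 0 := by
    by_contra hall
    push Not at hall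
    exact he0 (LinearMap.ext hall)
  let F : Submodule k M :=
    { carrier := {v | ∀ x ∈ U, ((x : E) - 1) v = 0}
      zero_mem' := fun x _ => map_zero _
      add_mem' := fun ha hb x hx => by rw [map_add, ha x hx, hb x hx, add_zero]
      smul_mem' := fun c v hv x hx => by rw [map_smul, hv x hx, smul_zero] }
  have hFne : F ≠ ⊥ := by
    refine (Submodule.ne_bot_iff _).mpr ⟨e m, fun x hx => ?_, hm⟩
    have : ((x : E) - 1) * e ∈ Unipotent.aug U ^ (j + 1) := by
      rw [pow_succ']; exact Submodule.mul_mem_mul (Unipotent.sub_one_mem hx) he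
    rw [← hj, hspec, Submodule.mem_bot] at this
    rw [← Module.End.mul_apply]
    exact LinearMap.congr_fun this m
  have hFinv : ∀ g ∈ G, ∀ v ∈ F, (g : E) v ∈ F := by
    intro g hg v hv x hx
    have hx' := hn g⁻¹ (inv_mem hg) x hx
    rw [inv_inv] at hx'
    have := congrArg (g : E) (hv _ hx')
    simpa [mul_assoc, ← Module.End.mul_apply, mul_sub, sub_mul] using this
  have htop := (hG.2 F hFinv).resolve_left hFne
  refine (Subgroup.eq_bot_iff_forall _).mpr fun x hx => Units.ext (sub_eq_zero.mp ?_)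
  refine LinearMap.ext fun v => ?_
  have hv : v ∈ F := by rw [htop]; trivial
  exact hv x hx

theorem fadj_conj {g : GL} (hg : g ∈ G) {A B : Subgroup GL}
    (h : FAdj (quadraticRootSubgroups G) A B) :
    FAdj (quadraticRootSubgroups G) (conjBy A g) (conjBy B g) :=
  ⟨conj_root_mem h.1 hg, conj_root_mem h.2.1 hg, RankOne.conj h.2.2 g⟩

theorem reach_conjBy {g : GL} (hg : g ∈ G) {A B : Subgroup GL}
    (h : Relation.ReflTransGen (FAdj (quadraticRootSubgroups G)) A B) :
    Relation.ReflTransGen (FAdj (quadraticRootSubgroups G)) (conjBy A g) (conjBy B g) := by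
  induction h with
  | refl => exact .refl
  | tail _ hbc ih => exact ih.tail (fadj_conj hg hbc)

theorem fadj_of_typeTwo (h2 : (2 : k) ≠ 0) (hk3 : Nat.card k ≠ 3)
    (hσ : σ ∈ minimalQuadraticElements G) (hτ : τ ∈ minimalQuadraticElements G)
    (h : TypeTwo G ((σ : E) - 1) ((τ : E) - 1)) :
    FAdj (quadraticRootSubgroups G) (sameActionSubgroup G σ) (sameActionSubgroup G τ) :=
  ⟨⟨σ, hσ, rfl⟩, ⟨τ, hτ, rfl⟩, (special_of_typeTwo h2 hk3 hσ hτ h).1⟩

/-- A member is joined to the commutator class. -/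
theorem reach_commutator (h2 : (2 : k) ≠ 0) (hk3 : Nat.card k ≠ 3) (hG : IsQuadraticPair G)
    (hσ : σ ∈ minimalQuadraticElements G) (hτ : τ ∈ minimalQuadraticElements G)
    (h : Skew G ((σ : E) - 1) ((τ : E) - 1)) :
    Relation.ReflTransGen (FAdj (quadraticRootSubgroups G)) (sameActionSubgroup G τ)
      ⁅sameActionSubgroup G σ, sameActionSubgroup G τ⁆ := by
  obtain ⟨hDmem, -, -, -, r5, -⟩ := main_skew h2 hk3 hG hσ hτ h
  set D := ⁅sameActionSubgroup G σ, sameActionSubgroup G τ⁆ with hD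
  obtain ⟨χ, hχ, hDχ⟩ := hDmem
  obtain ⟨ρ, hρ, -, hr1⟩ := exists_rankOne_partner h2 hk3 hG hχ
  have hII := typeTwo_of_rankOne h2 hk3 hG hχ hρ hr1
  set W := (ρ : E) - 1 with hW
  set N := (σ : E) - 1 with hN
  set P := (τ : E) - 1 with hP
  have hfix : conjBy D σ = D := conjBy_of_comm fun x hx => by
    have := (Subgroup.commutator_eq_bot_iff_le_centralizer.mp r5)
      (Subgroup.commutator_mono le_sup_left le_sup_right hx)
    exact Subgroup.mem_centralizer_iff.mp this σ
      (le_sup_left (b := sameActionSubgroup G τ) (self_mem hσ))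
  have hσG : σ ∈ G := hσ.1.1
  have hτ' := minimal_conj hτ hσG
  by_cases hWP : W * P * W = 0
  · have hne : W * (((σ * τ * σ⁻¹ : GL) : E) - 1) * W ≠ 0 := by
      rw [val_conj_sub_one, cj, val_inv_of_sq h.min_left.good.sq, ← hN,
        show (σ : E) = 1 + N by rw [hN, add_sub_cancel]]
      have e : (1 + N) * P * (1 - N) = P + (N * P - P * N) := by
        rw [mul_sub, mul_one, add_mul, one_mul, add_mul, h.left]; abel
      rw [e, mul_add, add_mul, hWP, zero_add]
      have hc : InCls G ((χ : E) - 1) (N * P - P * N) := by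
        obtain ⟨x, hx, hxv⟩ := (h.isMin_comm h2).good.exists_unit
        have : x ∈ D := by
          have hcv : ((σ * τ * σ⁻¹ * τ⁻¹ : GL) : E) - 1 = N * P - P * N :=
            commutator_val hN.symm hP.symm h.min_left.good.sq h.min_right.good.sq h.left h.right
          rw [show x = σ * τ * σ⁻¹ * τ⁻¹ from Units.ext (sub_left_inj.mp (hxv.trans hcv.symm))]
          exact Subgroup.commutator_mem_commutator (self_mem hσ) (self_mem hτ)
        rw [hDχ, mem_sameAction_iff hχ, hxv] at this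
        exact this
      exact (hII.congr hc (h.isMin_comm h2).ne_zero (inCls_self hII.min_right.good)
        hII.min_right.ne_zero).symm.ne_zero
    have h1 := fadj_of_typeTwo h2 hk3 hρ hτ' (typeTwo_of_ne h2 hk3 hII.min_right
      (mem_minimal_iff.mp hτ') hne)
    rw [← sameAction_conj hτ hσG] at h1
    have h0 : Relation.ReflTransGen (FAdj (quadraticRootSubgroups G))
        (conjBy (sameActionSubgroup G τ) σ) D :=
      (Relation.ReflTransGen.single (Root.fadj_symm h1)).tail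
        (hDχ ▸ Root.fadj_symm (fadj_of_typeTwo h2 hk3 hχ hρ hII))
    have := reach_conjBy (inv_mem hσG) h0
    rwa [conjBy_inv_cancel, (conjBy_eq_iff.mp hfix).symm] at this
  · exact (Relation.ReflTransGen.single (Root.fadj_symm (fadj_of_typeTwo h2 hk3 hρ hτ
      (typeTwo_of_ne h2 hk3 hII.min_right h.min_right hWP)))).tail
        (hDχ ▸ Root.fadj_symm (fadj_of_typeTwo h2 hk3 hχ hρ hII))

/-- Non-commuting members are joined. -/
theorem reach_of_not_commute (h2 : (2 : k) ≠ 0) (hk3 : Nat.card k ≠ 3) (hG : IsQuadraticPair G)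
    {A B : Subgroup GL} (hA : A ∈ quadraticRootSubgroups G) (hB : B ∈ quadraticRootSubgroups G)
    (h : ⁅A, B⁆ ≠ ⊥) : Relation.ReflTransGen (FAdj (quadraticRootSubgroups G)) A B := by
  obtain ⟨σ, hσ, rfl⟩ := hA
  obtain ⟨τ, hτ, rfl⟩ := hB
  rcases pair_cases h2 hk3 hσ hτ with hb | hII | hs
  · exact absurd hb h
  · exact .single (fadj_of_typeTwo h2 hk3 hσ hτ hII)
  · have h1 := reach_commutator h2 hk3 hG hτ hσ hs.symm
    rw [Subgroup.commutator_comm] at h1
    exact h1.trans (Root.reach_symm (reach_commutator h2 hk3 hG hσ hτ hs))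

theorem reach_mem {A B : Subgroup GL} (hA : A ∈ quadraticRootSubgroups G)
    (h : Relation.ReflTransGen (FAdj (quadraticRootSubgroups G)) A B) :
    B ∈ quadraticRootSubgroups G := by
  induction h with
  | refl => exact hA
  | tail _ hbc _ => exact hbc.2.1

/-- A component. -/
abbrev part (G : Subgroup GL) (A : Subgroup GL) : Set (Subgroup GL) :=
  componentOf (FAdj (quadraticRootSubgroups G)) (quadraticRootSubgroups G) A

/-- The group of a component. -/
abbrev partGroup (G : Subgroup GL) (A : Subgroup GL) : Subgroup GL := ⨆ B ∈ part G A, B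

theorem partGroup_le (A : Subgroup GL) : partGroup G A ≤ G :=
  iSup₂_le fun _ hB => root_le hB.1

theorem member_le_partGroup {A B : Subgroup GL} (hB : B ∈ part G A) : B ≤ partGroup G A :=
  le_iSup_members hB

theorem commute_parts (h2 : (2 : k) ≠ 0) (hk3 : Nat.card k ≠ 3) (hG : IsQuadraticPair G)
    {A A' : Subgroup GL} (hne : part G A ≠ part G A') :
    ⁅partGroup G A, partGroup G A'⁆ = ⊥ := by
  rw [Subgroup.commutator_eq_bot_iff_le_centralizer]
  refine iSup₂_le fun B hB => ?_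
  rw [Subgroup.le_centralizer_iff]
  refine iSup₂_le fun B' hB' => ?_
  rw [Subgroup.le_centralizer_iff, ← Subgroup.commutator_eq_bot_iff_le_centralizer]
  by_contra h
  exact hne ((Root.componentOf_eq hB.2).trans ((Root.componentOf_eq
    (reach_of_not_commute h2 hk3 hG hB.1 hB'.1 h)).trans (Root.componentOf_eq hB'.2).symm))

theorem part_conj_mem (h2 : (2 : k) ≠ 0) (hk3 : Nat.card k ≠ 3) (hG : IsQuadraticPair G)
    {A : Subgroup GL} {g : GL} (hg : g ∈ partGroup G A) :
    ∀ B ∈ part G A, conjBy B g ∈ part G A := by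
  have key : ∀ C ∈ part G A, ∀ c ∈ C, ∀ B ∈ part G A, conjBy B c ∈ part G A := by
    intro C hC c hc B hB
    have hcG : c ∈ G := root_le hC.1 hc
    refine ⟨conj_root_mem hB.1 hcG, ?_⟩
    by_cases hcomm : ⁅B, C⁆ = ⊥
    · rw [conjBy_of_comm fun b hb => (comm_of_commutator_eq_bot hcomm hb hc).symm]
      exact hB.2
    · have h1 : ⁅C, conjBy B c⁆ ≠ ⊥ := by
        intro e
        apply hcomm
        rw [Subgroup.commutator_comm]
        have := congrArg (fun S : Subgroup GL => conjBy S c⁻¹) e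
        simp only [conjBy_commutator, conjBy_bot, conjBy_inv_cancel,
          conjBy_of_mem (inv_mem hc)] at this
        exact this
      exact hC.2.trans (reach_of_not_commute h2 hk3 hG hC.1 (conj_root_mem hB.1 hcG) h1)
  let S : Subgroup GL :=
    { carrier := {x | ∀ B ∈ part G A, conjBy B x ∈ part G A ∧ conjBy B x⁻¹ ∈ part G A}
      one_mem' := fun B hB => by simpa [conjBy_one] using hB
      mul_mem' := fun {x y} hx hy B hB => by
        rw [mul_inv_rev, ← conjBy_conjBy, ← conjBy_conjBy]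
        exact ⟨(hx _ (hy B hB).1).1, (hy _ (hx B hB).2).2⟩
      inv_mem' := fun {x} hx B hB => by rw [inv_inv]; exact ⟨(hx B hB).2, (hx B hB).1⟩ }
  have hle : partGroup G A ≤ S := iSup₂_le fun C hC c hc B hB =>
    ⟨key C hC c hc B hB, key C hC c⁻¹ (inv_mem hc) B hB⟩
  exact fun B hB => (hle hg B hB).1

theorem part_isConjClass (h2 : (2 : k) ≠ 0) (hk3 : Nat.card k ≠ 3) (hG : IsQuadraticPair G)
    {A B : Subgroup GL} (hB : B ∈ part G A) : ∃ g ∈ partGroup G A, B = conjBy A g := by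
  obtain ⟨hBS, hr⟩ := hB
  induction hr with
  | refl => exact ⟨1, one_mem _, (conjBy_one A).symm⟩
  | @tail B C hab hbc ih =>
    obtain ⟨g, hg, rfl⟩ := ih hbc.1
    obtain ⟨x, hx, hxe⟩ := RankOne.exists_swap_left hbc.2.2
    refine ⟨x * g, mul_mem ?_ hg, by rw [← conjBy_conjBy, hxe]⟩
    exact sup_le (member_le_partGroup ⟨hbc.1, hab⟩) (member_le_partGroup ⟨hbc.2.1, hab.tail hbc⟩) hx

omit [FiniteDimensional k M] in
theorem exists_c (h2 : (2 : k) ≠ 0) (hk3 : Nat.card k ≠ 3) : ∃ c : k, c ≠ 0 ∧ c ^ 2 - 1 ≠ 0 := by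
  classical
  have h4 := three_lt_card h2 hk3
  by_contra hall
  push Not at hall
  have hsub : ∀ c : k, c ∈ ({0, 1, -1} : Finset k) := fun c => by
    by_cases hc : c = 0
    · simp [hc]
    · have := mul_eq_zero.mp (show (c - 1) * (c + 1) = 0 by linear_combination hall c hc)
      rcases this with e | e
      · simp [sub_eq_zero.mp e]
      · simp [eq_neg_of_add_eq_zero_left e]
  let fk : Fintype k := ⟨{0, 1, -1}, hsub⟩
  rw [ENat.card_eq_coe_fintype_card] at h4
  have hle : Fintype.card k ≤ 3 := Finset.card_le_three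
  have : (3 : ℕ) < Fintype.card k := by exact_mod_cast h4
  omega

theorem up_one_eq_commutator {A : Type*} [CommRing A] [Algebra k A] {c : k} (hc0 : c ≠ 0)
    (hc1 : c ^ 2 - 1 ≠ 0) : ∃ g h : SL(2, A), up (1 : A) = g * h * g⁻¹ * h⁻¹ := by
  have htt : algebraMap k A c * algebraMap k A c⁻¹ = 1 := by
    rw [← map_mul, mul_inv_cancel₀ hc0, map_one]
  obtain ⟨d, hd00, hd10⟩ : ∃ d : SL(2, A), d 0 0 = algebraMap k A c ∧ d 1 0 = 0 :=
    ⟨⟨!![algebraMap k A c, 0; 0, algebraMap k A c⁻¹],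
      by rw [Matrix.det_fin_two_of, htt]; ring⟩, rfl, rfl⟩
  refine ⟨d, up (algebraMap k A (c ^ 2 - 1)⁻¹), ?_⟩
  rw [upper_conj hd10, up_inv, ← up_add, hd00]
  congr 1
  show (1 : A) = algebraMap k A (c ^ 2 - 1)⁻¹ * algebraMap k A c ^ 2 + -algebraMap k A (c ^ 2 - 1)⁻¹
  rw [← map_pow, ← map_mul, ← map_neg, ← map_add, ← map_one (algebraMap k A)]
  congr 1
  field_simp
  ring

theorem pair_generators_le (h2 : (2 : k) ≠ 0) (hk3 : Nat.card k ≠ 3)
    (hσ : σ ∈ minimalQuadraticElements G) (hτ : τ ∈ minimalQuadraticElements G)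
    (h : TypeTwo G ((σ : E) - 1) ((τ : E) - 1)) :
    (h.hom h2 hk3).range ≤ sameActionSubgroup G σ ⊔ sameActionSubgroup G τ := by
  rw [h.hom_range, Subgroup.closure_le]
  rintro x (⟨c, hc⟩ | ⟨c, hc⟩)
  · exact le_sup_left (b := sameActionSubgroup G τ) ((mem_sameAction_iff hσ).mpr (by
      rw [hc, add_sub_cancel_left]; exact (inCls_self h.min_left.good).smul c))
  · exact le_sup_right (a := sameActionSubgroup G σ) ((mem_sameAction_iff hτ).mpr (by
      rw [hc, add_sub_cancel_left]; exact (inCls_self h.min_right.good).smul c))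

theorem self_mem_commutator (h2 : (2 : k) ≠ 0) (hk3 : Nat.card k ≠ 3)
    (hσ : σ ∈ minimalQuadraticElements G) (hτ : τ ∈ minimalQuadraticElements G)
    (h : TypeTwo G ((σ : E) - 1) ((τ : E) - 1)) :
    σ ∈ ⁅sameActionSubgroup G σ ⊔ sameActionSubgroup G τ,
      sameActionSubgroup G σ ⊔ sameActionSubgroup G τ⁆ := by
  obtain ⟨c, hc0, hc1⟩ := exists_c h2 hk3
  obtain ⟨g, g', he⟩ := up_one_eq_commutator (A := Bring ((σ : E) - 1) ((τ : E) - 1)) hc0 hc1
  have hle := pair_generators_le h2 hk3 hσ hτ h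
  have hup : h.hom h2 hk3 (up 1) = σ := Units.ext (by
    have hh := h.hom_up (h2 := h2) (hk3 := hk3) 1
    simp only [map_one, one_mul, add_sub_cancel] at hh
    exact hh)
  rw [he, map_mul, map_mul, map_mul, map_inv, map_inv] at hup
  have hm := Subgroup.commutator_mem_commutator (hle ⟨g, rfl⟩) (hle ⟨g', rfl⟩)
  rw [commutatorElement_def, hup] at hm
  exact hm

/-- Members lie in the commutator group of a rank one pair they belong to. -/
theorem le_commutator_of_typeTwo (h2 : (2 : k) ≠ 0) (hk3 : Nat.card k ≠ 3)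
    (hσ : σ ∈ minimalQuadraticElements G) (hτ : τ ∈ minimalQuadraticElements G)
    (h : TypeTwo G ((σ : E) - 1) ((τ : E) - 1)) :
    sameActionSubgroup G σ ≤ ⁅sameActionSubgroup G σ ⊔ sameActionSubgroup G τ,
      sameActionSubgroup G σ ⊔ sameActionSubgroup G τ⁆ := by
  intro a ha
  by_cases ha1 : a = 1
  · rw [ha1]; exact one_mem _
  obtain ⟨hmin, heq⟩ := sameAction_congr hσ ha ha1
  have h' : TypeTwo G ((a : E) - 1) ((τ : E) - 1) := h.congr ((mem_sameAction_iff hσ).mp ha)
    (mem_minimal_iff.mp hmin).ne_zero (inCls_self h.min_right.good) h.min_right.ne_zero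
  rw [← heq]
  exact self_mem_commutator h2 hk3 hmin hτ h'

theorem exists_adj (h2 : (2 : k) ≠ 0) (hk3 : Nat.card k ≠ 3) (hG : IsQuadraticPair G)
    {A : Subgroup GL} (hA : A ∈ quadraticRootSubgroups G) :
    ∃ B, FAdj (quadraticRootSubgroups G) A B := by
  obtain ⟨σ, hσ, rfl⟩ := hA
  obtain ⟨τ, hτ, -, h⟩ := exists_rankOne_partner h2 hk3 hG hσ
  exact ⟨_, ⟨σ, hσ, rfl⟩, ⟨τ, hτ, rfl⟩, h⟩

theorem root_le_pair_commutator (h2 : (2 : k) ≠ 0) (hk3 : Nat.card k ≠ 3) (hG : IsQuadraticPair G)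
    {A B : Subgroup GL} (h : FAdj (quadraticRootSubgroups G) A B) : A ≤ ⁅A ⊔ B, A ⊔ B⁆ := by
  obtain ⟨⟨σ, hσ, rfl⟩, ⟨τ, hτ, rfl⟩, hr⟩ := h
  exact le_commutator_of_typeTwo h2 hk3 hσ hτ (typeTwo_of_rankOne h2 hk3 hG hσ hτ hr)

theorem isUnipotentOn_of_commute_family (h2 : (2 : k) ≠ 0) (hk3 : Nat.card k ≠ 3)
    {W : Set (Subgroup GL)} (hW : ∀ B ∈ W, B ∈ quadraticRootSubgroups G)
    (hc : ∀ B ∈ W, ∀ C ∈ W, ⁅B, C⁆ = ⊥) : IsUnipotentOn (⨆ B ∈ W, B) := by
  refine Unipotent.isUnipotentOn_iSup (G := ⨆ B ∈ W, B) (fun B hB => le_iSup_members hB)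
    (fun B hB C hC => ?_) (fun B hB g hg => ?_)
  · obtain ⟨σ, hσ, rfl⟩ := hW B hB
    obtain ⟨τ, hτ, rfl⟩ := hW C hC
    refine isUnipotentOn_sup_classes h2 hk3 hσ hτ ?_
    exact (commute_mul_mul (mem_minimal_iff.mp hσ).good.sq (mem_minimal_iff.mp hτ).good.sq
      (commute_iff_val.mp (comm_of_commutator_eq_bot (hc _ hB _ hC) (self_mem hσ) (self_mem hτ)))).1
  · have hle : (⨆ B ∈ W, B) ≤ Subgroup.centralizer (B : Set GL) := iSup₂_le fun C hC =>
      Subgroup.commutator_eq_bot_iff_le_centralizer.mp (hc C hC B hB)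
    rw [conjBy_of_comm fun b hb => ((Subgroup.mem_centralizer_iff.mp (hle hg)) b hb).symm]
    exact hB

theorem partGroup_conj {A : Subgroup GL} {g : GL} (hg : g ∈ G) :
    conjBy (partGroup G A) g = partGroup G (conjBy A g) := by
  refine le_antisymm ?_ (iSup₂_le fun B hB => ?_)
  · simp only [conjBy, partGroup, Subgroup.map_iSup]
    exact iSup₂_le fun B hB =>
      le_iSup_members (S := part G (conjBy A g)) ⟨conj_root_mem hB.1 hg, reach_conjBy hg hB.2⟩
  · have h1 : conjBy B g⁻¹ ∈ part G A := ⟨conj_root_mem hB.1 (inv_mem hg), by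
      have := reach_conjBy (inv_mem hg) hB.2
      rwa [conjBy_inv_cancel] at this⟩
    rw [← conjBy_cancel B g]
    exact conjBy_mono g (member_le_partGroup h1)

end Cfsg.Agent.Lib.QuadPair
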