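import Cfsg.Agent.Lib.QuadPair.Parts

/-! The group of a component is quasisimple. -/

namespace Cfsg.Agent.Lib.QuadPair

open Polynomial
open Cfsg.Agent.Lib.RootSubgroups
open scoped MatrixGroups

universe u

variable {k : Type u} [Field k] {M : Type u} [AddCommGroup M] [Module k M] [FiniteDimensional k M]
  {G : Subgroup (LinearMap.GeneralLinearGroup k M)}

local notation "E" => (M →ₗ[k] M)
local notation "GL" => LinearMap.GeneralLinearGroup k M

section Abstract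

variable {X : Type*} [Group X]

theorem commutator_mem_of_normal {H Mn B : Subgroup X} (hn : ∀ g ∈ H, ∀ n ∈ Mn, g * n * g⁻¹ ∈ Mn)
    (hB : B ≤ H) (hab : IsMulCommutative B) {m : X} (hm : m ∈ Mn) {b x : X} (hb : b ∈ B)
    (hx : x ∈ B) : x * (m * b * m⁻¹) * x⁻¹ * (m * b * m⁻¹)⁻¹ ∈ Mn := by
  set d := m * b * m⁻¹ * b⁻¹ with hd
  have hdM : d ∈ Mn := by
    rw [hd, show m * b * m⁻¹ * b⁻¹ = m * (b * m⁻¹ * b⁻¹) by group]
    exact mul_mem hm (hn b (hB hb) _ (inv_mem hm))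
  have hxb : Commute x b :=
    congrArg Subtype.val (hab.is_comm.comm (⟨x, hx⟩ : B) ⟨b, hb⟩)
  have e1 : m * b * m⁻¹ = d * b := by rw [hd]; group
  have e : x * (m * b * m⁻¹) * x⁻¹ * (m * b * m⁻¹)⁻¹ = (x * d * x⁻¹) * d⁻¹ := by
    rw [e1]
    calc x * (d * b) * x⁻¹ * (d * b)⁻¹ = x * d * (b * x⁻¹) * b⁻¹ * d⁻¹ := by group
      _ = x * d * (x⁻¹ * b) * b⁻¹ * d⁻¹ := by rw [hxb.inv_left.eq]
      _ = _ := by group
  rw [e]
  exact mul_mem (hn x (hB hx) d hdM) (inv_mem hdM)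

theorem commutator_le_of_supplement {D B Y : Subgroup X} (hBY : B ≤ Y)
    (hn : ∀ g ∈ Y, ∀ n ∈ D, g * n * g⁻¹ ∈ D) (hs : D ⊔ B = Y) (hab : IsMulCommutative B) :
    ⁅Y, Y⁆ ≤ D := by
  rw [Subgroup.commutator_le]
  intro x hx y hy
  have hnz : B ≤ Subgroup.normalizer (D : Set X) := fun g hg => by
    rw [Subgroup.mem_normalizer_iff]
    intro n
    refine ⟨hn g (hBY hg) n, fun h => ?_⟩
    have := hn g⁻¹ (inv_mem (hBY hg)) _ h
    simpa [mul_assoc] using this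
  have hdec : ∀ z ∈ Y, ∃ n ∈ D, ∃ b ∈ B, z = n * b := fun z hz => by
    rw [← hs, ← SetLike.mem_coe, Subgroup.coe_mul_of_right_le_normalizer_left D B hnz] at hz
    obtain ⟨n, h1, b, hb, rfl⟩ := hz
    exact ⟨n, h1, b, hb, rfl⟩
  obtain ⟨n1, h1, b1, g1, rfl⟩ := hdec x hx
  obtain ⟨n2, h2, b2, g2, rfl⟩ := hdec y hy
  have hbb : b1 * b2 = b2 * b1 :=
    congrArg Subtype.val (hab.is_comm.comm (⟨b1, g1⟩ : B) ⟨b2, g2⟩)
  have e : n1 * b1 * (n2 * b2) * (n1 * b1)⁻¹ * (n2 * b2)⁻¹ =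
      n1 * (b1 * n2 * b1⁻¹) * (b2 * n1⁻¹ * b2⁻¹) * n2⁻¹ := by
    calc n1 * b1 * (n2 * b2) * (n1 * b1)⁻¹ * (n2 * b2)⁻¹
        = n1 * (b1 * n2 * b1⁻¹) * (b1 * b2 * b1⁻¹) * n1⁻¹ * b2⁻¹ * n2⁻¹ := by group
      _ = n1 * (b1 * n2 * b1⁻¹) * b2 * n1⁻¹ * b2⁻¹ * n2⁻¹ := by rw [hbb, mul_inv_cancel_right]
      _ = _ := by group
  rw [commutatorElement_def, e]
  exact mul_mem (mul_mem (mul_mem h1 (hn b1 (hBY g1) n2 h2))
    (hn b2 (hBY g2) _ (inv_mem h1))) (inv_mem h2)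

end Abstract

variable {σ τ : LinearMap.GeneralLinearGroup k M}

theorem commutator_not_commute (h2 : (2 : k) ≠ 0) (h : TypeTwo G ((σ : E) - 1) ((τ : E) - 1)) :
    ¬ (σ * τ * σ⁻¹ * τ⁻¹) * σ = σ * (σ * τ * σ⁻¹ * τ⁻¹) := by
  intro hdc
  apply h.ne_zero
  refine mul_mul_zero_of_nilpotent h2 h.min_left 2 _ h.min_right ?_
  have h1 : Commute σ (τ * σ⁻¹ * τ⁻¹) := by
    show σ * _ = _ * σ
    apply mul_left_cancel (a := σ)
    simpa [mul_assoc] using hdc.symm
  have h3 : Commute σ (τ * σ * τ⁻¹) := by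
    have := h1.inv_right
    rwa [mul_inv_rev, mul_inv_rev, inv_inv, inv_inv, ← mul_assoc] at this
  have h4 := commute_iff_val.mp h3.eq
  have hv : cj τ ((σ : E) - 1) =
      (1 + ((τ : E) - 1)) * ((σ : E) - 1) * (1 - ((τ : E) - 1)) := by
    rw [cj, val_inv_of_sq h.min_right.good.sq, add_sub_cancel]
  rw [val_conj_sub_one, hv] at h4
  have hN1 := h.min_left.conj h.min_right.good
  obtain ⟨hz, -⟩ := commute_mul_mul h.min_left.good.sq hN1.good.sq h4
  have h5 := conj_identity (k := k) h.min_left.good.sq h.min_right.good.sq 1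
  rw [pow_one, pow_one, mul_one, ← mul_assoc, hz] at h5
  simpa using h5.symm

theorem le_of_normal_typeTwo (h2 : (2 : k) ≠ 0) (hk3 : Nat.card k ≠ 3)
    (hσ : σ ∈ minimalQuadraticElements G) (hτ : τ ∈ minimalQuadraticElements G)
    (h : TypeTwo G ((σ : E) - 1) ((τ : E) - 1)) {D : Subgroup GL}
    (hDX : D ≤ sameActionSubgroup G σ ⊔ sameActionSubgroup G τ)
    (hn : ∀ g ∈ sameActionSubgroup G σ ⊔ sameActionSubgroup G τ, ∀ n ∈ D, g * n * g⁻¹ ∈ D)
    (hd : σ * τ * σ⁻¹ * τ⁻¹ ∈ D) : sameActionSubgroup G σ ≤ D := by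
  rcases RankOne.central_or_supplement (special_of_typeTwo h2 hk3 hσ hτ h).1 hDX hn with hs | hs
  · exact absurd (hs _ hd σ (le_sup_left (b := sameActionSubgroup G τ) (self_mem hσ)))
      (commutator_not_commute h2 h)
  · exact (le_commutator_of_typeTwo h2 hk3 hσ hτ h).trans
      (commutator_le_of_supplement le_sup_left hn hs (isMulCommutative_sameAction hσ))

theorem conj_commute_of_normal (h2 : (2 : k) ≠ 0) (hk3 : Nat.card k ≠ 3) (hG : IsQuadraticPair G)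
    {A Mn : Subgroup GL} (hMn : Mn ≤ partGroup G A)
    (hnorm : ∀ g ∈ partGroup G A, ∀ m ∈ Mn, g * m * g⁻¹ ∈ Mn)
    (hbig : ∀ B ∈ part G A, ¬ B ≤ Mn) {B : Subgroup GL} (hB : B ∈ part G A) {m : GL} (hm : m ∈ Mn) :
    ⁅B, conjBy B m⁆ = ⊥ := by
  have hmG : m ∈ G := partGroup_le A (hMn hm)
  have hBm : conjBy B m ∈ part G A := part_conj_mem h2 hk3 hG (hMn hm) B hB
  obtain ⟨σ, hσ, rfl⟩ := hB.1
  have hconj := sameAction_conj hσ hmG
  have hmem := fun (b : GL) hb (x : GL) hx => commutator_mem_of_normal hnorm (member_le_partGroup hB)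
    (isMulCommutative_sameAction hσ) hm (b := b) (x := x) hb hx
  rw [hconj] at hBm ⊢
  rcases pair_cases h2 hk3 hσ (minimal_conj hσ hmG) with h | h | h
  · exact h
  · exfalso
    set B' := sameActionSubgroup G (m * σ * m⁻¹)
    have hle : sameActionSubgroup G σ ⊔ B' ≤ partGroup G A :=
      sup_le (member_le_partGroup hB) (member_le_partGroup hBm)
    have hσX : σ ∈ sameActionSubgroup G σ ⊔ B' := le_sup_left (b := B') (self_mem hσ)
    have hτX : m * σ * m⁻¹ ∈ sameActionSubgroup G σ ⊔ B' :=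
      le_sup_right (a := sameActionSubgroup G σ) (self_mem (minimal_conj hσ hmG))
    have hle2 := le_of_normal_typeTwo h2 hk3 hσ (minimal_conj hσ hmG) h
      (D := Mn ⊓ (sameActionSubgroup G σ ⊔ B')) inf_le_right
      (fun g hg n hn => Subgroup.mem_inf.mpr ⟨hnorm g (hle hg) n (Subgroup.mem_inf.mp hn).1,
        mul_mem (mul_mem hg (Subgroup.mem_inf.mp hn).2) (inv_mem hg)⟩)
      (Subgroup.mem_inf.mpr ⟨hmem σ (self_mem hσ) σ (self_mem hσ),
        mul_mem (mul_mem (mul_mem hσX hτX) (inv_mem hσX)) (inv_mem hτX)⟩)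
    exact hbig _ hB (hle2.trans inf_le_left)
  · exfalso
    obtain ⟨r1, -, -, -, -, -⟩ := main_skew h2 hk3 hG hσ (minimal_conj hσ hmG) h
    have hC := reach_commutator h2 hk3 hG hσ (minimal_conj hσ hmG) h
    apply hbig _ ⟨r1, hBm.2.trans hC⟩
    rw [Subgroup.commutator_le]
    intro x hx y hy
    rw [← hconj] at hy
    obtain ⟨b, hb, rfl⟩ := hy
    rw [commutatorElement_def]
    exact hmem b hb x hx

theorem isUnipotentOn_conjBy {T : Subgroup GL} (hTu : IsUnipotentOn T) (g : GL) :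
    IsUnipotentOn (conjBy T g) := by
  obtain ⟨n, hn⟩ := hTu
  refine ⟨n, fun l hl hlen => ?_⟩
  have hz := hn (l.map fun x => g⁻¹ * x * g) (by
    intro x hx
    obtain ⟨y, hy, rfl⟩ := List.mem_map.mp hx
    exact mem_conjBy.mp (hl y hy)) (by simpa using hlen)
  simp only [List.bind_eq_flatMap, List.pure_def, List.map_flatMap, ← List.map_eq_flatMap,
    List.map_map, Function.comp_def] at hz ⊢
  have key : ∀ l : List GL, (l.map fun x : GL => ((g⁻¹ * x * g : GL) : E) - 1).prod =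
      cj g⁻¹ ((l.map fun x : GL => (x : E) - 1).prod) := by
    intro l
    induction l with
    | nil => simp [cj]
    | cons x l ih =>
      simp only [List.map_cons, List.prod_cons, ih, ← cj_mul]
      congr 1
      simpa using val_conj_sub_one (k := k) g⁻¹ x
  have hz' : (l.map fun x : GL => ((g⁻¹ * x * g : GL) : E) - 1).prod = 0 := by simpa using hz
  rw [key] at hz'
  have := congrArg (cj g) hz'
  rw [show ∀ X : E, cj g (cj g⁻¹ X) = X from fun X => by
    simpa using cj_inv_cj g⁻¹ X] at this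
  simpa [cj] using this

/-- A unipotent normal subgroup of a component group is trivial. -/
theorem part_radical_eq_bot (h2 : (2 : k) ≠ 0) (hk3 : Nat.card k ≠ 3) (hG : IsQuadraticPair G)
    {A T : Subgroup GL} (hTH : T ≤ partGroup G A) (hTn : ∀ g ∈ partGroup G A, conjBy T g ≤ T)
    (hTu : IsUnipotentOn T) : T = ⊥ := by
  set W2 : Set (Subgroup GL) := (fun g : GL => conjBy T g) '' (G : Set GL)
  have hW2u : IsUnipotentOn (⨆ C ∈ W2, C) := by
    refine Unipotent.isUnipotentOn_iSup (G := G) (W := W2) ?_ ?_ ?_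
    · rintro _ ⟨g, hg, rfl⟩
      exact conjBy_le_of_mem (hTH.trans (partGroup_le A)) hg
    · rintro _ ⟨g, hg, rfl⟩ _ ⟨g', hg', rfl⟩
      refine Unipotent.isUnipotentOn_sup (isUnipotentOn_conjBy hTu g) (isUnipotentOn_conjBy hTu g') ?_
      intro y hy x hx
      have hxH : x ∈ partGroup G (conjBy A g) := partGroup_conj (A := A) hg ▸ conjBy_mono g hTH hx
      have hyH : y ∈ partGroup G (conjBy A g') := partGroup_conj (A := A) hg' ▸ conjBy_mono g' hTH hy
      by_cases hp : part G (conjBy A g') = part G (conjBy A g)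
      · have hyH' : y ∈ conjBy (partGroup G A) g := by
          rw [partGroup_conj hg, partGroup, ← hp]; exact hyH
        obtain ⟨y0, hy0, rfl⟩ := hyH'
        obtain ⟨x0, hx0, rfl⟩ := hx
        exact ⟨y0 * x0 * y0⁻¹, hTn y0 hy0 ⟨x0, hx0, rfl⟩, by simp [mul_assoc]⟩
      · have := comm_of_commutator_eq_bot (commute_parts h2 hk3 hG hp) hyH hxH
        rwa [this, mul_inv_cancel_right]
    · rintro _ ⟨g, hg, rfl⟩ g' hg'
      exact ⟨g' * g, mul_mem hg' hg, (conjBy_conjBy T g g').symm⟩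
  have hbot : (⨆ C ∈ W2, C) = ⊥ := by
    refine eq_bot_of_unipotent hG.1 hW2u ?_ (iSup₂_le ?_)
    · intro g hg x hx
      have hle : conjBy (⨆ C ∈ W2, C) g ≤ ⨆ C ∈ W2, C := by
        simp only [conjBy, Subgroup.map_iSup]
        refine iSup₂_le ?_
        rintro _ ⟨g', hg', rfl⟩
        exact le_trans (le_of_eq (conjBy_conjBy T g' g))
          (le_biSup (fun C => C) ⟨g * g', mul_mem hg hg', rfl⟩)
      exact hle ⟨x, hx, rfl⟩
    · rintro _ ⟨g, hg, rfl⟩
      exact conjBy_le_of_mem (hTH.trans (partGroup_le A)) hg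
  exact le_bot_iff.mp (hbot ▸ le_trans (le_of_eq (conjBy_one T).symm)
    (le_biSup (fun C => C) ⟨1, one_mem G, rfl⟩))

theorem central_of_commute (h2 : (2 : k) ≠ 0) (hk3 : Nat.card k ≠ 3) (hG : IsQuadraticPair G)
    {A Mn : Subgroup GL} (hMn : Mn ≤ partGroup G A)
    (hnorm : ∀ g ∈ partGroup G A, ∀ m ∈ Mn, g * m * g⁻¹ ∈ Mn)
    (hcomm : ∀ B ∈ part G A, ∀ m ∈ Mn, ⁅B, conjBy B m⁆ = ⊥) :
    ∀ B ∈ part G A, ∀ b ∈ B, ∀ m ∈ Mn, m * b = b * m := by
  let U : Subgroup GL → Subgroup GL := fun B => ⨆ C ∈ (fun m : GL => conjBy B m) '' (Mn : Set GL), C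
  let V : Subgroup GL → Subgroup GL := fun B => U B ⊓ Mn
  have hUu : ∀ B ∈ part G A, IsUnipotentOn (U B) := by
    intro B hB
    refine isUnipotentOn_of_commute_family (G := G) h2 hk3 ?_ ?_
    · rintro _ ⟨m, hm, rfl⟩; exact conj_root_mem hB.1 (partGroup_le A (hMn hm))
    · rintro _ ⟨m, hm, rfl⟩ _ ⟨n, hn, rfl⟩
      have := congrArg (fun S : Subgroup GL => conjBy S m) (hcomm B hB (m⁻¹ * n) (mul_mem (inv_mem hm) hn))
      simpa only [conjBy_commutator, conjBy_bot, conjBy_conjBy, mul_inv_cancel_left] using this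
  have hUc : ∀ B, ∀ g ∈ partGroup G A, conjBy (U B) g ≤ U (conjBy B g) := by
    intro B g hg
    simp only [U, conjBy, Subgroup.map_iSup]
    refine iSup₂_le ?_
    rintro _ ⟨m, hm, rfl⟩
    refine le_trans (le_of_eq ?_) (le_biSup (fun C => C) ⟨g * m * g⁻¹, hnorm g hg m hm, rfl⟩)
    show conjBy (conjBy B m) g = conjBy (conjBy B g) (g * m * g⁻¹)
    rw [conjBy_conjBy, conjBy_conjBy, inv_mul_cancel_right]
  have hUm : ∀ B, ∀ n ∈ Mn, conjBy (U B) n ≤ U B := by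
    intro B n hn
    simp only [U, conjBy, Subgroup.map_iSup]
    refine iSup₂_le ?_
    rintro _ ⟨m, hm, rfl⟩
    refine le_trans (le_of_eq ?_) (le_biSup (fun C => C) ⟨n * m, mul_mem hn hm, rfl⟩)
    exact conjBy_conjBy B m n
  set T : Subgroup GL := ⨆ C ∈ V '' part G A, C with hT
  have hTu : IsUnipotentOn T := by
    refine Unipotent.isUnipotentOn_iSup (G := Mn) (W := V '' part G A) ?_ ?_ ?_
    · rintro _ ⟨B, -, rfl⟩; exact inf_le_right
    · rintro _ ⟨B, hB, rfl⟩ _ ⟨C, hC, rfl⟩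
      refine Unipotent.isUnipotentOn_sup (Unipotent.isUnipotentOn_mono inf_le_left (hUu B hB))
        (Unipotent.isUnipotentOn_mono inf_le_left (hUu C hC)) ?_
      intro g hg x hx
      obtain ⟨-, hg2⟩ := Subgroup.mem_inf.mp hg
      obtain ⟨hx1, hx2⟩ := Subgroup.mem_inf.mp hx
      exact Subgroup.mem_inf.mpr ⟨hUm B g hg2 ⟨x, hx1, rfl⟩, mul_mem (mul_mem hg2 hx2) (inv_mem hg2)⟩
    · rintro _ ⟨B, hB, rfl⟩ n hn
      refine ⟨B, hB, ?_⟩
      have h1 : ∀ n ∈ Mn, conjBy (V B) n ≤ V B := fun n hn => by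
        rintro _ ⟨x, hx, rfl⟩
        obtain ⟨hx1, hx2⟩ := Subgroup.mem_inf.mp hx
        exact Subgroup.mem_inf.mpr ⟨hUm B n hn ⟨x, hx1, rfl⟩, mul_mem (mul_mem hn hx2) (inv_mem hn)⟩
      refine (le_antisymm (h1 n hn) ?_).symm
      have := conjBy_mono n (h1 n⁻¹ (inv_mem hn))
      rwa [conjBy_cancel] at this
  have hTH : T ≤ partGroup G A := iSup₂_le fun C ⟨B, _, e⟩ => e ▸ inf_le_right.trans hMn
  have hTn : ∀ g ∈ partGroup G A, conjBy T g ≤ T := by
    intro g hg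
    simp only [hT, conjBy, Subgroup.map_iSup]
    refine iSup₂_le ?_
    rintro _ ⟨B, hB, rfl⟩
    refine le_trans ?_ (le_biSup (fun C => C) ⟨conjBy B g, part_conj_mem h2 hk3 hG hg B hB, rfl⟩)
    rintro _ ⟨x, hx, rfl⟩
    exact ⟨hUc B g hg ⟨x, hx.1, rfl⟩, hnorm g hg x hx.2⟩
  have hT0 : T = ⊥ := part_radical_eq_bot h2 hk3 hG hTH hTn hTu
  intro B hB b hb m hm
  have hd : m * b * m⁻¹ * b⁻¹ ∈ V B := by
    have hmemU : ∀ n ∈ Mn, conjBy B n ≤ U B := fun n hn =>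
      le_biSup (fun C : Subgroup GL => C) (show conjBy B n ∈ _ from Set.mem_image_of_mem _ hn)
    refine Subgroup.mem_inf.mpr ⟨mul_mem (hmemU m hm ⟨b, hb, rfl⟩)
      (inv_mem (hmemU 1 (one_mem _) (by rw [conjBy_one]; exact hb))), ?_⟩
    · rw [show m * b * m⁻¹ * b⁻¹ = m * (b * m⁻¹ * b⁻¹) by group]
      exact mul_mem hm (hnorm b (member_le_partGroup hB hb) _ (inv_mem hm))
  have : m * b * m⁻¹ * b⁻¹ ∈ T := le_biSup (fun C : Subgroup GL => C) (show V B ∈ V '' part G A from Set.mem_image_of_mem _ hB) hd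
  rw [hT0, Subgroup.mem_bot, mul_inv_eq_one, mul_inv_eq_iff_eq_mul] at this
  exact this

/-- The group of a component is quasisimple. -/
theorem part_isQuasisimple (h2 : (2 : k) ≠ 0) (hk3 : Nat.card k ≠ 3) (hG : IsQuadraticPair G)
    {A : Subgroup GL} (hA : A ∈ quadraticRootSubgroups G) : IsQuasisimple ↥(partGroup G A) := by
  set H := partGroup G A with hH
  have hAp : A ∈ part G A := ⟨hA, .refl⟩
  have hadj : ∀ B ∈ part G A, ∃ C, FAdj (quadraticRootSubgroups G) B C ∧ B ⊔ C ≤ H := by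
    intro B hB
    obtain ⟨C, hC⟩ := exists_adj h2 hk3 hG hB.1
    exact ⟨C, hC, sup_le (member_le_partGroup hB) (member_le_partGroup ⟨hC.2.1, hB.2.tail hC⟩)⟩
  have hperf : ⁅H, H⁆ = H := by
    refine le_antisymm (Subgroup.commutator_le_self H) (iSup₂_le fun B hB => ?_)
    obtain ⟨C, hC, hle⟩ := hadj B hB
    exact (root_le_pair_commutator h2 hk3 hG hC).trans (Subgroup.commutator_mono hle hle)
  have hne : H ≠ ⊥ := by
    intro e
    obtain ⟨σ, hσ, rfl⟩ := hA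
    have := member_le_partGroup hAp (self_mem hσ)
    rw [← hH, e, Subgroup.mem_bot] at this
    exact ne_one_of_minimal hσ this
  refine isQuasisimple_of_dichotomy hperf hne fun Mn hMn hnorm => ?_
  by_cases hbig : ∃ B ∈ part G A, B ≤ Mn
  · obtain ⟨B, hB, hBM⟩ := hbig
    refine Or.inr (le_antisymm hMn (iSup₂_le fun C hC => ?_))
    have hCB : C ∈ part G B := ⟨hC.1, (Root.reach_symm hB.2).trans hC.2⟩
    obtain ⟨g, hg, rfl⟩ := part_isConjClass h2 hk3 hG hCB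
    have hgH : g ∈ H := by
      rw [hH, partGroup, show part G A = part G B from Root.componentOf_eq hB.2]; exact hg
    rintro _ ⟨x, hx, rfl⟩
    exact hnorm g hgH x (hBM hx)
  left
  push Not at hbig
  have hc := central_of_commute h2 hk3 hG hMn hnorm
    (fun B hB m hm => conj_commute_of_normal h2 hk3 hG hMn hnorm hbig hB hm)
  intro m hm y hy
  have hle : H ≤ Subgroup.centralizer {m} := iSup₂_le fun B hB b hb =>
    Subgroup.mem_centralizer_singleton_iff.mpr (hc B hB b hb m hm).symm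
  exact (Subgroup.mem_centralizer_singleton_iff.mp (hle hy)).symm

end Cfsg.Agent.Lib.QuadPair
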