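import Cfsg.Agent.Lib.QuadPair.Kill
import Cfsg.Agent.Lib.QuadPair.Peel

/-! Every quadratic element is a product of minimal ones and of one centralizing all of them. -/

namespace Cfsg.Agent.Lib.QuadPair

universe u

variable {k : Type u} [Field k] {M : Type u} [AddCommGroup M] [Module k M] [FiniteDimensional k M]
  {G : Subgroup (LinearMap.GeneralLinearGroup k M)}

local notation "E" => (M →ₗ[k] M)
local notation "GL" => LinearMap.GeneralLinearGroup k M

/-- A quadratic element meeting no minimal sandwich centralizes the root subgroups. -/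
theorem mem_centralizer_of_kill (h2 : (2 : k) ≠ 0) (hk3 : Nat.card k ≠ 3) (hG : IsQuadraticPair G)
    {g : GL} (hN : Good G ((g : E) - 1)) (hK : Kill G ((g : E) - 1)) :
    g ∈ Subgroup.centralizer
      ((⨆ A ∈ quadraticRootSubgroups G, A : Subgroup GL) : Set GL) := by
  have hle : (⨆ A ∈ quadraticRootSubgroups G, A : Subgroup GL) ≤ Subgroup.centralizer {g} := by
    refine iSup₂_le ?_
    rintro A ⟨σ, hσ, rfl⟩ x hx
    rw [Subgroup.mem_centralizer_singleton_iff]
    by_cases hx1 : x = 1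
    · rw [hx1, mul_one, one_mul]
    refine (commute_iff_val.mpr ?_).symm
    exact commute_of_kill h2 hk3 hG hN hK
      (mem_minimal_iff.mp (sameAction_congr hσ hx hx1).1)
  exact Subgroup.mem_centralizer_iff.mpr fun x hx =>
    Subgroup.mem_centralizer_singleton_iff.mp (hle hx)

theorem exists_peel_unit (h2 : (2 : k) ≠ 0) (hk3 : Nat.card k ≠ 3) {g : GL} (hg : g ∈ G)
    (hN : Good G ((g : E) - 1)) {P : E} (hP : IsMin G P)
    (h : P * ((g : E) - 1) * P ≠ 0) :
    ∃ x y : GL, x ∈ minimalQuadraticElements G ∧ y ∈ G ∧ g = x * y ∧ Good G ((y : E) - 1) ∧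
      rk ((y : E) - 1) < rk ((g : E) - 1) := by
  obtain ⟨X, hX, hXN, hgood, hlt⟩ := exists_peel h2 hk3 hN hP h
  obtain ⟨x, hx, hxe⟩ := hX.good.exists_unit
  have hxv : (x : E) = 1 + X := by rw [← hxe, add_sub_cancel]
  have hy : ((x⁻¹ * g : GL) : E) - 1 = (g : E) - 1 - X := by
    rw [Units.val_mul, val_inv_of_sq (by rw [hxe]; exact hX.good.sq), hxv, add_sub_cancel_left,
      show (g : E) = 1 + ((g : E) - 1) by rw [add_sub_cancel]]
    simp only [sub_mul, mul_add, mul_one, one_mul, add_sub_cancel_left, hXN, add_zero]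
    abel
  refine ⟨x, x⁻¹ * g, mem_minimal_iff.mpr (by rw [hxe]; exact hX), mul_mem (inv_mem hx) hg,
    by rw [mul_inv_cancel_left], by rw [hy]; exact hgood, by rw [hy]; exact hlt⟩

theorem mem_product (h2 : (2 : k) ≠ 0) (hk3 : Nat.card k ≠ 3) (hG : IsQuadraticPair G)
    (n : ℕ) : ∀ g : GL, g ∈ G → Good G ((g : E) - 1) → rk ((g : E) - 1) ≤ n →
      g ∈ (⨆ A ∈ quadraticRootSubgroups G, A : Subgroup GL) ⊔
        (G ⊓ Subgroup.centralizer
          ((⨆ A ∈ quadraticRootSubgroups G, A : Subgroup GL) : Set GL)) := by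
  induction n using Nat.strong_induction_on with
  | _ n ih =>
    intro g hg hN hn
    by_cases hK : Kill G ((g : E) - 1)
    · exact Subgroup.mem_sup_right
        (Subgroup.mem_inf.mpr ⟨hg, mem_centralizer_of_kill h2 hk3 hG hN hK⟩)
    simp only [Kill, not_forall] at hK
    obtain ⟨P, hP, h⟩ := hK
    obtain ⟨x, y, hx, hy, he, hgy, hlt⟩ := exists_peel_unit h2 hk3 hg hN hP h
    rw [he]
    exact mul_mem (Subgroup.mem_sup_left
        (le_biSup (fun A : Subgroup GL => A) (show sameActionSubgroup G x ∈ quadraticRootSubgroups G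
          from ⟨x, hx, rfl⟩) (self_mem hx)))
      (ih _ (lt_of_lt_of_le hlt hn) y hy hgy le_rfl)

/-- The group is the product of the root part and its centralizer. -/
theorem product_eq (h2 : (2 : k) ≠ 0) (hk3 : Nat.card k ≠ 3) (hG : IsQuadraticPair G) :
    (⨆ A ∈ quadraticRootSubgroups G, A : Subgroup GL) ⊔ (G ⊓ Subgroup.centralizer
      ((⨆ A ∈ quadraticRootSubgroups G, A : Subgroup GL) : Set GL)) = G := by
  refine le_antisymm (sup_le (iSup₂_le fun A hA => root_le hA) inf_le_left) ?_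
  refine (le_of_eq hG.2.symm).trans ((Subgroup.closure_le _).mpr fun g hg => ?_)
  exact mem_product h2 hk3 hG _ g hg.1 (mem_quadratic_iff.mp hg).1 le_rfl

end Cfsg.Agent.Lib.QuadPair
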