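import Cfsg.Agent.Lib.QuadPair.Groups

/-! Pairs of the second type give special rank one groups with their central involution. -/

namespace Cfsg.Agent.Lib.QuadPair

open Polynomial
open Cfsg.Agent.Lib.RootSubgroups
open scoped MatrixGroups

variable {k : Type*} [Field k] {M : Type*} [AddCommGroup M] [Module k M] [FiniteDimensional k M]
  {G : Subgroup (LinearMap.GeneralLinearGroup k M)}

local notation "E" => (M →ₗ[k] M)

variable {σ τ : LinearMap.GeneralLinearGroup k M}

theorem val_conj_sub_one (g x : LinearMap.GeneralLinearGroup k M) :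
    ((g * x * g⁻¹ : LinearMap.GeneralLinearGroup k M) : E) - 1 = cj g ((x : E) - 1) := by
  simp [cj, mul_sub, sub_mul]

theorem minimal_conj (hσ : σ ∈ minimalQuadraticElements G) {g : LinearMap.GeneralLinearGroup k M}
    (hg : g ∈ G) : g * σ * g⁻¹ ∈ minimalQuadraticElements G := by
  rw [mem_minimal_iff, val_conj_sub_one]
  exact (mem_minimal_iff.mp hσ).cj hg

theorem conjBy_eq (hσ : σ ∈ minimalQuadraticElements G) (hτ : τ ∈ minimalQuadraticElements G)
    {g : LinearMap.GeneralLinearGroup k M} (hg : g ∈ G)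
    (hc : InCls G ((τ : E) - 1) (cj g ((σ : E) - 1))) :
    conjBy (sameActionSubgroup G σ) g = sameActionSubgroup G τ := by
  have hP := mem_minimal_iff.mp hτ
  have hs := hc.sameAct hP ((mem_minimal_iff.mp hσ).cj hg).ne_zero
  apply le_antisymm
  · rintro _ ⟨x, hx, rfl⟩
    rw [mem_sameAction_iff hτ]
    show InCls G _ (((g * x * g⁻¹ : LinearMap.GeneralLinearGroup k M) : E) - 1)
    rw [val_conj_sub_one]
    exact (((mem_sameAction_iff hσ).mp hx).cj hg).trans_sameAct hs
  · intro y hy
    refine ⟨g⁻¹ * y * g, ?_, by simp [mul_assoc]⟩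
    rw [SetLike.mem_coe, mem_sameAction_iff hσ]
    have h1 := (((mem_sameAction_iff hτ).mp hy).trans_sameAct ⟨hs.1.symm, hs.2.symm⟩).cj (inv_mem hg)
    rw [cj_inv_cj, ← val_conj_sub_one, inv_inv] at h1
    exact h1

theorem sameAction_conj (hσ : σ ∈ minimalQuadraticElements G)
    {g : LinearMap.GeneralLinearGroup k M} (hg : g ∈ G) :
    conjBy (sameActionSubgroup G σ) g = sameActionSubgroup G (g * σ * g⁻¹) :=
  conjBy_eq hσ (minimal_conj hσ hg) hg (by
    rw [val_conj_sub_one]; exact inCls_self ((mem_minimal_iff.mp hσ).cj hg).good)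

theorem self_mem (hσ : σ ∈ minimalQuadraticElements G) : σ ∈ sameActionSubgroup G σ :=
  (mem_sameAction_iff hσ).mpr (inCls_self (mem_minimal_iff.mp hσ).good)

theorem ne_one_of_minimal (hσ : σ ∈ minimalQuadraticElements G) : σ ≠ 1 := by
  rintro rfl; exact (mem_minimal_iff.mp hσ).ne_zero (sub_self _)

theorem isMulCommutative_sameAction (hσ : σ ∈ minimalQuadraticElements G) :
    IsMulCommutative (sameActionSubgroup G σ) := by
  refine ⟨⟨fun a b => Subtype.ext (commute_iff_val.mpr ?_)⟩⟩
  have hsq := (mem_minimal_iff.mp hσ).good.sq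
  rw [((mem_sameAction_iff hσ).mp a.2).mul_eq_zero hsq ((mem_sameAction_iff hσ).mp b.2),
    ((mem_sameAction_iff hσ).mp b.2).mul_eq_zero hsq ((mem_sameAction_iff hσ).mp a.2)]

omit [FiniteDimensional k M] in
theorem sl2_identity {A : Type*} [CommRing A] :
    low (-1 : A) * up 1 * low 1 = up (-1) * low (-1) * up 1 := by
  apply ext2 <;> simp [Matrix.mul_apply, Fin.sum_univ_two] <;> ring

/-- Polynomial multiples stay in the classes. -/
theorem TypeTwo.inCls_right (h2 : (2 : k) ≠ 0) (hk3 : Nat.card k ≠ 3) {N P : E}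
    (h : TypeTwo G N P) (q : k[X]) : InCls G P (aeval (cu N P) q * P) := by
  refine ⟨⟨?_, fun c => mem_vals.mpr ⟨_, h.hom_mem (h2 := h2) (hk3 := hk3)
    (low (proj N P (X * (C c * q)))), ?_⟩⟩, ?_, ?_⟩
  · rw [mul_assoc, ← mul_assoc P, ← aeval_comm_right h.min_right.good.sq, mul_assoc,
      h.min_right.good.sq, mul_zero, mul_zero]
  · rw [h.hom_low, map_mul, aeval_C, mul_assoc, Algebra.smul_def]
  · rw [aeval_comm_right h.min_right.good.sq]; exact LinearMap.range_comp_le_range _ P
  · intro m hm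
    rw [LinearMap.mem_ker, Module.End.mul_apply, LinearMap.mem_ker.mp hm, map_zero]

theorem TypeTwo.inCls_left (h2 : (2 : k) ≠ 0) (hk3 : Nat.card k ≠ 3) {N P : E}
    (h : TypeTwo G N P) (q : k[X]) : InCls G N (aeval (cu N P) q * N) := by
  have := h.symm.inCls_right h2 hk3 q
  rwa [cu_comm_symm] at this

theorem sameAction_congr (hσ : σ ∈ minimalQuadraticElements G)
    {a : LinearMap.GeneralLinearGroup k M} (ha : a ∈ sameActionSubgroup G σ) (ha1 : a ≠ 1) :
    a ∈ minimalQuadraticElements G ∧ sameActionSubgroup G a = sameActionSubgroup G σ := by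
  have hN := mem_minimal_iff.mp hσ
  have ha' := (mem_sameAction_iff hσ).mp ha
  have ha0 : (a : E) - 1 ≠ 0 := fun z => ha1 (Units.ext (sub_eq_zero.mp z))
  have hs := ha'.sameAct hN ha0
  have hmin : a ∈ minimalQuadraticElements G := mem_minimal_iff.mpr (ha'.isMin hN ha0)
  refine ⟨hmin, ?_⟩
  ext x
  rw [mem_sameAction_iff hσ, mem_sameAction_iff hmin]
  exact ⟨fun h => h.trans_sameAct hs, fun h => h.trans_sameAct ⟨hs.1.symm, hs.2.symm⟩⟩

/-- The elementary element swapping the classes. -/
theorem exists_swap (h2 : (2 : k) ≠ 0) (hk3 : Nat.card k ≠ 3)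
    (hσ : σ ∈ minimalQuadraticElements G) (hτ : τ ∈ minimalQuadraticElements G)
    (h : TypeTwo G ((σ : E) - 1) ((τ : E) - 1)) :
    ∃ b ∈ sameActionSubgroup G τ, b ≠ 1 ∧
      conjBy (sameActionSubgroup G σ) b⁻¹ = conjBy (sameActionSubgroup G τ) σ⁻¹ ∧
      b⁻¹ * σ * b = σ⁻¹ * b⁻¹ * σ := by
  obtain ⟨v, hv⟩ := h.isUnit_X.exists_right_inv
  obtain ⟨q, rfl⟩ := proj_surjective v
  set N := (σ : E) - 1 with hNdef
  set P := (τ : E) - 1 with hPdef
  set Φ := h.hom h2 hk3
  have hq1 : proj N P (X * q) = 1 := (map_mul _ _ _).trans hv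
  have hσΦ : Φ (up 1) = σ := Units.ext (by
    have := h.hom_up (h2 := h2) (hk3 := hk3) 1
    rw [map_one, map_one, one_mul] at this
    rw [this, hNdef, add_sub_cancel])
  have hbv := h.hom_low (h2 := h2) (hk3 := hk3) q
  rw [hq1] at hbv
  set b := Φ (low 1) with hb
  have hbm : b ∈ sameActionSubgroup G τ := by
    rw [mem_sameAction_iff hτ, hbv, add_sub_cancel_left]
    exact h.inCls_right h2 hk3 q
  have hid : b⁻¹ * σ * b = σ⁻¹ * b⁻¹ * σ := by
    rw [hb, ← hσΦ]
    simp only [← map_inv, ← map_mul, low_inv, up_inv]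
    rw [sl2_identity]
  refine ⟨b, hbm, ?_, ?_, hid⟩
  · intro hb1
    rw [hb1] at hid
    have : σ * 1 = σ⁻¹ * σ := by simpa using hid
    rw [mul_one, inv_mul_cancel] at this
    exact ne_one_of_minimal hσ this
  · -- `σ b⁻¹ σ` maps the first class onto the second
    have hgG : σ * b⁻¹ ∈ G :=
      mul_mem hσ.1.1 (inv_mem (h.hom_mem (h2 := h2) (hk3 := hk3) (low 1)))
    have hc : InCls G P (cj (σ * b⁻¹) N) := by
      rw [hNdef, ← val_conj_sub_one]
      have e : σ * b⁻¹ * σ * (σ * b⁻¹)⁻¹ = b⁻¹ := by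
        rw [mul_inv_rev, inv_inv]
        calc σ * b⁻¹ * σ * (b * σ⁻¹) = σ * (b⁻¹ * σ * b) * σ⁻¹ := by group
          _ = b⁻¹ := by rw [hid]; group
      rw [e, ← mem_sameAction_iff hτ]
      exact inv_mem hbm
    have hconj := conjBy_eq hσ hτ hgG hc
    rw [← hconj]
    ext x
    simp [conjBy, Subgroup.mem_map, mul_assoc]

/-- A pair of the second type is a special rank one pair. -/
theorem special_of_typeTwo (h2 : (2 : k) ≠ 0) (hk3 : Nat.card k ≠ 3)
    (hσ : σ ∈ minimalQuadraticElements G) (hτ : τ ∈ minimalQuadraticElements G)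
    (h : TypeTwo G ((σ : E) - 1) ((τ : E) - 1)) :
    IsSpecialRankOnePair (sameActionSubgroup G σ) (sameActionSubgroup G τ) := by
  have transfer : ∀ {σ τ : LinearMap.GeneralLinearGroup k M}, σ ∈ minimalQuadraticElements G →
      τ ∈ minimalQuadraticElements G → TypeTwo G ((σ : E) - 1) ((τ : E) - 1) →
      ∀ a ∈ sameActionSubgroup G σ, a ≠ 1 → ∃ b ∈ sameActionSubgroup G τ, b ≠ 1 ∧
        conjBy (sameActionSubgroup G σ) b⁻¹ = conjBy (sameActionSubgroup G τ) a⁻¹ ∧
        b⁻¹ * a * b = a⁻¹ * b⁻¹ * a := by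
    intro σ τ hσ hτ h a ha ha1
    obtain ⟨hmin, heq⟩ := sameAction_congr hσ ha ha1
    have h' : TypeTwo G ((a : E) - 1) ((τ : E) - 1) := h.congr ((mem_sameAction_iff hσ).mp ha)
      (mem_minimal_iff.mp hmin).ne_zero (inCls_self h.min_right.good) h.min_right.ne_zero
    rw [← heq]
    exact exists_swap h2 hk3 hmin hτ h'
  have hne : sameActionSubgroup G σ ≠ sameActionSubgroup G τ := by
    intro he
    have := (mem_sameAction_iff hσ).mp (he ▸ self_mem hτ)
    apply h.ne_zero
    rw [(inCls_self h.min_left.good).mul_eq_zero h.min_left.good.sq this, zero_mul]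
  refine ⟨⟨hne, ?_, ?_, ?_, ?_⟩, ?_⟩
  · exact isNilpotent_of_comm (isMulCommutative_sameAction hσ)
  · exact isNilpotent_of_comm (isMulCommutative_sameAction hτ)
  · intro a ha ha1
    obtain ⟨b, hb, hb1, hc, -⟩ := transfer hσ hτ h a ha ha1
    exact ⟨b, hb, hb1, hc⟩
  · intro a ha ha1
    obtain ⟨b, hb, hb1, hc, -⟩ := transfer hτ hσ h.symm a ha ha1
    exact ⟨b, hb, hb1, hc⟩
  · intro a ha ha1 b hb hb1 hcond
    obtain ⟨b₀, hb₀, hb₀1, hc₀, hid⟩ := transfer hσ hτ h a ha ha1
    rw [← hc₀] at hcond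
    by_cases he : b * b₀⁻¹ = 1
    · rw [mul_inv_eq_one.mp he]; exact hid
    exfalso
    have hn : b * b₀⁻¹ ∈ Subgroup.normalizer (sameActionSubgroup G σ : Set _) := by
      rw [Subgroup.mem_normalizer_iff]
      intro x
      have key := congrArg (fun S : Subgroup _ => b₀⁻¹ * x * b₀ ∈ S) hcond
      simp only [conjBy, Subgroup.mem_map, MulEquiv.coe_toMonoidHom, MulAut.conj_apply, inv_inv,
        eq_iff_iff] at key
      constructor
      · intro hx
        obtain ⟨y, hy, hxy⟩ := key.mpr ⟨x, hx, rfl⟩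
        rwa [show b * b₀⁻¹ * x * (b * b₀⁻¹)⁻¹ = y by
          rw [mul_inv_rev, inv_inv]
          calc b * b₀⁻¹ * x * (b₀ * b⁻¹) = b * (b₀⁻¹ * x * b₀) * b⁻¹ := by group
            _ = y := by rw [← hxy]; group]
      · intro hx
        obtain ⟨y, hy, hxy⟩ := key.mp ⟨_, hx, by group⟩
        rwa [show y = x by
          calc y = b₀ * (b₀⁻¹ * y * b₀) * b₀⁻¹ := by group
            _ = x := by rw [hxy]; group] at hy
    have hbot := bot_of_normalizer h2 hk3 hτ hσ (mul_mem hb (inv_mem hb₀)) he hn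
    have hcomm : τ * σ = σ * τ :=
      ((Subgroup.mem_centralizer_iff.mp ((Subgroup.commutator_eq_bot_iff_le_centralizer.mp hbot)
        (self_mem hτ))) σ (self_mem hσ)).symm
    exact h.ne_zero (commute_mul_mul h.min_left.good.sq h.min_right.good.sq
      (commute_iff_val.mp hcomm.symm)).1

/-- Elements of the two class groups lie in a group defined by the two images and kernels. -/
theorem range_ker_of_mem_sup (hσ : σ ∈ minimalQuadraticElements G) (hτ : τ ∈ minimalQuadraticElements G)
    {x : LinearMap.GeneralLinearGroup k M}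
    (hx : x ∈ sameActionSubgroup G σ ⊔ sameActionSubgroup G τ) :
    LinearMap.range ((x : E) - 1) ≤ LinearMap.range ((σ : E) - 1) ⊔ LinearMap.range ((τ : E) - 1) ∧
      LinearMap.ker ((σ : E) - 1) ⊓ LinearMap.ker ((τ : E) - 1) ≤ LinearMap.ker ((x : E) - 1) := by
  set W := LinearMap.range ((σ : E) - 1) ⊔ LinearMap.range ((τ : E) - 1)
  set Z := LinearMap.ker ((σ : E) - 1) ⊓ LinearMap.ker ((τ : E) - 1)
  let H : Subgroup (LinearMap.GeneralLinearGroup k M) :=
    { carrier := {g | (∀ m, ((g : E) - 1) m ∈ W) ∧ ∀ m ∈ Z, ((g : E) - 1) m = 0}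
      one_mem' := by simp
      mul_mem' := fun {a b} ha hb => by
        have e : ∀ m, (((a * b : LinearMap.GeneralLinearGroup k M) : E) - 1) m =
            ((a : E) - 1) ((b : E) m) + ((b : E) - 1) m := fun m => by simp
        refine ⟨fun m => by rw [e]; exact add_mem (ha.1 _) (hb.1 m), fun m hm => ?_⟩
        have hbm : (b : E) m = m := by simpa [sub_eq_zero] using hb.2 m hm
        rw [e, hbm, ha.2 m hm, hb.2 m hm, add_zero]
      inv_mem' := fun {a} ha => by
        have e : ∀ m, (((a⁻¹ : LinearMap.GeneralLinearGroup k M) : E) - 1) m =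
            -((a : E) - 1) (((a⁻¹ : LinearMap.GeneralLinearGroup k M) : E) m) := fun m => by
          simp [← Module.End.mul_apply]
        refine ⟨fun m => by rw [e]; exact neg_mem (ha.1 _), fun m hm => ?_⟩
        have h1 : (a : E) m = m := by simpa [sub_eq_zero] using ha.2 m hm
        have h2 : ((a⁻¹ : LinearMap.GeneralLinearGroup k M) : E) m = m := by
          conv_lhs => rw [← h1]
          simp [← Module.End.mul_apply]
        rw [LinearMap.sub_apply, h2, Module.End.one_apply, sub_self] }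
  have hle : sameActionSubgroup G σ ⊔ sameActionSubgroup G τ ≤ H := by
    refine sup_le (fun y hy => ?_) fun y hy => ?_
    · have hy' := (mem_sameAction_iff hσ).mp hy
      exact ⟨fun m => Submodule.mem_sup_left (hy'.range_le ⟨m, rfl⟩), fun m hm => hy'.ker_le hm.1⟩
    · have hy' := (mem_sameAction_iff hτ).mp hy
      exact ⟨fun m => Submodule.mem_sup_right (hy'.range_le ⟨m, rfl⟩), fun m hm => hy'.ker_le hm.2⟩
  obtain ⟨a, b⟩ := hle hx
  exact ⟨by rintro _ ⟨m, rfl⟩; exact a m, b⟩

theorem commutatorSubmodule_sup (hσ : σ ∈ minimalQuadraticElements G)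
    (hτ : τ ∈ minimalQuadraticElements G) :
    commutatorSubmodule (sameActionSubgroup G σ ⊔ sameActionSubgroup G τ) =
      LinearMap.range ((σ : E) - 1) ⊔ LinearMap.range ((τ : E) - 1) ∧
    fixedSubmodule (sameActionSubgroup G σ ⊔ sameActionSubgroup G τ) =
      LinearMap.ker ((σ : E) - 1) ⊓ LinearMap.ker ((τ : E) - 1) := by
  have m1 := le_sup_left (a := sameActionSubgroup G σ) (b := sameActionSubgroup G τ) (self_mem hσ)
  have m2 := le_sup_right (a := sameActionSubgroup G σ) (b := sameActionSubgroup G τ) (self_mem hτ)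
  constructor
  · rw [commutatorSubmodule]
    exact le_antisymm (iSup₂_le fun x hx => (range_ker_of_mem_sup hσ hτ hx).1)
      (sup_le (le_biSup (fun x : LinearMap.GeneralLinearGroup k M => LinearMap.range ((x : E) - 1)) m1)
        (le_biSup (fun x : LinearMap.GeneralLinearGroup k M => LinearMap.range ((x : E) - 1)) m2))
  · rw [fixedSubmodule]
    exact le_antisymm (le_inf (biInf_le (fun x : LinearMap.GeneralLinearGroup k M =>
      LinearMap.ker ((x : E) - 1)) m1) (biInf_le (fun x : LinearMap.GeneralLinearGroup k M =>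
      LinearMap.ker ((x : E) - 1)) m2)) (le_iInf₂ fun x hx => (range_ker_of_mem_sup hσ hτ hx).2)

/-- The central involution. -/
theorem exists_involution (h2 : (2 : k) ≠ 0) (hk3 : Nat.card k ≠ 3)
    (hσ : σ ∈ minimalQuadraticElements G) (hτ : τ ∈ minimalQuadraticElements G)
    (h : TypeTwo G ((σ : E) - 1) ((τ : E) - 1)) :
    let X := sameActionSubgroup G σ ⊔ sameActionSubgroup G τ
    (∃! i : LinearMap.GeneralLinearGroup k M, i ∈ X ∧ i ≠ 1 ∧ i * i = 1 ∧
      (∀ x ∈ X, i * x = x * i) ∧ (∀ m ∈ commutatorSubmodule X, (i : E) m = -m) ∧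
      (∀ m ∈ fixedSubmodule X, (i : E) m = m)) ∧
    IsCompl (fixedSubmodule X) (commutatorSubmodule X) := by
  intro Xg
  obtain ⟨hW, hZ⟩ := commutatorSubmodule_sup hσ hτ
  obtain ⟨v, hv⟩ := h.isUnit_X.exists_right_inv
  obtain ⟨q, rfl⟩ := proj_surjective v
  set N := (σ : E) - 1 with hNdef
  set P := (τ : E) - 1 with hPdef
  set α : k[X] := C (-2) * q with hα
  set i := h.hom h2 hk3 (-1) with hi
  have hqB : proj N P (X * q) = 1 := (map_mul _ _ _).trans hv
  have hαB : proj N P (X * α) = -2 := by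
    rw [hα, ← mul_assoc, mul_comm X (C (-2 : k)), mul_assoc, map_mul, hqB, mul_one, C_eq_algebraMap,
      AlgHom.commutes]
    simp [map_ofNat]
  have hiv : (i : E) = 1 + aeval (cu N P) α * cu N P := by
    have : Rel (proj N P) N P (-1) (1 + aeval (cu N P) α * cu N P) := by
      refine ⟨α, α, 0, 0, ?_, by simp, by simp, ?_, by simp [F, cu, mul_add, add_assoc]⟩ <;>
      · rw [map_add, map_one, hαB]; simp; ring
    exact h.compat.rel_unique (h.rel_hom _) this
  have hcom : aeval (cu N P) α * cu N P = cu N P * aeval (cu N P) α := by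
    have := ((Commute.all α (X : k[X])).map (aeval (cu N P))).eq
    rwa [aeval_X] at this
  have hkill : Kills N P (2 + X * α) := h.compat.ker _ (by rw [map_add, hαB, map_ofNat]; ring)
  have hiN : (i : E) * N = -N := by
    have := hkill.1
    rw [map_add, map_ofNat, map_mul, aeval_X, add_mul, two_mul] at this
    rw [hiv, add_mul, one_mul]
    rw [hcom]
    rw [eq_neg_iff_add_eq_zero, ← this]; abel
  have hiP : (i : E) * P = -P := by
    have := hkill.2
    rw [map_add, map_ofNat, map_mul, aeval_X, add_mul, two_mul] at this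
    rw [hiv, add_mul, one_mul]
    rw [hcom]
    rw [eq_neg_iff_add_eq_zero, ← this]; abel
  have hiW : ∀ m ∈ commutatorSubmodule Xg, (i : E) m = -m := by
    intro m hm
    rw [hW] at hm
    obtain ⟨_, ⟨a, rfl⟩, _, ⟨b, rfl⟩, rfl⟩ := Submodule.mem_sup.mp hm
    have h1 := LinearMap.congr_fun hiN a
    have h2 := LinearMap.congr_fun hiP b
    rw [Module.End.mul_apply, LinearMap.neg_apply] at h1 h2
    rw [map_add, h1, h2, neg_add]
  have hiZ : ∀ m ∈ fixedSubmodule Xg, (i : E) m = m := by
    intro m hm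
    rw [hZ] at hm
    rw [hiv]
    simp [cu, LinearMap.mem_ker.mp hm.1, LinearMap.mem_ker.mp hm.2]
  have hcomp : IsCompl (fixedSubmodule Xg) (commutatorSubmodule Xg) := by
    constructor
    · rw [disjoint_iff, Submodule.eq_bot_iff]
      intro m hm
      obtain ⟨hm1, hm2⟩ := Submodule.mem_inf.mp hm
      have he := (hiZ m hm1).symm.trans (hiW m hm2)
      rw [eq_neg_iff_add_eq_zero, ← two_smul k m] at he
      exact (smul_eq_zero.mp he).resolve_left h2
    · rw [codisjoint_iff, Submodule.eq_top_iff']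
      intro m
      have e : m = (2 : k)⁻¹ • (m + (i : E) m) + (-(2 : k)⁻¹) • ((i : E) m - m) := by
        match_scalars <;> field_simp <;> ring
      rw [e]
      refine add_mem (Submodule.mem_sup_left ?_) (Submodule.mem_sup_right ?_)
      · rw [hZ]
        refine Submodule.smul_mem _ _ (Submodule.mem_inf.mpr ?_)
        have hcN : N * (i : E) = -N := by
          rw [← hiN, hiv, mul_add, add_mul, mul_one, one_mul]
          congr 1
          rw [show aeval (cu N P) α * cu N P = aeval (cu N P) (α * X) by rw [map_mul (aeval (cu N P)) α X, aeval_X],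
            aeval_comm_left h.min_left.good.sq]
        have hcP : P * (i : E) = -P := by
          rw [← hiP, hiv, mul_add, add_mul, mul_one, one_mul]
          congr 1
          rw [show aeval (cu N P) α * cu N P = aeval (cu N P) (α * X) by rw [map_mul (aeval (cu N P)) α X, aeval_X],
            aeval_comm_right h.min_right.good.sq]
        constructor <;> rw [LinearMap.mem_ker, map_add]
        · rw [← Module.End.mul_apply, hcN, LinearMap.neg_apply, add_neg_cancel]
        · rw [← Module.End.mul_apply, hcP, LinearMap.neg_apply, add_neg_cancel]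
      · rw [hW]
        refine Submodule.smul_mem _ _ ?_
        have e2 : (i : E) m - m = N (aeval (cu N P) α (P m)) + P (aeval (cu N P) α (N m)) := by
          rw [hiv, LinearMap.add_apply, Module.End.one_apply, add_sub_cancel_left, cu, mul_add,
            ← mul_assoc, ← mul_assoc, aeval_comm_left h.min_left.good.sq,
            aeval_comm_right h.min_right.good.sq]
          rfl
        rw [e2]
        exact add_mem (Submodule.mem_sup_left ⟨_, rfl⟩) (Submodule.mem_sup_right ⟨_, rfl⟩)
  have hext : ∀ f g : E, (∀ m ∈ commutatorSubmodule Xg, f m = g m) →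
      (∀ m ∈ fixedSubmodule Xg, f m = g m) → f = g := fun f g hW' hZ' => LinearMap.ext fun m => by
    obtain ⟨a, ha, b, hb, rfl⟩ := Submodule.mem_sup.mp (hcomp.sup_eq_top.symm ▸ Submodule.mem_top (x := m))
    rw [map_add, map_add, hZ' a ha, hW' b hb]
  have hii : i * i = 1 := by rw [hi, ← map_mul, neg_mul_neg, one_mul, map_one]
  refine ⟨⟨i, ⟨?_, ?_, hii, ?_, hiW, hiZ⟩, ?_⟩, hcomp⟩
  · have hr : i ∈ (h.hom h2 hk3).range := ⟨-1, rfl⟩
    rw [h.hom_range] at hr
    refine (Subgroup.closure_le _).mpr ?_ hr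
    rintro x (⟨c, hc⟩ | ⟨c, hc⟩)
    · exact le_sup_left (a := sameActionSubgroup G σ) ((mem_sameAction_iff hσ).mpr (by
        rw [hc, add_sub_cancel_left]; exact (inCls_self h.min_left.good).smul c))
    · exact le_sup_right (b := sameActionSubgroup G τ) ((mem_sameAction_iff hτ).mpr (by
        rw [hc, add_sub_cancel_left]; exact (inCls_self h.min_right.good).smul c))
  · intro hi1
    rw [hi1, Units.val_one, one_mul, eq_neg_iff_add_eq_zero, ← two_smul k N] at hiN
    exact h.min_left.ne_zero ((smul_eq_zero.mp hiN).resolve_left h2)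
  · intro x hx
    obtain ⟨hxr, hxk⟩ := range_ker_of_mem_sup hσ hτ hx
    refine Units.ext (hext _ _ (fun m hm => ?_) fun m hm => ?_)
    · have hxm : (x : E) m ∈ commutatorSubmodule Xg := by
        have : (x : E) m = m + ((x : E) - 1) m := by simp
        rw [this]
        exact add_mem hm (by rw [hW]; exact hxr ⟨m, rfl⟩)
      rw [Units.val_mul, Units.val_mul, Module.End.mul_apply, Module.End.mul_apply, hiW _ hm,
        hiW _ hxm, map_neg]
    · have hxm : (x : E) m = m := by
        have := hxk (by rw [hZ] at hm; exact hm)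
        simpa [sub_eq_zero] using this
      rw [Units.val_mul, Units.val_mul, Module.End.mul_apply, Module.End.mul_apply, hiZ _ hm, hxm,
        hiZ _ hm]
  · rintro j ⟨-, -, -, -, hjW, hjZ⟩
    exact Units.ext (hext _ _ (fun m hm => (hjW m hm).trans (hiW m hm).symm)
      fun m hm => (hjZ m hm).trans (hiZ m hm).symm)

/-- The classes of an annihilating pair generate a unipotent group. -/
theorem isUnipotentOn_sup_classes (h2 : (2 : k) ≠ 0) (hk3 : Nat.card k ≠ 3)
    (hσ : σ ∈ minimalQuadraticElements G) (hτ : τ ∈ minimalQuadraticElements G)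
    (h : ((σ : E) - 1) * ((τ : E) - 1) * ((σ : E) - 1) = 0) :
    IsUnipotentOn (sameActionSubgroup G σ ⊔ sameActionSubgroup G τ) := by
  have hN := mem_minimal_iff.mp hσ
  have hP := mem_minimal_iff.mp hτ
  set N := (σ : E) - 1
  set P := (τ : E) - 1
  have h' := mul_mul_zero_symm h2 hN hP h
  set S : Set E := {X | InCls G N X ∨ InCls G P X} with hS
  set T : Set (LinearMap.GeneralLinearGroup k M) := (sameActionSubgroup G σ : Set _) ∪ sameActionSubgroup G τ with hT
  have hsup : sameActionSubgroup G σ ⊔ sameActionSubgroup G τ = Subgroup.closure T := by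
    rw [hT, Subgroup.sup_eq_closure]
  refine isUnipotentOn_of_span S _ T hsup ?_ ?_
  · rintro t (ht | ht)
    · exact ⟨Submodule.subset_span (Or.inl ((mem_sameAction_iff hσ).mp ht)),
        Submodule.subset_span (Or.inl ((mem_sameAction_iff hσ).mp (inv_mem ht)))⟩
    · exact ⟨Submodule.subset_span (Or.inr ((mem_sameAction_iff hτ).mp ht)),
        Submodule.subset_span (Or.inr ((mem_sameAction_iff hτ).mp (inv_mem ht)))⟩
  · have key : ∀ {N P : E}, IsMin G N → IsMin G P → N * P * N = 0 →
        ∀ a b c : E, InCls G N a → InCls G P b → InCls G N c → a * b * c = 0 := by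
      intro N P hN hP h a b c ha hb hc
      obtain ⟨z, -⟩ := annihilate_congr h2 hk3 hN hP h (inCls_self hN.good) hb
      refine LinearMap.ext fun m => LinearMap.mem_ker.mp (ha.ker_le ?_)
      obtain ⟨y, hy⟩ := hc.range_le ⟨m, rfl⟩
      rw [← hy, LinearMap.mem_ker, ← Module.End.mul_apply, ← Module.End.mul_apply, z]
      rfl
    rintro a (ha | ha) b (hb | hb) c (hc | hc)
    · rw [ha.mul_eq_zero hN.good.sq hb, zero_mul]
    · rw [ha.mul_eq_zero hN.good.sq hb, zero_mul]
    · exact key hN hP h a b c ha hb hc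
    · rw [mul_assoc, hb.mul_eq_zero hP.good.sq hc, mul_zero]
    · rw [mul_assoc, hb.mul_eq_zero hN.good.sq hc, mul_zero]
    · exact key hP hN h' a b c ha hb hc
    · rw [ha.mul_eq_zero hP.good.sq hb, zero_mul]
    · rw [ha.mul_eq_zero hP.good.sq hb, zero_mul]

end Cfsg.Agent.Lib.QuadPair
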