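import Cfsg.Agent.Lib.QuadPair.RankOne
import Cfsg.Agent.Lib.RootSubgroups.SubgroupOf

/-! The root subgroups of a quadratic pair. -/

namespace Cfsg.Agent.Lib.QuadPair

open Polynomial
open Cfsg.Agent.Lib.RootSubgroups
open scoped MatrixGroups

universe u

variable {k : Type u} [Field k] {M : Type u} [AddCommGroup M] [Module k M] [FiniteDimensional k M]
  {G : Subgroup (LinearMap.GeneralLinearGroup k M)}

local notation "E" => (M →ₗ[k] M)

variable {σ τ : LinearMap.GeneralLinearGroup k M}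

theorem sameAction_le (hσ : σ ∈ minimalQuadraticElements G) : sameActionSubgroup G σ ≤ G :=
  (Subgroup.closure_le _).mpr fun _ hx => hx.1.1.1

theorem conj_root_mem {A : Subgroup (LinearMap.GeneralLinearGroup k M)}
    (hA : A ∈ quadraticRootSubgroups G) {g : LinearMap.GeneralLinearGroup k M} (hg : g ∈ G) :
    conjBy A g ∈ quadraticRootSubgroups G := by
  obtain ⟨σ, hσ, rfl⟩ := hA
  exact ⟨_, minimal_conj hσ hg, sameAction_conj hσ hg⟩

theorem root_le {A : Subgroup (LinearMap.GeneralLinearGroup k M)}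
    (hA : A ∈ quadraticRootSubgroups G) : A ≤ G := by
  obtain ⟨σ, hσ, rfl⟩ := hA
  exact sameAction_le hσ

/-- The three possibilities for two members. -/
theorem pair_cases (h2 : (2 : k) ≠ 0) (hk3 : Nat.card k ≠ 3)
    (hσ : σ ∈ minimalQuadraticElements G) (hτ : τ ∈ minimalQuadraticElements G) :
    ⁅sameActionSubgroup G σ, sameActionSubgroup G τ⁆ = ⊥ ∨
      TypeTwo G ((σ : E) - 1) ((τ : E) - 1) ∨ Skew G ((σ : E) - 1) ((τ : E) - 1) := by
  have hN := mem_minimal_iff.mp hσ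
  have hP := mem_minimal_iff.mp hτ
  rcases type_cases h2 hk3 hN hP with ⟨a, b⟩ | ⟨a, b⟩
  · by_cases hc : ((σ : E) - 1) * ((τ : E) - 1) = ((τ : E) - 1) * ((σ : E) - 1)
    · exact Or.inl (bot_of_commute h2 hk3 hσ hτ (self_mem hσ) (ne_one_of_minimal hσ) (self_mem hτ)
        (ne_one_of_minimal hτ) (commute_iff_val.mpr hc))
    · exact Or.inr (Or.inr ⟨hN, hP, a, b, hc⟩)
  · exact Or.inr (Or.inl ⟨hN, hP, a, b⟩)

theorem commutatorCase_of_skew (h2 : (2 : k) ≠ 0) (hk3 : Nat.card k ≠ 3) (hG : IsQuadraticPair G)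
    (hσ : σ ∈ minimalQuadraticElements G) (hτ : τ ∈ minimalQuadraticElements G)
    (h : Skew G ((σ : E) - 1) ((τ : E) - 1)) :
    RootCommutatorCase (quadraticRootSubgroups G) (sameActionSubgroup G σ)
      (sameActionSubgroup G τ) := by
  obtain ⟨r1, r2, r3, -, r5, -⟩ := main_skew h2 hk3 hG hσ hτ h
  refine ⟨r1, fun c hc x hx => ?_, r2, r3⟩
  have h1 : c ∈ ⁅sameActionSubgroup G σ ⊔ sameActionSubgroup G τ,
      sameActionSubgroup G σ ⊔ sameActionSubgroup G τ⁆ :=
    Subgroup.commutator_mono le_sup_left le_sup_right hc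
  exact ((Subgroup.mem_centralizer_iff.mp
    ((Subgroup.commutator_eq_bot_iff_le_centralizer.mp r5) h1)) x hx).symm

theorem isRootSubgroupSet (h2 : (2 : k) ≠ 0) (hk3 : Nat.card k ≠ 3) (hG : IsQuadraticPair G) :
    IsRootSubgroupSet ((fun A : Subgroup (LinearMap.GeneralLinearGroup k M) =>
      A.subgroupOf (⨆ B ∈ quadraticRootSubgroups G, B)) '' quadraticRootSubgroups G) := by
  refine isRootSubgroupSet_subgroupOf ?_ ?_ ?_ ?_
  · rintro A ⟨σ, hσ, rfl⟩; exact isMulCommutative_sameAction hσ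
  · rintro A ⟨σ, hσ, rfl⟩ h
    exact ne_one_of_minimal hσ (by simpa [h] using self_mem hσ)
  · intro A hA g hg
    have hle : (⨆ B ∈ quadraticRootSubgroups G, B) ≤ G := iSup₂_le fun B hB => root_le hB
    exact conj_root_mem hA (hle hg)
  · rintro A ⟨σ, hσ, rfl⟩ B ⟨τ, hτ, rfl⟩
    rcases pair_cases h2 hk3 hσ hτ with h | h | h
    · exact Or.inl h
    · exact Or.inr (Or.inl (special_of_typeTwo h2 hk3 hσ hτ h).1)
    · exact Or.inr (Or.inr (commutatorCase_of_skew h2 hk3 hG hσ hτ h))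

theorem typeTwo_of_rankOne (h2 : (2 : k) ≠ 0) (hk3 : Nat.card k ≠ 3) (hG : IsQuadraticPair G)
    (hσ : σ ∈ minimalQuadraticElements G) (hτ : τ ∈ minimalQuadraticElements G)
    (h : IsRankOnePair (sameActionSubgroup G σ) (sameActionSubgroup G τ)) :
    TypeTwo G ((σ : E) - 1) ((τ : E) - 1) := by
  rcases pair_cases h2 hk3 hσ hτ with hb | hII | hs
  · exact absurd hb (RankOne.not_commute h)
  · exact hII
  · exfalso
    refine RankOne.not_isNilpotent h ?_
    obtain ⟨-, -, -, -, r5, -⟩ := main_skew h2 hk3 hG hσ hτ hs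
    set X := sameActionSubgroup G σ ⊔ sameActionSubgroup G τ
    refine (Subgroup.isNilpotent_iff_lowerCentralSeries X).mpr ⟨2, ?_⟩
    rw [Subgroup.lowerCentralSeries_succ, Subgroup.lowerCentralSeries_succ,
      Subgroup.lowerCentralSeries_zero]
    exact r5

theorem exists_rankOne_partner (h2 : (2 : k) ≠ 0) (hk3 : Nat.card k ≠ 3) (hG : IsQuadraticPair G)
    (hσ : σ ∈ minimalQuadraticElements G) :
    ∃ τ ∈ minimalQuadraticElements G, (∃ g ∈ G, τ = g * σ * g⁻¹) ∧
      IsRankOnePair (sameActionSubgroup G σ) (sameActionSubgroup G τ) := by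
  obtain ⟨g, hg, h⟩ := exists_partner h2 hk3 hG (mem_minimal_iff.mp hσ)
  rw [← val_conj_sub_one] at h
  exact ⟨_, minimal_conj hσ hg, ⟨g, hg, rfl⟩,
    (special_of_typeTwo h2 hk3 hσ (minimal_conj hσ hg) h).1⟩

theorem three_lt_card (h2 : (2 : k) ≠ 0) (hk3 : Nat.card k ≠ 3) : 3 < ENat.card k := by
  rcases finite_or_infinite k with hk | hk
  · obtain ⟨p, -, -, -, h5⟩ := finite_setting h2 hk3
    rw [ENat.card_eq_coe_natCard]
    exact_mod_cast (show 3 < Nat.card k by omega)
  · rw [ENat.card_eq_top_of_infinite]; exact ENat.coe_lt_top 3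

theorem exists_sl2_pair (h2 : (2 : k) ≠ 0) (hk3 : Nat.card k ≠ 3)
    (hσ : σ ∈ minimalQuadraticElements G) (hτ : τ ∈ minimalQuadraticElements G)
    (h : TypeTwo G ((σ : E) - 1) ((τ : E) - 1)) :
    ∃ A₀ B₀ : Subgroup (LinearMap.GeneralLinearGroup k M),
      A₀ ≤ sameActionSubgroup G σ ∧ B₀ ≤ sameActionSubgroup G τ ∧
        ∃ (k₁ : Type u) (_ : Field k₁), 3 < ENat.card k₁ ∧ IsPSL2PairOver k₁ A₀ B₀ := by
  set N := (σ : E) - 1 with hN
  set P := (τ : E) - 1 with hP
  have := h.isMaximal h2 hk3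
  let fB : Field (Bring N P) := Ideal.Quotient.field _
  set Φ := h.hom h2 hk3
  refine ⟨(upperUnipotentSL2 (Bring N P)).map Φ, (lowerUnipotentSL2 (Bring N P)).map Φ, ?_, ?_,
    Bring N P, fB, ?_, Φ, ?_, ?_, rfl, rfl⟩
  · rw [Subgroup.map_le_iff_le_comap, upperUnipotentSL2, Subgroup.closure_le]
    rintro g ⟨h10, h00, h11⟩
    obtain ⟨q, hq⟩ := proj_surjective (N := N) (P := P) (g 0 1)
    have hg : g = up (proj N P q) := by apply ext2 <;> simp [h10, h00, h11, hq]
    rw [SetLike.mem_coe, Subgroup.mem_comap, mem_sameAction_iff hσ, hg, h.hom_up, add_sub_cancel_left]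
    exact h.inCls_left h2 hk3 q
  · rw [Subgroup.map_le_iff_le_comap, lowerUnipotentSL2, Subgroup.closure_le]
    rintro g ⟨h01, h00, h11⟩
    obtain ⟨v, hv⟩ := h.isUnit_X.exists_right_inv
    obtain ⟨w, hw⟩ := proj_surjective (N := N) (P := P) (v * g 1 0)
    have hq : proj N P (X * w) = g 1 0 :=
      (map_mul _ _ _).trans ((congrArg _ hw).trans (by rw [← mul_assoc]; exact (congrArg (· * g 1 0) hv).trans (one_mul _)))
    have hg : g = low (proj N P (X * w)) := by apply ext2 <;> simp [h01, h00, h11, hq]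
    rw [SetLike.mem_coe, Subgroup.mem_comap, mem_sameAction_iff hτ, hg, h.hom_low, add_sub_cancel_left]
    exact h.inCls_right h2 hk3 w
  · exact (three_lt_card h2 hk3).trans_le
      (ENat.card_le_card_of_injective (algebraMap k (Bring N P)).injective)
  · rw [← Subgroup.map_sup, MonoidHom.range_eq_map]
    congr 1
    refine (eq_top_iff.mpr fun g _ => mem_of_elementary (fun a => ?_) (fun a => ?_) g).symm
    · exact Subgroup.mem_sup_left (Subgroup.subset_closure ⟨by simp, by simp, by simp⟩)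
    · exact Subgroup.mem_sup_right (Subgroup.subset_closure ⟨by simp, by simp, by simp⟩)
  · rw [(MonoidHom.ker_eq_bot_iff _).mpr h.hom_injective]; exact bot_le

end Cfsg.Agent.Lib.QuadPair
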