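import Mathlib

/-! The group generated by `x(k)` and `y(k u)` inside `SL₂` of a commutative algebra. -/

namespace Cfsg.Agent.Lib.QuadPair

open Matrix
open scoped MatrixGroups

variable {k : Type*} [Field k] {A : Type*} [CommRing A] [Algebra k A]

/-- Upper unitriangular element. -/
def up (t : A) : SL(2, A) := ⟨!![1, t; 0, 1], by simp [det_fin_two]⟩

/-- Lower unitriangular element. -/
def low (t : A) : SL(2, A) := ⟨!![1, 0; t, 1], by simp [det_fin_two]⟩

@[simp] theorem coe_up (t : A) : ((up t : SL(2, A)) : Matrix (Fin 2) (Fin 2) A) = !![1, t; 0, 1] :=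
  rfl

@[simp] theorem coe_low (t : A) :
    ((low t : SL(2, A)) : Matrix (Fin 2) (Fin 2) A) = !![1, 0; t, 1] := rfl

theorem ext2 {g h : SL(2, A)} (h00 : g 0 0 = h 0 0) (h01 : g 0 1 = h 0 1) (h10 : g 1 0 = h 1 0)
    (h11 : g 1 1 = h 1 1) : g = h := by
  apply Subtype.ext
  ext i j
  fin_cases i <;> fin_cases j <;> assumption

theorem det2 (g : SL(2, A)) : g 0 0 * g 1 1 - g 0 1 * g 1 0 = 1 := by
  have := g.2
  rwa [det_fin_two] at this

theorem up_add (s t : A) : up (s + t) = up s * up t := by
  apply ext2 <;> simp [Matrix.mul_apply, Fin.sum_univ_two, add_comm]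

theorem low_add (s t : A) : low (s + t) = low s * low t := by
  apply ext2 <;> simp [Matrix.mul_apply, Fin.sum_univ_two, add_comm]

@[simp] theorem up_zero : up (0 : A) = 1 := by apply ext2 <;> simp

@[simp] theorem low_zero : low (0 : A) = 1 := by apply ext2 <;> simp

theorem up_inv (t : A) : (up t)⁻¹ = up (-t) := by
  apply inv_eq_of_mul_eq_one_right
  rw [← up_add, add_neg_cancel, up_zero]

theorem low_inv (t : A) : (low t)⁻¹ = low (-t) := by
  apply inv_eq_of_mul_eq_one_right
  rw [← low_add, add_neg_cancel, low_zero]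

theorem up_injective : Function.Injective (up : A → SL(2, A)) := fun s t h => by
  simpa using congrArg (fun g : SL(2, A) => g 0 1) h

theorem low_injective : Function.Injective (low : A → SL(2, A)) := fun s t h => by
  simpa using congrArg (fun g : SL(2, A) => g 1 0) h

theorem up_mul_apply_zero (t : A) (g : SL(2, A)) (j : Fin 2) :
    (up t * g) 0 j = g 0 j + t * g 1 j := by
  fin_cases j <;> simp [Matrix.mul_apply, Fin.sum_univ_two]

theorem up_mul_apply_one (t : A) (g : SL(2, A)) (j : Fin 2) : (up t * g) 1 j = g 1 j := by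
  fin_cases j <;> simp [Matrix.mul_apply, Fin.sum_univ_two]

theorem low_mul_apply_zero (t : A) (g : SL(2, A)) (j : Fin 2) : (low t * g) 0 j = g 0 j := by
  fin_cases j <;> simp [Matrix.mul_apply, Fin.sum_univ_two]

theorem low_mul_apply_one (t : A) (g : SL(2, A)) (j : Fin 2) :
    (low t * g) 1 j = t * g 0 j + g 1 j := by
  fin_cases j <;> simp [Matrix.mul_apply, Fin.sum_univ_two]

/-- An upper triangular element multiplies upper translations by the square of its corner. -/
theorem upper_conj {g : SL(2, A)} (h : g 1 0 = 0) (t : A) :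
    g * up t * g⁻¹ = up (t * g 0 0 ^ 2) := by
  rw [mul_inv_eq_iff_eq_mul]
  have hd := det2 g
  rw [h, mul_zero, sub_zero] at hd
  apply ext2 <;> simp [Matrix.mul_apply, Fin.sum_univ_two, h]
  linear_combination (-(t * g 0 0)) * hd

/-- The group generated by `x(k)` and `y(k u)`. -/
def gamma (k : Type*) [Field k] {A : Type*} [CommRing A] [Algebra k A] (u : A) :
    Subgroup SL(2, A) :=
  Subgroup.closure (Set.range (fun c : k => up (algebraMap k A c)) ∪
    Set.range (fun c : k => low (algebraMap k A c * u)))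

theorem up_mem (u : A) (c : k) : up (algebraMap k A c) ∈ gamma k u :=
  Subgroup.subset_closure (Or.inl ⟨c, rfl⟩)

theorem low_mem (u : A) (c : k) : low (algebraMap k A c * u) ∈ gamma k u :=
  Subgroup.subset_closure (Or.inr ⟨c, rfl⟩)

/-- The upper translations of `gamma k u`. -/
def lam (k : Type*) [Field k] {A : Type*} [CommRing A] [Algebra k A] (u : A) : AddSubgroup A where
  carrier := {f | up f ∈ gamma k u}
  zero_mem' := by simp only [Set.mem_setOf_eq, up_zero]; exact one_mem _
  add_mem' {a b} ha hb := by simp only [Set.mem_setOf_eq, up_add] at *; exact mul_mem ha hb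
  neg_mem' {a} ha := by simp only [Set.mem_setOf_eq, ← up_inv] at *; exact inv_mem ha

theorem mem_lam {u f : A} : f ∈ lam k u ↔ up f ∈ gamma k u := Iff.rfl

theorem algebraMap_mem_lam (u : A) (c : k) : algebraMap k A c ∈ lam k u := up_mem u c

theorem sq_mul_mem_lam {u : A} {g : SL(2, A)} (hg : g ∈ gamma k u) (h : g 1 0 = 0) (c : k) :
    algebraMap k A c * g 0 0 ^ 2 ∈ lam k u := by
  rw [mem_lam, ← upper_conj h]
  exact mul_mem (mul_mem hg (up_mem u c)) (inv_mem hg)

end Cfsg.Agent.Lib.QuadPair
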