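import Cfsg.Agent.Lib.QuadPair.PartsQuasi

/-! The components are finite in number and each is a class of root subgroups. -/

namespace Cfsg.Agent.Lib.QuadPair

open Polynomial
open Cfsg.Agent.Lib.RootSubgroups
open scoped MatrixGroups

universe u

variable {k : Type u} [Field k] {M : Type u} [AddCommGroup M] [Module k M] [FiniteDimensional k M]
  {G : Subgroup (LinearMap.GeneralLinearGroup k M)}

local notation "E" => (M →ₗ[k] M)
local notation "GL" => LinearMap.GeneralLinearGroup k M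

variable {σ τ : LinearMap.GeneralLinearGroup k M}

theorem part_self {A : Subgroup GL} (hA : A ∈ quadraticRootSubgroups G) : A ∈ part G A :=
  ⟨hA, .refl⟩

theorem part_eq_of_mem {A B : Subgroup GL} (hB : B ∈ part G A) : part G A = part G B :=
  Root.componentOf_eq hB.2

theorem comm_of_parts (h2 : (2 : k) ≠ 0) (hk3 : Nat.card k ≠ 3) (hG : IsQuadraticPair G)
    {A A' B B' : Subgroup GL} (hne : part G A ≠ part G A') (hB : B ∈ part G A)
    (hB' : B' ∈ part G A') {x y : GL} (hx : x ∈ B) (hy : y ∈ B') : x * y = y * x :=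
  comm_of_commutator_eq_bot (commute_parts h2 hk3 hG hne) (member_le_partGroup hB hx)
    (member_le_partGroup hB' hy)

/-- Only finitely many components. -/
theorem finite_parts (h2 : (2 : k) ≠ 0) (hk3 : Nat.card k ≠ 3) (hG : IsQuadraticPair G) :
    (part G '' quadraticRootSubgroups G).Finite := by
  classical
  set P := part G '' quadraticRootSubgroups G
  have hsel : ∀ C : P, ∃ σ τ : GL, σ ∈ minimalQuadraticElements G ∧
      τ ∈ minimalQuadraticElements G ∧ sameActionSubgroup G σ ∈ C.1 ∧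
      sameActionSubgroup G τ ∈ C.1 ∧ TypeTwo G ((σ : E) - 1) ((τ : E) - 1) ∧
      C.1 = part G (sameActionSubgroup G σ) := by
    rintro ⟨C, A, hA, rfl⟩
    obtain ⟨B, hB⟩ := exists_adj h2 hk3 hG hA
    obtain ⟨⟨σ, hσ, rfl⟩, ⟨τ, hτ, rfl⟩, hr⟩ := hB
    exact ⟨σ, τ, hσ, hτ, part_self hA, ⟨⟨τ, hτ, rfl⟩, .single ⟨hA, ⟨τ, hτ, rfl⟩, hr⟩⟩,
      typeTwo_of_rankOne h2 hk3 hG hσ hτ hr, rfl⟩
  choose σ τ hσ hτ hσC hτC hII hC using hsel
  have hli : LinearIndependent k fun C : P => ((σ C : GL) : E) - 1 := by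
    rw [linearIndependent_iff']
    intro s g hg C hCs
    by_contra hgC
    set Q := ((τ C : GL) : E) - 1
    have hzero : ∀ D : P, D ≠ C → (((σ D : GL) : E) - 1) * Q = Q * (((σ D : GL) : E) - 1) := by
      intro D hD
      apply commute_iff_val.mp
      exact comm_of_parts h2 hk3 hG (A := sameActionSubgroup G (σ D))
        (A' := sameActionSubgroup G (σ C)) (fun e => hD (Subtype.ext ((hC D).trans (e.trans (hC C).symm))))
        (hC D ▸ hσC D) (hC C ▸ hτC C) (self_mem (hσ D)) (self_mem (hτ C))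
    have h1 : ∑ D ∈ s, g D • ((((σ D : GL) : E) - 1) * Q - Q * (((σ D : GL) : E) - 1)) = 0 := by
      have key : ∀ f : P → E, ∑ D ∈ s, g D • (f D * Q - Q * f D) =
          (∑ D ∈ s, g D • f D) * Q - Q * ∑ D ∈ s, g D • f D := fun f => by
        simp only [smul_sub, Finset.sum_sub_distrib, Finset.sum_mul, Finset.mul_sum, smul_mul_assoc,
          mul_smul_comm]
      rw [key (fun D => ((σ D : GL) : E) - 1), hg, zero_mul, mul_zero, sub_zero]
    rw [Finset.sum_eq_single_of_mem C hCs (fun D _ hD => by rw [hzero D hD, sub_self, smul_zero]),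
      smul_eq_zero, sub_eq_zero] at h1
    have h3 := h1.resolve_left hgC
    exact (hII C).ne_zero (by rw [mul_assoc, ← h3, ← mul_assoc, (hII C).min_left.good.sq, zero_mul])
  exact Set.finite_coe_iff.mp hli.finite

theorem commutatorCase_part (h2 : (2 : k) ≠ 0) (hk3 : Nat.card k ≠ 3) (hG : IsQuadraticPair G)
    {A : Subgroup GL} (hσ : σ ∈ minimalQuadraticElements G) (hτ : τ ∈ minimalQuadraticElements G)
    (hB : sameActionSubgroup G τ ∈ part G A) (h : Skew G ((σ : E) - 1) ((τ : E) - 1)) :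
    RootCommutatorCase (part G A) (sameActionSubgroup G σ) (sameActionSubgroup G τ) := by
  obtain ⟨a, b, c, d⟩ := commutatorCase_of_skew h2 hk3 hG hσ hτ h
  exact ⟨⟨a, hB.2.trans (reach_commutator h2 hk3 hG hσ hτ h)⟩, b, c, d⟩

/-- A component is a class of root subgroups of the group it generates. -/
theorem part_isRootSubgroupClass (h2 : (2 : k) ≠ 0) (hk3 : Nat.card k ≠ 3) (hG : IsQuadraticPair G)
    {A : Subgroup GL} (hA : A ∈ quadraticRootSubgroups G) :
    IsRootSubgroupClass ((fun B : Subgroup GL => B.subgroupOf (partGroup G A)) '' part G A) := by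
  refine ⟨isRootSubgroupSet_subgroupOf ?_ ?_ ?_ ?_, ⟨_, Set.mem_image_of_mem _ (part_self hA)⟩, ?_⟩
  · rintro B ⟨⟨σ, hσ, rfl⟩, -⟩; exact isMulCommutative_sameAction hσ
  · rintro B ⟨⟨σ, hσ, rfl⟩, -⟩ h
    exact ne_one_of_minimal hσ (by simpa [h] using self_mem hσ)
  · exact fun B hB g hg => part_conj_mem h2 hk3 hG hg B hB
  · rintro B hB C hC
    obtain ⟨σ, hσ, rfl⟩ := hB.1
    obtain ⟨τ, hτ, rfl⟩ := hC.1
    rcases pair_cases h2 hk3 hσ hτ with h | h | h
    · exact Or.inl h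
    · exact Or.inr (Or.inl (special_of_typeTwo h2 hk3 hσ hτ h).1)
    · exact Or.inr (Or.inr (commutatorCase_part h2 hk3 hG hσ hτ hC h))
  · rintro _ ⟨B, hB, rfl⟩ _ ⟨C, hC, rfl⟩
    have he := part_eq_of_mem hB
    obtain ⟨g, hg, rfl⟩ := part_isConjClass h2 hk3 hG (he ▸ hC)
    have hg' : g ∈ partGroup G A := by rw [partGroup, he]; exact hg
    refine ⟨⟨g, hg'⟩, ?_⟩
    apply Subgroup.map_injective (partGroup G A).subtype_injective
    rw [RootSubgroups.map_conjBy, Subgroup.map_subgroupOf_eq_of_le (member_le_partGroup hC),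
      Subgroup.map_subgroupOf_eq_of_le (member_le_partGroup hB)]
    rfl

theorem part_sl2 (h2 : (2 : k) ≠ 0) (hk3 : Nat.card k ≠ 3) (hG : IsQuadraticPair G)
    {A B C : Subgroup GL} (hB : B ∈ part G A) (hC : C ∈ rankOnePartners (part G A) B) :
    ∃ A₀ B₀ : Subgroup GL, A₀ ≤ B ∧ B₀ ≤ C ∧
      ∃ (k₁ : Type u) (_ : Field k₁), 3 < ENat.card k₁ ∧ IsPSL2PairOver k₁ A₀ B₀ := by
  obtain ⟨σ, hσ, rfl⟩ := hB.1
  obtain ⟨τ, hτ, rfl⟩ := hC.1.1
  exact exists_sl2_pair h2 hk3 hσ hτ (typeTwo_of_rankOne h2 hk3 hG hσ hτ hC.2)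

end Cfsg.Agent.Lib.QuadPair
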