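import Cfsg.Agent.Lib.QuadPair.Product
import Cfsg.Agent.Lib.QuadPair.Split

/-! Every quadratic element lies in the group of one component or centralizes all components. -/

namespace Cfsg.Agent.Lib.QuadPair

open Cfsg.Agent.Lib.RootSubgroups

universe u

variable {k : Type u} [Field k] {M : Type u} [AddCommGroup M] [Module k M] [FiniteDimensional k M]
  {G : Subgroup (LinearMap.GeneralLinearGroup k M)}

local notation "E" => (M →ₗ[k] M)
local notation "GL" => LinearMap.GeneralLinearGroup k M

/-- The group generated by all root subgroups. -/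
abbrev rootGroup (G : Subgroup GL) : Subgroup GL := ⨆ A ∈ quadraticRootSubgroups G, A

theorem partGroup_le_rootGroup (A : Subgroup GL) : partGroup G A ≤ rootGroup G :=
  iSup₂_le fun B hB => le_biSup (fun C : Subgroup GL => C) hB.1

/-- The components are normal. -/
theorem partGroup_normal (h2 : (2 : k) ≠ 0) (hk3 : Nat.card k ≠ 3) (hG : IsQuadraticPair G)
    {A : Subgroup GL} (hA : A ∈ quadraticRootSubgroups G) :
    ∀ g ∈ G, conjBy (partGroup G A) g = partGroup G A := by
  have h1 : ∀ g ∈ rootGroup G, ∀ x ∈ partGroup G A, g * x * g⁻¹ ∈ partGroup G A := by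
    intro g hg
    let S : Subgroup GL := Subgroup.normalizer (partGroup G A : Set GL)
    suffices hS : rootGroup G ≤ S from fun x hx => ((Subgroup.mem_normalizer_iff.mp (hS hg)) x).mp hx
    refine iSup₂_le fun B hB => ?_
    by_cases hp : part G B = part G A
    · intro b hb
      have hbB : b ∈ partGroup G A := by
        have hm : b ∈ partGroup G B := member_le_partGroup (part_self hB) hb
        rwa [partGroup, hp] at hm
      exact Subgroup.le_normalizer hbB
    · intro b hb
      refine Subgroup.mem_normalizer_iff.mpr fun x => ?_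
      have hc : ∀ y ∈ partGroup G A, b * y * b⁻¹ = y := fun y hy => by
        rw [comm_of_commutator_eq_bot (commute_parts h2 hk3 hG hp)
          (member_le_partGroup (part_self hB) hb) hy, mul_inv_cancel_right]
      refine ⟨fun hx => by rw [hc x hx]; exact hx, fun hx => ?_⟩
      have := hc _ hx
      rw [← show b * x * b⁻¹ = x by simpa using this]
      exact hx
  intro g hg
  have hmem : g ∈ rootGroup G ⊔ (G ⊓ Subgroup.centralizer (rootGroup G : Set GL)) := by
    rw [product_eq h2 hk3 hG]; exact hg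
  have hn : rootGroup G ⊔ (G ⊓ Subgroup.centralizer (rootGroup G : Set GL)) ≤
      Subgroup.normalizer (partGroup G A : Set GL) := by
    refine sup_le (fun y hy => ?_) (fun y hy => ?_)
    · refine Subgroup.mem_normalizer_iff.mpr fun x => ⟨h1 y hy x, fun hx => ?_⟩
      have := h1 y⁻¹ (inv_mem hy) _ hx
      simpa [mul_assoc] using this
    · refine Subgroup.mem_normalizer_iff.mpr fun x => ?_
      have hc : ∀ z ∈ partGroup G A, y * z * y⁻¹ = z := fun z hz => by
        rw [← Subgroup.mem_centralizer_iff.mp (Subgroup.mem_inf.mp hy).2 z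
          (partGroup_le_rootGroup A hz), mul_inv_cancel_right]
      refine ⟨fun hx => by rw [hc x hx]; exact hx, fun hx => ?_⟩
      have := hc _ hx
      rw [← show y * x * y⁻¹ = x by simpa using this]
      exact hx
  ext x
  constructor
  · rintro ⟨z, hz, rfl⟩
    exact (Subgroup.mem_normalizer_iff.mp (hn hmem) z).mp hz
  · intro hx
    refine ⟨g⁻¹ * x * g, (Subgroup.mem_normalizer_iff.mp (hn hmem) _).mpr ?_, by simp [mul_assoc]⟩
    simpa [mul_assoc] using hx

/-- Nothing commuting with a component is annihilated by one of its members. -/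
theorem eq_zero_of_annihilate (h2 : (2 : k) ≠ 0) (hk3 : Nat.card k ≠ 3) (hG : IsQuadraticPair G)
    {σ : GL} (hσ : σ ∈ minimalQuadraticElements G) {Z : E}
    (hc : ∀ g ∈ partGroup G (sameActionSubgroup G σ), (g : E) * Z = Z * (g : E))
    (h : ((σ : E) - 1) * Z = 0) : Z = 0 := by
  set A := sameActionSubgroup G σ
  have hA : A ∈ quadraticRootSubgroups G := ⟨σ, hσ, rfl⟩
  set H := partGroup G A with hH
  let K : Subgroup GL :=
    { carrier := {x | (x : E) * Z = Z}
      one_mem' := one_mul Z
      mul_mem' := fun {x y} (hx : (x : E) * Z = Z) (hy : (y : E) * Z = Z) => by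
        show (x : E) * (y : E) * Z = Z
        rw [mul_assoc, hy, hx]
      inv_mem' := fun {x} (hx : (x : E) * Z = Z) => by
        show ((x⁻¹ : GL) : E) * Z = Z
        calc ((x⁻¹ : GL) : E) * Z = ((x⁻¹ : GL) : E) * ((x : E) * Z) := by rw [hx]
          _ = Z := by rw [← mul_assoc, Units.inv_mul, one_mul] }
  have hHK : H ≤ K := by
    refine iSup₂_le fun C hC => ?_
    obtain ⟨g, hg, rfl⟩ := part_isConjClass h2 hk3 hG hC
    rintro _ ⟨b, hb, rfl⟩
    have hb' : ((b : E) - 1) * Z = 0 := by
      refine LinearMap.ext fun m => ?_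
      exact ((mem_sameAction_iff hσ).mp hb).3
        (show Z m ∈ LinearMap.ker ((σ : E) - 1) from congrArg (fun e : E => e m) h)
    rw [sub_mul, one_mul, sub_eq_zero] at hb'
    show ((g * b * g⁻¹ : GL) : E) * Z = Z
    rw [Units.val_mul, Units.val_mul, mul_assoc, hc g⁻¹ (inv_mem hg), ← mul_assoc, mul_assoc (g : E),
      hb', mul_assoc, ← hc g⁻¹ (inv_mem hg), ← mul_assoc, Units.mul_inv, one_mul]
  let F : Submodule k M :=
    { carrier := {v | ∀ x ∈ H, ((x : E) - 1) v = 0}
      zero_mem' := fun x _ => map_zero _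
      add_mem' := fun ha hb x hx => by rw [map_add, ha x hx, hb x hx, add_zero]
      smul_mem' := fun c v hv x hx => by rw [map_smul, hv x hx, smul_zero] }
  have hinv : ∀ g ∈ G, ∀ v ∈ F, (g : E) v ∈ F := by
    intro g hg v hv x hx
    have hx' : g⁻¹ * x * g ∈ H := by
      have hxc : x ∈ conjBy H g := by rw [hH, partGroup_normal h2 hk3 hG hA g hg]; exact hx
      obtain ⟨z, hz, rfl⟩ := hxc
      simpa [mul_assoc] using hz
    have := congrArg (g : E) (hv _ hx')
    simpa [mul_assoc, ← Module.End.mul_apply, mul_sub, sub_mul] using this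
  refine LinearMap.ext fun m => ?_
  rcases hG.1.2 F hinv with hb | ht
  · have hm : Z m ∈ F := fun x hx => by
      have := hHK hx
      rw [← Module.End.mul_apply, sub_mul, one_mul, show (x : E) * Z = Z from this, sub_self,
        LinearMap.zero_apply]
    rw [hb, Submodule.mem_bot] at hm
    exact hm
  · exfalso
    apply (mem_minimal_iff.mp hσ).ne_zero
    refine LinearMap.ext fun v => ?_
    have hv : v ∈ F := by rw [ht]; trivial
    exact hv σ (member_le_partGroup (part_self hA) (self_mem hσ))

theorem mul_peel_eq_zero {X N : E} (hX : X * X = 0) (h : X * N = 0) : X * (N - X) = 0 := by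
  rw [mul_sub, h, hX, sub_zero]

theorem exists_peel_unit' (h2 : (2 : k) ≠ 0) (hk3 : Nat.card k ≠ 3) {g : GL} (hg : g ∈ G)
    (hN : Good G ((g : E) - 1)) {P : E} (hP : IsMin G P)
    (h : P * ((g : E) - 1) * P ≠ 0) :
    ∃ x y : GL, x ∈ minimalQuadraticElements G ∧ y ∈ G ∧ g = x * y ∧ Good G ((y : E) - 1) ∧
      rk ((y : E) - 1) < rk ((g : E) - 1) ∧ ((x : E) - 1) * ((y : E) - 1) = 0 := by
  obtain ⟨X, hX, hXN, hgood, hlt⟩ := exists_peel h2 hk3 hN hP h
  obtain ⟨x, hx, hxe⟩ := hX.good.exists_unit
  have hxv : (x : E) = 1 + X := by rw [← hxe, add_sub_cancel]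
  have hy : ((x⁻¹ * g : GL) : E) - 1 = (g : E) - 1 - X := by
    rw [Units.val_mul, val_inv_of_sq (by rw [hxe]; exact hX.good.sq), hxv, add_sub_cancel_left,
      show (g : E) = 1 + ((g : E) - 1) by rw [add_sub_cancel]]
    simp only [sub_mul, mul_add, mul_one, one_mul, add_sub_cancel_left, hXN, add_zero]
    abel
  exact ⟨x, x⁻¹ * g, mem_minimal_iff.mpr (by rw [hxe]; exact hX), mul_mem (inv_mem hx) hg,
    by rw [mul_inv_cancel_left], by rw [hy]; exact hgood, by rw [hy]; exact hlt,
    by rw [hy, hxe]; exact mul_peel_eq_zero hX.good.sq hXN⟩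

theorem dichotomy_aux (h2 : (2 : k) ≠ 0) (hk3 : Nat.card k ≠ 3) (hG : IsQuadraticPair G) (n : ℕ) :
    ∀ g : GL, g ∈ G → Good G ((g : E) - 1) → rk ((g : E) - 1) ≤ n →
      (∃ A ∈ quadraticRootSubgroups G, g ∈ partGroup G A) ∨
        g ∈ Subgroup.centralizer (rootGroup G : Set GL) := by
  induction n using Nat.strong_induction_on with
  | _ n ih =>
    intro g hg hN hn
    by_cases hK : Kill G ((g : E) - 1)
    · exact Or.inr (mem_centralizer_of_kill h2 hk3 hG hN hK)
    simp only [Kill, not_forall] at hK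
    obtain ⟨P, hP, h⟩ := hK
    obtain ⟨x, y, hx, hy, he, hgy, hlt, hxy⟩ := exists_peel_unit' h2 hk3 hg hN hP h
    have hA : sameActionSubgroup G x ∈ quadraticRootSubgroups G := ⟨x, hx, rfl⟩
    refine Or.inl ⟨_, hA, ?_⟩
    have hxm := member_le_partGroup (part_self hA) (self_mem hx)
    have hfin : (∀ z ∈ partGroup G (sameActionSubgroup G x), z * y = y * z) →
        g ∈ partGroup G (sameActionSubgroup G x) := by
      intro hc
      have h0 : (y : E) - 1 = 0 := eq_zero_of_annihilate h2 hk3 hG hx (fun z hz => by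
        rw [mul_sub, sub_mul, mul_one, one_mul, ← Units.val_mul, ← Units.val_mul, hc z hz]) hxy
      rw [he, show y = 1 from Units.ext (sub_eq_zero.mp h0), mul_one]
      exact hxm
    rcases ih _ (lt_of_lt_of_le hlt hn) y hy hgy le_rfl with ⟨B, -, hyB⟩ | hyC
    · by_cases hp : part G B = part G (sameActionSubgroup G x)
      · rw [he]
        exact mul_mem hxm (by rw [partGroup, ← hp]; exact hyB)
      · exact hfin fun z hz =>
          (comm_of_commutator_eq_bot (commute_parts h2 hk3 hG hp) hyB hz).symm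
    · exact hfin fun z hz => Subgroup.mem_centralizer_iff.mp hyC z (partGroup_le_rootGroup _ hz)

/-- A quadratic element lies in one component group or centralizes the root part. -/
theorem dichotomy (h2 : (2 : k) ≠ 0) (hk3 : Nat.card k ≠ 3) (hG : IsQuadraticPair G) {g : GL}
    (hg : g ∈ quadraticElements G) :
    (∃ A ∈ quadraticRootSubgroups G, g ∈ partGroup G A) ∨
      g ∈ Subgroup.centralizer (rootGroup G : Set GL) :=
  dichotomy_aux h2 hk3 hG _ g hg.1 (mem_quadratic_iff.mp hg).1 le_rfl

end Cfsg.Agent.Lib.QuadPair
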