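import Cfsg.Agent.Lib.QuadPair.TypeTwo
import Cfsg.Agent.Lib.RootSubgroups.Unipotent

/-! A pair with `N P N = 0 = P N P` generates a unipotent group. -/

namespace Cfsg.Agent.Lib.QuadPair

open Cfsg.Agent.Lib.RootSubgroups

variable {k : Type*} [Field k] {M : Type*} [AddCommGroup M] [Module k M]
  {G : Subgroup (LinearMap.GeneralLinearGroup k M)}

local notation "E" => (M →ₗ[k] M)

/-- A set of square zero maps with all triple products zero. -/
theorem isUnipotentOn_of_span (S : Set E) (H : Subgroup (LinearMap.GeneralLinearGroup k M))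
    (T : Set (LinearMap.GeneralLinearGroup k M)) (hH : H = Subgroup.closure T)
    (hT : ∀ t ∈ T, (t : E) - 1 ∈ Submodule.span k S ∧
      ((t⁻¹ : LinearMap.GeneralLinearGroup k M) : E) - 1 ∈ Submodule.span k S)
    (h3 : ∀ a ∈ S, ∀ b ∈ S, ∀ c ∈ S, a * b * c = 0) : IsUnipotentOn H := by
  set W : Submodule k E := Submodule.span k S ⊔ Submodule.span k S ^ 2 with hW
  have h30 : Submodule.span k S ^ 3 = ⊥ := by
    rw [pow_succ, sq, Submodule.span_mul_span, Submodule.span_mul_span, Submodule.span_eq_bot]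
    rintro _ ⟨_, ⟨a, ha, b, hb, rfl⟩, c, hc, rfl⟩
    exact h3 a ha b hb c hc
  have hmul : ∀ x ∈ Submodule.span k S, ∀ w ∈ W, x * w ∈ W := by
    intro x hx w hw
    obtain ⟨y, hy, z, hz, rfl⟩ := Submodule.mem_sup.mp hw
    rw [mul_add]
    refine add_mem (Submodule.mem_sup_right (by rw [sq]; exact Submodule.mul_mem_mul hx hy)) ?_
    have hxz : x * z ∈ Submodule.span k S ^ 3 := by rw [pow_succ']; exact Submodule.mul_mem_mul hx hz
    rw [h30, Submodule.mem_bot] at hxz
    rw [hxz]; exact zero_mem _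
  have hmem : ∀ g ∈ H, (g : E) - 1 ∈ W := by
    intro g hg
    rw [hH] at hg
    induction hg using Subgroup.closure_induction_left with
    | one => simp
    | mul_left x hx y _ ih =>
      rw [show ((x * y : LinearMap.GeneralLinearGroup k M) : E) - 1 =
        ((x : E) - 1) + ((y : E) - 1) + ((x : E) - 1) * ((y : E) - 1) by
          rw [Units.val_mul]; noncomm_ring]
      exact add_mem (add_mem (Submodule.mem_sup_left (hT x hx).1) ih) (hmul _ (hT x hx).1 _ ih)
    | inv_mul_cancel x hx y _ ih =>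
      rw [show ((x⁻¹ * y : LinearMap.GeneralLinearGroup k M) : E) - 1 =
        ((x⁻¹ : LinearMap.GeneralLinearGroup k M) : E) - 1 + ((y : E) - 1) +
          (((x⁻¹ : LinearMap.GeneralLinearGroup k M) : E) - 1) * ((y : E) - 1) by
          rw [Units.val_mul]; noncomm_ring]
      exact add_mem (add_mem (Submodule.mem_sup_left (hT x hx).2) ih) (hmul _ (hT x hx).2 _ ih)
  refine Unipotent.isUnipotentOn_iff.mpr ⟨3, le_bot_iff.mp ((pow_le_pow_left' (Unipotent.aug_le hmem) 3).trans ?_)⟩
  have h2le : Submodule.span k S * Submodule.span k S ≤ W := by rw [← sq]; exact le_sup_right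
  have h4 : ∀ j, 3 ≤ j → Submodule.span k S ^ j = ⊥ := fun j hj => by
    rw [show j = (j - 3) + 3 by omega, pow_add, h30, Submodule.mul_bot]
  rw [pow_succ, pow_succ, pow_one, hW]
  simp only [← Submodule.add_eq_sup, mul_add, add_mul]
  simp only [← pow_succ, ← pow_succ', ← pow_add, ← sq]
  simp [h30, h4, ← pow_mul, ← pow_succ]

theorem scalar_unit_inv {N : E} (hN : N * N = 0) {t : LinearMap.GeneralLinearGroup k M} {c : k}
    (ht : (t : E) = 1 + c • N) :
    ((t⁻¹ : LinearMap.GeneralLinearGroup k M) : E) = 1 + (-c) • N := by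
  refine Units.inv_eq_of_mul_eq_one_right ?_
  rw [ht, neg_smul, ← sub_eq_add_neg, one_add_mul_one_sub (by rw [smul_mul_smul_comm, hN, smul_zero])]

/-- An annihilating pair generates a unipotent group. -/
theorem isUnipotentOn_pair {N P : E} (hN : N * N = 0) (hP : P * P = 0) (h1 : N * P * N = 0)
    (h2 : P * N * P = 0) :
    IsUnipotentOn (Subgroup.closure
      ({τ : LinearMap.GeneralLinearGroup k M | ∃ c : k, (τ : E) = 1 + c • N} ∪
        {τ : LinearMap.GeneralLinearGroup k M | ∃ c : k, (τ : E) = 1 + c • P})) := by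
  refine isUnipotentOn_of_span {N, P} _ _ rfl ?_ ?_
  · rintro t (⟨c, hc⟩ | ⟨c, hc⟩)
    · rw [scalar_unit_inv hN hc, hc, add_sub_cancel_left, add_sub_cancel_left]
      exact ⟨Submodule.smul_mem _ _ (Submodule.subset_span (by simp)),
        Submodule.smul_mem _ _ (Submodule.subset_span (by simp))⟩
    · rw [scalar_unit_inv hP hc, hc, add_sub_cancel_left, add_sub_cancel_left]
      exact ⟨Submodule.smul_mem _ _ (Submodule.subset_span (by simp)),
        Submodule.smul_mem _ _ (Submodule.subset_span (by simp))⟩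
  · intro a ha b hb c hc
    simp only [Set.mem_insert_iff, Set.mem_singleton_iff] at ha hb hc
    rcases ha with ha | ha <;> rcases hb with hb | hb <;> rcases hc with hc | hc <;> rw [ha, hb, hc] <;>
      simp [h1, h2, hN, hP, mul_assoc _ N N, mul_assoc _ P P]

end Cfsg.Agent.Lib.QuadPair
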