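import Cfsg.Agent.Lib.QuadPair.Bijective

/-! A pair with `NP` bijective on the image of `N` generates `SL(2, k(λ))`. -/

namespace Cfsg.Agent.Lib.QuadPair

open Polynomial
open scoped MatrixGroups

variable {k : Type*} [Field k] {M : Type*} [AddCommGroup M] [Module k M]
  {G : Subgroup (LinearMap.GeneralLinearGroup k M)}

local notation "E" => (M →ₗ[k] M)

/-- `N P` is bijective on the image of `N` and `P N` on the image of `P`. -/
structure TypeTwo (G : Subgroup (LinearMap.GeneralLinearGroup k M)) (N P : E) : Prop where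
  min_left : IsMin G N
  min_right : IsMin G P
  range_left : LinearMap.range (N * P * N) = LinearMap.range N
  range_right : LinearMap.range (P * N * P) = LinearMap.range P

theorem TypeTwo.symm {N P : E} (h : TypeTwo G N P) : TypeTwo G P N :=
  ⟨h.min_right, h.min_left, h.range_right, h.range_left⟩

theorem TypeTwo.kills_right {N P : E} (h : TypeTwo G N P) {q : k[X]}
    (hq : aeval (cu N P) q * N = 0) : aeval (cu N P) q * P = 0 := by
  refine LinearMap.ext fun m => ?_
  obtain ⟨y, hy⟩ : P m ∈ LinearMap.range (P * N * P) := by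
    rw [h.range_right]; exact ⟨m, rfl⟩
  have e : aeval (cu N P) q * (P * N * P) = 0 := by
    rw [← mul_assoc, ← mul_assoc, aeval_comm_right h.min_right.good.sq, mul_assoc P, hq, mul_zero,
      zero_mul]
  rw [Module.End.mul_apply, ← hy, ← Module.End.mul_apply, e]
  rfl

theorem TypeTwo.kills_left {N P : E} (h : TypeTwo G N P) {q : k[X]}
    (hq : aeval (cu N P) q * P = 0) : aeval (cu N P) q * N = 0 := by
  have := h.symm.kills_right (q := q) (by rwa [cu_comm_symm])
  rwa [cu_comm_symm] at this

theorem TypeTwo.kills_X {N P : E} (h : TypeTwo G N P) {q : k[X]}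
    (hq : aeval (cu N P) (X * q) * N = 0) : aeval (cu N P) q * N = 0 := by
  refine LinearMap.ext fun m => ?_
  obtain ⟨y, hy⟩ : N m ∈ LinearMap.range (N * P * N) := by
    rw [h.range_left]; exact ⟨m, rfl⟩
  have e : aeval (cu N P) q * (N * P * N) = 0 := by
    rw [mul_assoc N, NP_N h.min_left.good.sq h.min_right.good.sq, ← mul_assoc, ← hq, mul_comm X q,
      map_mul, aeval_X]
  rw [Module.End.mul_apply, ← hy, ← Module.End.mul_apply, e]
  rfl

/-- The ring `k[u]` acting on the images of `N` and `P`. -/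
abbrev Bring (N P : E) : Type _ := k[X] ⧸ nullIdeal (k := k) N P

/-- The projection. -/
noncomputable def proj (N P : E) : k[X] →ₐ[k] Bring N P := Ideal.Quotient.mkₐ k _

theorem proj_eq_zero {N P : E} {q : k[X]} : proj N P q = 0 ↔ aeval (cu N P) q * N = 0 :=
  Ideal.Quotient.eq_zero_iff_mem.trans mem_nullIdeal

theorem TypeTwo.compat {N P : E} (h : TypeTwo G N P) : Compat (proj N P) N P where
  square_left := h.min_left.good.sq
  square_right := h.min_right.good.sq
  ker q hq := ⟨proj_eq_zero.mp hq, h.kills_right (proj_eq_zero.mp hq)⟩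
  ker_X q hq := ⟨h.kills_X (proj_eq_zero.mp hq), h.kills_right (h.kills_X (proj_eq_zero.mp hq))⟩

theorem proj_surjective {N P : E} : Function.Surjective (proj N P) :=
  Ideal.Quotient.mk_surjective

theorem proj_gen {N P : E} (a : Bring N P) : ∃ q : k[X], a = aeval (proj N P X) q := by
  obtain ⟨q, rfl⟩ := proj_surjective a
  exact ⟨q, by rw [aeval_algHom_apply, aeval_X_left_apply]⟩

variable [FiniteDimensional k M]

instance (N P : E) : Module.Finite k (Bring N P) := by
  have hm : (minpoly k (cu N P)).Monic := minpoly.monic (IsIntegral.of_finite k _)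
  have : Module.Finite k (k[X] ⧸ Ideal.span {minpoly k (cu N P)}) :=
    (AdjoinRoot.powerBasis' hm).finite
  have hle : Ideal.span {minpoly k (cu N P)} ≤ nullIdeal (k := k) N P := by
    rw [Ideal.span_singleton_le_iff_mem, mem_nullIdeal, minpoly.aeval, zero_mul]
  let f : (k[X] ⧸ Ideal.span {minpoly k (cu N P)}) →ₐ[k] Bring N P := Ideal.Quotient.factorₐ k hle
  exact Module.Finite.of_surjective f.toLinearMap (Ideal.Quotient.factor_surjective hle)

theorem isUnit_of_cancel {A : Type*} [CommRing A] [Algebra k A] [Module.Finite k A] {a : A}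
    (h : ∀ b, a * b = 0 → b = 0) : IsUnit a := by
  have hinj : Function.Injective (LinearMap.mulLeft k a) :=
    (injective_iff_map_eq_zero _).mpr h
  obtain ⟨b, hb⟩ := LinearMap.injective_iff_surjective.mp hinj 1
  exact IsUnit.of_mul_eq_one b hb

theorem TypeTwo.isUnit_X {N P : E} (h : TypeTwo G N P) : IsUnit (proj N P X) :=
  isUnit_of_cancel (k := k) fun b hb => by
    obtain ⟨q, rfl⟩ := proj_surjective b
    rw [← map_mul] at hb
    exact proj_eq_zero.mpr (h.kills_X (proj_eq_zero.mp hb))

theorem TypeTwo.isMaximal (h2 : (2 : k) ≠ 0) (hk3 : Nat.card k ≠ 3) {N P : E}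
    (h : TypeTwo G N P) : (nullIdeal (k := k) N P).IsMaximal := by
  have hunit : ∀ f ∈ lam k (proj N P X), f ≠ 0 → IsUnit f := by
    intro f hf hf0
    obtain ⟨b, rfl⟩ := proj_surjective f
    have hg := good_of_lam h.compat h.min_left.good h.min_right.good hf
    have hne : aeval (cu N P) b * N ≠ 0 := fun e => hf0 (proj_eq_zero.mpr e)
    have hr : LinearMap.range (aeval (cu N P) b * N) = LinearMap.range N :=
      Submodule.eq_of_le_of_finrank_le
        (by rw [aeval_comm_left h.min_left.good.sq]; exact LinearMap.range_comp_le_range _ N)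
        (h.min_left.le_rk _ hg hne)
    refine isUnit_of_cancel (k := k) fun c hc => ?_
    obtain ⟨g, rfl⟩ := proj_surjective c
    rw [← map_mul, proj_eq_zero, mul_comm b g, map_mul, mul_assoc] at hc
    refine proj_eq_zero.mpr (LinearMap.ext fun m => ?_)
    obtain ⟨y, hy⟩ : N m ∈ LinearMap.range (aeval (cu N P) b * N) := by rw [hr]; exact ⟨m, rfl⟩
    rw [Module.End.mul_apply, ← hy, ← Module.End.mul_apply, hc]
    rfl
  have hnt : Nontrivial (Bring N P) := by
    refine ⟨⟨1, 0, fun e => h.min_left.ne_zero ?_⟩⟩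
    rw [← map_one (proj N P), proj_eq_zero, map_one, one_mul] at e
    exact e
  refine Ideal.Quotient.maximal_of_isField _ ⟨⟨1, 0, one_ne_zero⟩, mul_comm, fun {a} ha => ?_⟩
  exact (isUnit_of_ne_zero h2 hk3 proj_gen h.isUnit_X hunit ha).exists_right_inv

/-- The data needed for the homomorphism. -/
theorem TypeTwo.exists_rel_all (h2 : (2 : k) ≠ 0) (hk3 : Nat.card k ≠ 3) {N P : E}
    (h : TypeTwo G N P) (g : SL(2, Bring N P)) : ∃ x ∈ vals G, Rel (proj N P) N P g x := by
  have := h.isMaximal h2 hk3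
  let := Ideal.Quotient.field (nullIdeal (k := k) N P)
  have htop := gamma_eq_top h2 hk3 proj_gen h.isUnit_X.ne_zero
  exact h.compat.exists_rel h.min_left.good.mem h.min_right.good.mem (by rw [htop]; trivial)

/-- The homomorphism from `SL₂` onto the group generated by the pair. -/
noncomputable def TypeTwo.hom (h2 : (2 : k) ≠ 0) (hk3 : Nat.card k ≠ 3) {N P : E}
    (h : TypeTwo G N P) : SL(2, Bring N P) →* LinearMap.GeneralLinearGroup k M :=
  MonoidHom.toHomUnits
    { toFun := fun g => (h.exists_rel_all h2 hk3 g).choose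
      map_one' := h.compat.rel_unique (h.exists_rel_all h2 hk3 1).choose_spec.2 rel_one
      map_mul' := fun g g' => h.compat.rel_unique (h.exists_rel_all h2 hk3 (g * g')).choose_spec.2
        (h.compat.rel_mul (h.exists_rel_all h2 hk3 g).choose_spec.2
          (h.exists_rel_all h2 hk3 g').choose_spec.2) }

theorem TypeTwo.rel_hom {h2 : (2 : k) ≠ 0} {hk3 : Nat.card k ≠ 3} {N P : E}
    (h : TypeTwo G N P) (g : SL(2, Bring N P)) :
    Rel (proj N P) N P g (h.hom h2 hk3 g : E) :=
  (h.exists_rel_all h2 hk3 g).choose_spec.2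

theorem TypeTwo.hom_mem {h2 : (2 : k) ≠ 0} {hk3 : Nat.card k ≠ 3} {N P : E}
    (h : TypeTwo G N P) (g : SL(2, Bring N P)) : h.hom h2 hk3 g ∈ G := by
  obtain ⟨x, hx, he⟩ := mem_vals.mp (h.exists_rel_all h2 hk3 g).choose_spec.1
  rwa [show h.hom h2 hk3 g = x from Units.ext he.symm]

theorem TypeTwo.hom_up {h2 : (2 : k) ≠ 0} {hk3 : Nat.card k ≠ 3} {N P : E}
    (h : TypeTwo G N P) (q : k[X]) :
    (h.hom h2 hk3 (up (proj N P q)) : E) = 1 + aeval (cu N P) q * N :=
  h.compat.rel_unique (h.rel_hom _) ⟨0, 0, q, 0, by simp, by simp, by simp, by simp, by simp [F]⟩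

theorem TypeTwo.hom_low {h2 : (2 : k) ≠ 0} {hk3 : Nat.card k ≠ 3} {N P : E}
    (h : TypeTwo G N P) (q : k[X]) :
    (h.hom h2 hk3 (low (proj N P (X * q))) : E) = 1 + aeval (cu N P) q * P :=
  h.compat.rel_unique (h.rel_hom _) ⟨0, 0, 0, q, by simp, by simp, by simp, by simp, by simp [F]⟩

theorem TypeTwo.hom_injective {h2 : (2 : k) ≠ 0} {hk3 : Nat.card k ≠ 3} {N P : E}
    (h : TypeTwo G N P) : Function.Injective (h.hom h2 hk3) := by
  rw [injective_iff_map_eq_one]
  intro g hg
  obtain ⟨α, δ, b, c, e00, e01, e10, e11, he⟩ := h.rel_hom (h2 := h2) (hk3 := hk3) g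
  rw [hg, Units.val_one, F, add_assoc, add_assoc, add_assoc] at he
  have hY := (left_eq_add.mp he)
  have hN := h.min_left.good.sq
  have hP := h.min_right.good.sq
  have cN := aeval_comm_left (k := k) (P := P) hN
  have cP := aeval_comm_right (k := k) (N := N) hP
  have mN : ∀ (q : k[X]) (w : E), N * (aeval (cu N P) q * w) = aeval (cu N P) q * (N * w) :=
    fun q w => by rw [← mul_assoc, ← cN, mul_assoc]
  have mP : ∀ (q : k[X]) (w : E), P * (aeval (cu N P) q * w) = aeval (cu N P) q * (P * w) :=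
    fun q w => by rw [← mul_assoc, ← cP, mul_assoc]
  have hNw : ∀ w : E, N * (N * w) = 0 := fun w => by rw [← mul_assoc, hN, zero_mul]
  have hPw : ∀ w : E, P * (P * w) = 0 := fun w => by rw [← mul_assoc, hP, zero_mul]
  have hNPN : N * (P * N) = aeval (cu N P) (X : k[X]) * N := by rw [aeval_X]; exact NP_N hN hP
  have hPNP : P * (N * P) = aeval (cu N P) (X : k[X]) * P := by
    rw [aeval_X, NP_N hP hN, cu_comm_symm]
  have kc : aeval (cu N P) (X * c) * N = 0 := by
    have := congrArg (fun Y => N * Y * N) hY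
    simp only [mul_add, add_mul, mul_assoc, mN, hN, hNw, mul_zero, add_zero, zero_add, zero_mul,
      hNPN] at this
    rw [mul_comm X c, map_mul, mul_assoc]
    simpa [eq_comm] using this
  have kb : aeval (cu N P) (X * b) * P = 0 := by
    have := congrArg (fun Y => P * Y * P) hY
    simp only [mul_add, add_mul, mul_assoc, mP, hP, hPw, mul_zero, add_zero, zero_add, zero_mul,
      hPNP] at this
    rw [mul_comm X b, map_mul, mul_assoc]
    simpa [eq_comm] using this
  have hc0 := h.kills_X kc
  have hb0 := h.kills_X (h.kills_left kb)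
  have hc1 := h.kills_right hc0
  have hb1 := h.kills_right hb0
  have ka : aeval (cu N P) (X * α) * N = 0 := by
    have := congrArg (fun Y => Y * N) hY
    simp only [add_mul, mul_assoc, hN, mul_zero, add_zero, zero_add, zero_mul, hNPN] at this
    rw [← mul_assoc (aeval (cu N P) c) P N, hc1, zero_mul, add_zero] at this
    rw [mul_comm X α, map_mul, mul_assoc]
    exact this
  have kd : aeval (cu N P) (X * δ) * P = 0 := by
    have := congrArg (fun Y => Y * P) hY
    simp only [add_mul, mul_assoc, hP, mul_zero, add_zero, zero_add, zero_mul, hPNP] at this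
    rw [← mul_assoc (aeval (cu N P) b) N P, hb0, zero_mul, add_zero] at this
    rw [mul_comm X δ, map_mul, mul_assoc]
    exact this
  have z00 : proj N P (X * α) = 0 := proj_eq_zero.mpr ka
  have z01 : proj N P b = 0 := proj_eq_zero.mpr hb0
  have z10 : proj N P (X * c) = 0 := proj_eq_zero.mpr kc
  have z11 : proj N P (X * δ) = 0 := proj_eq_zero.mpr (h.kills_left kd)
  rw [map_add, map_one, z00, add_zero] at e00
  rw [map_add, map_one, z11, add_zero] at e11
  exact ext2 (by simpa using e00) (by simpa [z01] using e01) (by simpa [z10] using e10)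
    (by simpa using e11)

theorem TypeTwo.hom_range {h2 : (2 : k) ≠ 0} {hk3 : Nat.card k ≠ 3} {N P : E}
    (h : TypeTwo G N P) :
    (h.hom h2 hk3).range = Subgroup.closure
      ({τ : LinearMap.GeneralLinearGroup k M | ∃ c : k, (τ : E) = 1 + c • N} ∪
        {τ : LinearMap.GeneralLinearGroup k M | ∃ c : k, (τ : E) = 1 + c • P}) := by
  have := h.isMaximal h2 hk3
  let := Ideal.Quotient.field (nullIdeal (k := k) N P)
  have htop := gamma_eq_top h2 hk3 proj_gen h.isUnit_X.ne_zero
  rw [MonoidHom.range_eq_map, ← htop, gamma, MonoidHom.map_closure, Set.image_union,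
    ← Set.range_comp, ← Set.range_comp]
  have hupc : ∀ c : k, (h.hom h2 hk3 (up (algebraMap k (Bring N P) c)) : E) = 1 + c • N := by
    intro c
    rw [← (proj N P).commutes, ← C_eq_algebraMap, h.hom_up, aeval_C, Algebra.smul_def]
  have hlowc : ∀ c : k,
      (h.hom h2 hk3 (low (algebraMap k (Bring N P) c * proj N P X)) : E) = 1 + c • P := by
    intro c
    rw [← (proj N P).commutes, ← C_eq_algebraMap, ← map_mul, mul_comm, h.hom_low, aeval_C,
      Algebra.smul_def]
  congr 2 <;> ext τ
  · exact ⟨fun ⟨c, hc⟩ => ⟨c, hc ▸ hupc c⟩, fun ⟨c, hc⟩ => ⟨c, Units.ext ((hupc c).trans hc.symm)⟩⟩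
  · exact ⟨fun ⟨c, hc⟩ => ⟨c, hc ▸ hlowc c⟩, fun ⟨c, hc⟩ => ⟨c, Units.ext ((hlowc c).trans hc.symm)⟩⟩

end Cfsg.Agent.Lib.QuadPair
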